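import Cfsg.Agent.Lib.helper17.OnOut.Cent
import Cfsg.Agent.Lib.helper17.OnOut.TabA
import Cfsg.Agent.Lib.helper17.OnOut.TabB
import Cfsg.Agent.Lib.helper17.OnOut.TabC
import Cfsg.Agent.Lib.helper17.OnOut.TabD
import Cfsg.Agent.Lib.helper17.OnOut.TabE
import Cfsg.Agent.Lib.helper17.OnOut.TabF
import Cfsg.Agent.Lib.helper17.OnOut.TabG
import Cfsg.Agent.Lib.helper17.OnOut.TabGi
import Cfsg.Agent.Lib.helper17.OnOut.TabS1
import Cfsg.Agent.Lib.helper17.OnOut.TabS2

set_option autoImplicit false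

/-! The action of the eight letters of the O'Nan group on 122760 points, from the flat tables
(helper17). -/

namespace Cfsg.Agent.Lib.helper17.OnOut

/-- the action of the letter `s` on the point `p`, both to be given as numerals -/
noncomputable def apON (s p : ℕ) : ℕ :=
  @Bool.rec (fun _ => ℕ)
    (@Bool.rec (fun _ => ℕ)
      (@Bool.rec (fun _ => ℕ) (lkT selA p) (lkT selB p) (Nat.ble 1 s))
      (@Bool.rec (fun _ => ℕ) (lkT selC p) (lkT selD p) (Nat.ble 3 s))
      (Nat.ble 2 s))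
    (@Bool.rec (fun _ => ℕ)
      (@Bool.rec (fun _ => ℕ) (lkT selE p) (lkT selF p) (Nat.ble 5 s))
      (@Bool.rec (fun _ => ℕ) (lkT selG p)
        (@Bool.rec (fun _ => ℕ) (lkT selGi p) p (Nat.ble 8 s)) (Nat.ble 7 s))
      (Nat.ble 6 s))
    (Nat.ble 4 s)

theorem apON_0 (p : ℕ) : apON 0 p = lkT selA p := rfl
theorem apON_1 (p : ℕ) : apON 1 p = lkT selB p := rfl
theorem apON_2 (p : ℕ) : apON 2 p = lkT selC p := rfl
theorem apON_3 (p : ℕ) : apON 3 p = lkT selD p := rfl
theorem apON_4 (p : ℕ) : apON 4 p = lkT selE p := rfl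
theorem apON_5 (p : ℕ) : apON 5 p = lkT selF p := rfl
theorem apON_6 (p : ℕ) : apON 6 p = lkT selG p := rfl
theorem apON_7 (p : ℕ) : apON 7 p = lkT selGi p := rfl

theorem apON_ge (s p : ℕ) (h : 8 ≤ s) : apON s p = p := by
  have h1 : Nat.ble 4 s = true := Nat.ble_eq_true_of_le (by omega)
  have h2 : Nat.ble 6 s = true := Nat.ble_eq_true_of_le (by omega)
  have h3 : Nat.ble 7 s = true := Nat.ble_eq_true_of_le (by omega)
  have h4 : Nat.ble 8 s = true := Nat.ble_eq_true_of_le (by omega)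
  unfold apON
  rw [h1, h2, h3, h4]

end Cfsg.Agent.Lib.helper17.OnOut
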