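import Cfsg.Agent.Lib.helper17.OnOut.Sift

set_option autoImplicit false

/-! The search for the centraliser of an element which moves the first base point to the second
and the second to the third: the kernel-evaluated test of one point and its meaning (helper17). -/

namespace Cfsg.Agent.Lib.helper17.OnOut

open Cfsg.Agent.Lib.Helper12.TC

/-- bit `z` of `m` -/
def tb (m z : ℕ) : Bool := Nat.beq (Nat.land (Nat.shiftRight m z) 1) 1

/-- the test of one point `q`: either it is exempt, or no element of the group maps the three base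
points to `q`, `x q`, `x (x q)` -/
def centQ (ap : ℕ → ℕ → ℕ) (sv1 sv2 : ℕ → ℕ) (m3 ex b1 b2 f1 f2 : ℕ) (xw : List ℕ) (q0 : ℕ) : Bool :=
  forceN q0 fun q =>
  @Bool.rec (fun _ => Bool)
    (forceN (evw ap xw q) fun y1 => forceN (evw ap xw y1) fun y2 =>
      walk2 ap sv1 8 b1
        (fun z2 z3 => @Bool.rec (fun _ => Bool)
          (walk1 ap sv2 6 b2 (fun z => @Bool.rec (fun _ => Bool) true false (tb m3 z)) f2 z2 z3)
          true (Nat.beq (sv2 z2) 15))
        f1 q y1 y2)
    true (tb ex q)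

/-- a test on a range of numbers -/
def rangeK (f : ℕ → Bool) (lo len : ℕ) : Bool := allBelowK len (fun i => f (Nat.add lo i))

theorem rangeK_sound (f : ℕ → Bool) (lo len : ℕ) (h : rangeK f lo len = true) (q : ℕ)
    (h1 : lo ≤ q) (h2 : q < lo + len) : f q = true := by
  have := (allBelowK_iff len _).mp h (q - lo) (by omega)
  have e : Nat.add lo (q - lo) = q := by show lo + (q - lo) = q; omega
  rw [e] at this
  exact this

theorem cover_of_chunks (f : ℕ → Bool) (L k : ℕ) (hL : 0 < L)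
    (h : ∀ j < k, rangeK f (Nat.mul j L) L = true) : ∀ q < k * L, f q = true := by
  intro q hq
  have hj : q / L < k := (Nat.div_lt_iff_lt_mul hL).mpr hq
  refine rangeK_sound f _ L (h (q / L) hj) q ?_ ?_
  · show q / L * L ≤ q
    exact Nat.div_mul_le_self q L
  · show q < q / L * L + L
    have := Nat.lt_div_mul_add (a := q) hL
    omega

/-- a range covered by consecutive shorter ranges -/
theorem cover_part (f : ℕ → Bool) (j0 L k : ℕ) (hL : 0 < L)
    (h : ∀ i < k, rangeK f (Nat.mul (j0 + i) L) L = true) :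
    ∀ q, j0 * L ≤ q → q < (j0 + k) * L → f q = true := by
  intro q h1 h2
  have hj1 : j0 ≤ q / L := (Nat.le_div_iff_mul_le hL).mpr h1
  have hj2 : q / L < j0 + k := (Nat.div_lt_iff_lt_mul hL).mpr h2
  have e : j0 + (q / L - j0) = q / L := by omega
  have := h (q / L - j0) (by omega)
  rw [e] at this
  refine rangeK_sound f _ L this q ?_ ?_
  · show q / L * L ≤ q
    exact Nat.div_mul_le_self q L
  · show q < q / L * L + L
    have := Nat.lt_div_mul_add (a := q) hL
    omega

/-- membership in a list of numbers -/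
def elemK (z : ℕ) (l : List ℕ) : Bool :=
  @List.rec ℕ (fun _ => Bool) false (fun a _ ih => cond (Nat.beq z a) true ih) l

theorem elemK_iff (z : ℕ) (l : List ℕ) : elemK z l = true ↔ z ∈ l := by
  induction l with
  | nil => simp [elemK]
  | cons a l ih =>
    have e : elemK z (a :: l) = cond (Nat.beq z a) true (elemK z l) := rfl
    rw [e, List.mem_cons]
    cases hb : Nat.beq z a with
    | true =>
      simp only [cond_true, true_iff]
      exact Or.inl (Nat.eq_of_beq_eq_true hb)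
    | false =>
      simp only [cond_false]
      rw [ih]
      constructor
      · exact Or.inr
      · rintro (h | h)
        · rw [h, Nat.beq_refl] at hb; exact absurd hb (by simp)
        · exact h

section Sound

variable {G : Type*} [Group G] {n : ℕ} {ρ : G →* Equiv.Perm (Fin n)} {v : ℕ → G}
  {ap : ℕ → ℕ → ℕ}

theorem perm_inv_apply_self (f : Equiv.Perm (Fin n)) (p : Fin n) : f⁻¹ (f p) = p :=
  Equiv.Perm.inv_eq_iff_eq.mpr rfl

theorem centQ_sound (hs : Sem ρ v ap) (b1 b2 b3 : Fin n) (sv1 sv2 : ℕ → ℕ) (m3 ex f1 f2 : ℕ) (xw : List ℕ)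
    (hS6 : ∀ s < 6, ρ (v s) b1 = b1)
    (hx1 : ρ (wprod v xw) b1 = b2) (hx2 : ρ (wprod v xw) b2 = b3)
    (hi : ∀ g : G, ρ g b1 = b1 → Nat.beq (sv2 (ρ g b2).1) 15 = false)
    (hii : ∀ g : G, ρ g b1 = b1 → ρ g b2 = b2 → tb m3 (ρ g b3).1 = true)
    (h : G) (hcomm : h * wprod v xw = wprod v xw * h)
    (hq : centQ ap sv1 sv2 m3 ex b1.1 b2.1 f1 f2 xw (ρ h b1).1 = true) :
    tb ex (ρ h b1).1 = true := by
  by_contra hne
  have hex : tb ex (ρ h b1).1 = false := by simpa using hne
  unfold centQ at hq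
  rw [forceN_eq, hex] at hq
  simp only [forceN_eq] at hq
  have e1 : evw ap xw (ρ h b1).1 = (ρ h b2).1 := by
    rw [← sem_evw hs xw (ρ h b1), ← hx1, ← Equiv.Perm.mul_apply, ← Equiv.Perm.mul_apply, ← map_mul,
      ← map_mul, hcomm]
  have e2 : evw ap xw (ρ h b2).1 = (ρ h b3).1 := by
    rw [← sem_evw hs xw (ρ h b2), ← hx2, ← Equiv.Perm.mul_apply, ← Equiv.Perm.mul_apply, ← map_mul,
      ← map_mul, hcomm]
  rw [e1, e2] at hq
  obtain ⟨t, -, ht1, ht2⟩ := walk2_sound hs ⊤ sv1 8 (fun _ _ => Subgroup.mem_top _) b1 _ f1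
    (ρ h b1) (ρ h b2) (ρ h b3) hq
  have hg1 : ρ (t⁻¹ * h) b1 = b1 := by
    rw [map_mul, map_inv, Equiv.Perm.mul_apply, ← ht1]
    exact perm_inv_apply_self _ _
  have hz2 : (ρ t)⁻¹ (ρ h b2) = ρ (t⁻¹ * h) b2 := by rw [map_mul, map_inv]; rfl
  have hz3 : (ρ t)⁻¹ (ρ h b3) = ρ (t⁻¹ * h) b3 := by rw [map_mul, map_inv]; rfl
  rw [hz2, hz3, hi _ hg1] at ht2
  simp only [] at ht2
  obtain ⟨t2, ht2S, ht21, ht22⟩ := walk1_sound hs
    ((MulAction.stabilizer (Equiv.Perm (Fin n)) b1).comap ρ) sv2 6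
    (fun s hs6 => by
      show ρ (v s) ∈ MulAction.stabilizer (Equiv.Perm (Fin n)) b1
      rw [MulAction.mem_stabilizer_iff]
      exact hS6 s hs6) b2 _ f2 _ _ ht2
  have ht2b : ρ t2 b1 = b1 := by
    have : ρ t2 ∈ MulAction.stabilizer (Equiv.Perm (Fin n)) b1 := ht2S
    rw [MulAction.mem_stabilizer_iff] at this
    exact this
  have hb1 : ρ (t2⁻¹ * (t⁻¹ * h)) b1 = b1 := by
    rw [map_mul, map_inv, Equiv.Perm.mul_apply, hg1]
    nth_rewrite 1 [← ht2b]
    exact perm_inv_apply_self _ _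
  have hb2 : ρ (t2⁻¹ * (t⁻¹ * h)) b2 = b2 := by
    rw [map_mul, map_inv, Equiv.Perm.mul_apply, ← ht21]
    exact perm_inv_apply_self _ _
  have hz : (ρ t2)⁻¹ (ρ (t⁻¹ * h) b3) = ρ (t2⁻¹ * (t⁻¹ * h)) b3 := by
    rw [map_mul (f := ρ) t2⁻¹, map_inv]; rfl
  rw [hz, hii _ hb1 hb2] at ht22
  exact absurd ht22 (by simp)

/-- the action of a power of a word -/
def powev (ap : ℕ → ℕ → ℕ) (gw : List ℕ) (k p : ℕ) : ℕ :=
  @Nat.rec (fun _ => ℕ) p (fun _ ih => evw ap gw ih) k

theorem sem_powev (hs : Sem ρ v ap) (gw : List ℕ) (k : ℕ) (p : Fin n) :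
    ((ρ (wprod v gw ^ k) p : Fin n) : ℕ) = powev ap gw k p.1 := by
  induction k with
  | zero => rw [pow_zero, map_one]; rfl
  | succ k ih =>
    rw [pow_succ', map_mul, Equiv.Perm.mul_apply, sem_evw hs, ih]
    rfl

/-- the test of a survivor which is not in the centraliser: the element mapping the base as required
does not map the fourth point as required -/
def spOK (ap : ℕ → ℕ → ℕ) (xw : List ℕ) (b1 b2 b3 b4 : ℕ) (e : ℕ × List ℕ) : Bool :=
  and (Nat.beq (evw ap e.2 b1) e.1)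
    (and (Nat.beq (evw ap e.2 b2) (evw ap xw e.1))
      (and (Nat.beq (evw ap e.2 b3) (evw ap xw (evw ap xw e.1)))
        (cond (Nat.beq (evw ap e.2 b4) (evw ap xw (evw ap xw (evw ap xw e.1)))) false true)))

/-- the test of a survivor in the centraliser: it is the image of the first base point under the
`k`-th power of the given element -/
def genOK (ap : ℕ → ℕ → ℕ) (gw : List ℕ) (b1 : ℕ) (e : ℕ × ℕ) : Bool :=
  Nat.beq (powev ap gw e.2 b1) e.1

/-- every exempt point is in one of the two lists -/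
def exOK (n ex : ℕ) (l1 l2 : List ℕ) : Bool :=
  allBelowK n (fun q => cond (tb ex q) (cond (elemK q l1) true (elemK q l2)) true)

theorem cent_final (hs : Sem ρ v ap) (b1 b2 b3 b4 : Fin n)
    (eqb : ∀ g h : G, ρ g b1 = ρ h b1 → ρ g b2 = ρ h b2 → ρ g b3 = ρ h b3 → g = h)
    (xw gw : List ℕ) (ex : ℕ)
    (hx1 : ρ (wprod v xw) b1 = b2) (hx2 : ρ (wprod v xw) b2 = b3) (hx3 : ρ (wprod v xw) b3 = b4)
    (hgx : wprod v gw * wprod v xw = wprod v xw * wprod v gw)
    (hall : ∀ h : G, h * wprod v xw = wprod v xw * h → tb ex (ρ h b1).1 = true)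
    (gens : List (ℕ × ℕ)) (sps : List (ℕ × List ℕ))
    (hA : exOK n ex (gens.map Prod.fst) (sps.map Prod.fst) = true)
    (hB : allListK sps (spOK ap xw b1.1 b2.1 b3.1 b4.1) = true)
    (hC : allListK gens (genOK ap gw b1.1) = true) :
    ∀ h : G, h * wprod v xw = wprod v xw * h → h ∈ Subgroup.zpowers (wprod v gw) := by
  intro h hcomm
  have hcommx : ∀ (g : G), g * wprod v xw = wprod v xw * g → ∀ p : Fin n,
      ρ g (ρ (wprod v xw) p) = ρ (wprod v xw) (ρ g p) := by
    intro g hg p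
    rw [← Equiv.Perm.mul_apply, ← Equiv.Perm.mul_apply, ← map_mul, ← map_mul, hg]
  have hex := hall h hcomm
  have hq := (allBelowK_iff n _).mp hA (ρ h b1).1 (ρ h b1).2
  rw [hex, cond_true] at hq
  -- the images of the base points under `h`
  have i2 : ρ h b2 = ρ (wprod v xw) (ρ h b1) := by rw [← hx1]; exact hcommx h hcomm b1
  have i3 : ρ h b3 = ρ (wprod v xw) (ρ (wprod v xw) (ρ h b1)) := by
    rw [← hx2, hcommx h hcomm b2, i2]
  have i4 : ρ h b4 = ρ (wprod v xw) (ρ (wprod v xw) (ρ (wprod v xw) (ρ h b1))) := by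
    rw [← hx3, hcommx h hcomm b3, i3]
  cases hg : elemK (ρ h b1).1 (gens.map Prod.fst) with
  | true =>
    obtain ⟨e, he, heq⟩ := List.mem_map.mp ((elemK_iff _ _).mp hg)
    have hc := (allListK_iff gens _).mp hC e he
    unfold genOK at hc
    have hc' := Nat.eq_of_beq_eq_true hc
    have hpow : (wprod v gw ^ e.2) * wprod v xw = wprod v xw * (wprod v gw ^ e.2) :=
      ((Commute.pow_left (show Commute (wprod v gw) (wprod v xw) from hgx) e.2)).eq
    have j1 : ρ (wprod v gw ^ e.2) b1 = ρ h b1 := by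
      apply Fin.ext
      rw [sem_powev hs, hc', heq]
    have j2 : ρ (wprod v gw ^ e.2) b2 = ρ h b2 := by
      rw [i2, ← j1, ← hx1]; exact hcommx _ hpow b1
    have j3 : ρ (wprod v gw ^ e.2) b3 = ρ h b3 := by
      rw [← hx2, hcommx _ hpow b2, j2, hcommx h hcomm b2]
    rw [← eqb _ _ j1 j2 j3]
    exact Subgroup.pow_mem _ (Subgroup.mem_zpowers _) _
  | false =>
    rw [hg, cond_false] at hq
    obtain ⟨e, he, heq⟩ := List.mem_map.mp ((elemK_iff _ _).mp hq)
    have hc := (allListK_iff sps _).mp hB e he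
    unfold spOK at hc
    simp only [Bool.and_eq_true] at hc
    obtain ⟨c1, c2, c3, c4⟩ := hc
    have c1' := Nat.eq_of_beq_eq_true c1
    have c2' := Nat.eq_of_beq_eq_true c2
    have c3' := Nat.eq_of_beq_eq_true c3
    have hq1 : e.1 = (ρ h b1).1 := heq
    have j1 : ρ (wprod v e.2) b1 = ρ h b1 := by
      apply Fin.ext
      rw [sem_evw hs, c1', heq]
    have j2 : ρ (wprod v e.2) b2 = ρ h b2 := by
      apply Fin.ext
      rw [sem_evw hs, c2', hq1, i2, sem_evw hs]
    have j3 : ρ (wprod v e.2) b3 = ρ h b3 := by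
      apply Fin.ext
      rw [sem_evw hs, c3', hq1, i3, sem_evw hs, sem_evw hs]
    have hgh := eqb _ _ j1 j2 j3
    exfalso
    have : Nat.beq (evw ap e.2 b4.1) (evw ap xw (evw ap xw (evw ap xw e.1))) = true := by
      rw [← sem_evw hs e.2 b4, hgh, i4, sem_evw hs, sem_evw hs, sem_evw hs, hq1]
      exact Nat.beq_refl _
    rw [this] at c4
    exact absurd c4 (by simp)

end Sound

end Cfsg.Agent.Lib.helper17.OnOut
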