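import Cfsg.Agent.Lib.Helper12.TCG.ONx122760.TabT
import Cfsg.Agent.Lib.helper17.OnOut.Cent
import Cfsg.Agent.Lib.helper17.OnOut.TabA

set_option autoImplicit false

/-! The table of the letter 0 agrees with the table of the coset enumeration (generated, helper17) -/

namespace Cfsg.Agent.Lib.helper17.OnOut

open Cfsg.Agent.Lib.Helper12.TC Cfsg.Agent.Lib.Helper12.TCG.ONx122760

/-- the comparison of the two tables at one point -/
noncomputable def tqA (p0 : Nat) : Bool := forceN p0 fun p => Nat.beq (TT 0 p) (lkT selA p)

theorem tchkA_0 : rangeK tqA (Nat.mul 0 8184) 8184 = true := by decide +kernel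

theorem tchkA_1 : rangeK tqA (Nat.mul 1 8184) 8184 = true := by decide +kernel

theorem tchkA_2 : rangeK tqA (Nat.mul 2 8184) 8184 = true := by decide +kernel

theorem tchkA_3 : rangeK tqA (Nat.mul 3 8184) 8184 = true := by decide +kernel

theorem tchkA_4 : rangeK tqA (Nat.mul 4 8184) 8184 = true := by decide +kernel

theorem tchkA_5 : rangeK tqA (Nat.mul 5 8184) 8184 = true := by decide +kernel

theorem tchkA_6 : rangeK tqA (Nat.mul 6 8184) 8184 = true := by decide +kernel

theorem tchkA_7 : rangeK tqA (Nat.mul 7 8184) 8184 = true := by decide +kernel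

theorem tchkA_8 : rangeK tqA (Nat.mul 8 8184) 8184 = true := by decide +kernel

theorem tchkA_9 : rangeK tqA (Nat.mul 9 8184) 8184 = true := by decide +kernel

theorem tchkA_10 : rangeK tqA (Nat.mul 10 8184) 8184 = true := by decide +kernel

theorem tchkA_11 : rangeK tqA (Nat.mul 11 8184) 8184 = true := by decide +kernel

theorem tchkA_12 : rangeK tqA (Nat.mul 12 8184) 8184 = true := by decide +kernel

theorem tchkA_13 : rangeK tqA (Nat.mul 13 8184) 8184 = true := by decide +kernel

theorem tchkA_14 : rangeK tqA (Nat.mul 14 8184) 8184 = true := by decide +kernel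

theorem tchkA : ∀ p < 122760, TT 0 p = lkT selA p := by
  have h : ∀ j < 15, rangeK tqA (Nat.mul j 8184) 8184 = true := by
    intro j hj
    interval_cases j
    · exact tchkA_0
    · exact tchkA_1
    · exact tchkA_2
    · exact tchkA_3
    · exact tchkA_4
    · exact tchkA_5
    · exact tchkA_6
    · exact tchkA_7
    · exact tchkA_8
    · exact tchkA_9
    · exact tchkA_10
    · exact tchkA_11
    · exact tchkA_12
    · exact tchkA_13
    · exact tchkA_14
  intro p hp
  have := cover_of_chunks tqA 8184 15 (by norm_num) h p hp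
  unfold tqA at this
  rw [forceN_eq] at this
  exact Nat.eq_of_beq_eq_true this

end Cfsg.Agent.Lib.helper17.OnOut
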