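import Cfsg.Agent.Lib.Helper12.TCG.ONx122760.TabT
import Cfsg.Agent.Lib.helper17.OnOut.Cent
import Cfsg.Agent.Lib.helper17.OnOut.TabGi

set_option autoImplicit false

/-! The table of the letter 7 agrees with the table of the coset enumeration (generated, helper17) -/

namespace Cfsg.Agent.Lib.helper17.OnOut

open Cfsg.Agent.Lib.Helper12.TC Cfsg.Agent.Lib.Helper12.TCG.ONx122760

/-- the comparison of the two tables at one point -/
noncomputable def tqGi (p0 : Nat) : Bool := forceN p0 fun p => Nat.beq (TT 7 p) (lkT selGi p)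

theorem tchkGi_0 : rangeK tqGi (Nat.mul 0 8184) 8184 = true := by decide +kernel

theorem tchkGi_1 : rangeK tqGi (Nat.mul 1 8184) 8184 = true := by decide +kernel

theorem tchkGi_2 : rangeK tqGi (Nat.mul 2 8184) 8184 = true := by decide +kernel

theorem tchkGi_3 : rangeK tqGi (Nat.mul 3 8184) 8184 = true := by decide +kernel

theorem tchkGi_4 : rangeK tqGi (Nat.mul 4 8184) 8184 = true := by decide +kernel

theorem tchkGi_5 : rangeK tqGi (Nat.mul 5 8184) 8184 = true := by decide +kernel

theorem tchkGi_6 : rangeK tqGi (Nat.mul 6 8184) 8184 = true := by decide +kernel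

theorem tchkGi_7 : rangeK tqGi (Nat.mul 7 8184) 8184 = true := by decide +kernel

theorem tchkGi_8 : rangeK tqGi (Nat.mul 8 8184) 8184 = true := by decide +kernel

theorem tchkGi_9 : rangeK tqGi (Nat.mul 9 8184) 8184 = true := by decide +kernel

theorem tchkGi_10 : rangeK tqGi (Nat.mul 10 8184) 8184 = true := by decide +kernel

theorem tchkGi_11 : rangeK tqGi (Nat.mul 11 8184) 8184 = true := by decide +kernel

theorem tchkGi_12 : rangeK tqGi (Nat.mul 12 8184) 8184 = true := by decide +kernel

theorem tchkGi_13 : rangeK tqGi (Nat.mul 13 8184) 8184 = true := by decide +kernel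

theorem tchkGi_14 : rangeK tqGi (Nat.mul 14 8184) 8184 = true := by decide +kernel

theorem tchkGi : ∀ p < 122760, TT 7 p = lkT selGi p := by
  have h : ∀ j < 15, rangeK tqGi (Nat.mul j 8184) 8184 = true := by
    intro j hj
    interval_cases j
    · exact tchkGi_0
    · exact tchkGi_1
    · exact tchkGi_2
    · exact tchkGi_3
    · exact tchkGi_4
    · exact tchkGi_5
    · exact tchkGi_6
    · exact tchkGi_7
    · exact tchkGi_8
    · exact tchkGi_9
    · exact tchkGi_10
    · exact tchkGi_11
    · exact tchkGi_12
    · exact tchkGi_13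
    · exact tchkGi_14
  intro p hp
  have := cover_of_chunks tqGi 8184 15 (by norm_num) h p hp
  unfold tqGi at this
  rw [forceN_eq] at this
  exact Nat.eq_of_beq_eq_true this

end Cfsg.Agent.Lib.helper17.OnOut
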