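import Cfsg.Agent.Lib.Helper12.Ord.ONSimple
import Cfsg.Agent.Lib.helper17.OnOut.Ap
import Cfsg.Agent.Lib.helper17.OnOut.TchkA
import Cfsg.Agent.Lib.helper17.OnOut.TchkB
import Cfsg.Agent.Lib.helper17.OnOut.TchkC
import Cfsg.Agent.Lib.helper17.OnOut.TchkD
import Cfsg.Agent.Lib.helper17.OnOut.TchkE
import Cfsg.Agent.Lib.helper17.OnOut.TchkF
import Cfsg.Agent.Lib.helper17.OnOut.TchkG
import Cfsg.Agent.Lib.helper17.OnOut.TchkGi

set_option autoImplicit false

/-! The tables of the letters describe the permutation representation of the presented O'Nan group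
on 122760 points (helper17, on the representation built by helper12). -/

namespace Cfsg.Agent.Lib.helper17.OnOut

open Cfsg.Spor Cfsg.Agent.Lib.Helper12.TC Cfsg.Agent.Lib.Helper12.TCG
  Cfsg.Agent.Lib.Helper12.TCG.ONPres Cfsg.Agent.Lib.Helper12.TCG.ONx122760
  Cfsg.Agent.Lib.Helper12.Ord

theorem semON : Sem rho v apON := by
  intro s p
  have hp : p.1 < 122760 := p.2
  by_cases hs : s < 8
  · rw [rho_gen s hs p]
    interval_cases s
    · rw [tchkA p.1 hp]; rfl
    · rw [tchkB p.1 hp]; rfl
    · rw [tchkC p.1 hp]; rfl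
    · rw [tchkD p.1 hp]; rfl
    · rw [tchkE p.1 hp]; rfl
    · rw [tchkF p.1 hp]; rfl
    · rw [tchkG p.1 hp]; rfl
    · rw [tchkGi p.1 hp]; rfl
  · rw [hvge s hs, map_one, apON_ge s p.1 (by omega)]
    rfl

/-- the first base point -/
def pb1 : Fin cN := ⟨0, by decide⟩

/-- the second base point -/
def pb2 : Fin cN := ⟨1, by decide⟩

/-- the third base point -/
def pb3 : Fin cN := ⟨116381, by decide⟩

/-- the representation is transitive -/
theorem rho_trans (q : Fin cN) : ∃ γ : ON, rho γ pb1 = q := by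
  obtain ⟨Φ, hΦ⟩ := rho_equiv
  obtain ⟨x, hx⟩ := Φ.surjective q
  obtain ⟨γ, rfl⟩ := QuotientGroup.mk_surjective x
  exact ⟨γ, by rw [← hx, hΦ]; rfl⟩

theorem card_ON : Nat.card ON = 460815505920 := ONOrder.card_eq

theorem rho_inj : Function.Injective rho := ONOrder.rho_injective

instance finite_ON : Finite ON := ONOrder.finite

theorem card_range : Nat.card rho.range = 460815505920 := by
  rw [← card_ON]
  exact (Nat.card_congr (MonoidHom.ofInjective rho_inj).toEquiv).symm

end Cfsg.Agent.Lib.helper17.OnOut
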