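import Cfsg.Agent.Lib.helper17.OnOut.ChainThm

set_option autoImplicit false

/-! Equalities of elements of the presented O'Nan group given by words, decided on the three base
points (helper17). -/

namespace Cfsg.Agent.Lib.helper17.OnOut

open Cfsg.Spor Cfsg.Agent.Lib.Helper12.TC Cfsg.Agent.Lib.Helper12.TCG
  Cfsg.Agent.Lib.Helper12.TCG.ONPres Cfsg.Agent.Lib.Helper12.TCG.ONx122760
  Cfsg.Agent.Lib.Helper12.Ord

/-- the action of a word on a point, the head letter acting last, computed from the tail of the word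
on, step by step -/
def evi (ap : ℕ → ℕ → ℕ) (w : List ℕ) (p : ℕ) : ℕ := evr ap w.reverse p

theorem evi_eq (ap : ℕ → ℕ → ℕ) (w : List ℕ) (p : ℕ) : evi ap w p = evw ap w p := by
  rw [evi, evr_eq, List.reverse_reverse]

section Gen

variable {v' : ℕ → ON} {ap : ℕ → ℕ → ℕ}

/-- two words act in the same way on the three base points -/
def eqB (ap : ℕ → ℕ → ℕ) (w1 w2 : List ℕ) : Bool :=
  and (Nat.beq (evi ap w1 0) (evi ap w2 0))
    (and (Nat.beq (evi ap w1 1) (evi ap w2 1)) (Nat.beq (evi ap w1 116381) (evi ap w2 116381)))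

theorem eq_of_eqB (hs : Sem rho v' ap) (w1 w2 : List ℕ) (h : eqB ap w1 w2 = true) :
    wprod v' w1 = wprod v' w2 := by
  unfold eqB at h
  simp only [Bool.and_eq_true, evi_eq] at h
  obtain ⟨h1, h2, h3⟩ := h
  apply eq_of_base
  · apply Fin.ext
    rw [sem_evw hs, sem_evw hs]
    exact Nat.eq_of_beq_eq_true h1
  · apply Fin.ext
    rw [sem_evw hs, sem_evw hs]
    exact Nat.eq_of_beq_eq_true h2
  · apply Fin.ext
    rw [sem_evw hs, sem_evw hs]
    exact Nat.eq_of_beq_eq_true h3

/-- a word moves the first base point -/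
def neB (ap : ℕ → ℕ → ℕ) (w : List ℕ) : Bool :=
  @Bool.rec (fun _ => Bool) true false (Nat.beq (evi ap w 0) 0)

theorem ne_one_of_neB (hs : Sem rho v' ap) (w : List ℕ) (h : neB ap w = true) :
    wprod v' w ≠ 1 := by
  intro h1
  have := sem_evw hs w pb1
  rw [h1, map_one] at this
  unfold neB at h
  rw [evi_eq] at h
  have e : evw ap w 0 = 0 := this.symm
  rw [show evw ap w 0 = 0 from e] at h
  exact absurd h (by decide)

end Gen

/-- the value of a repeated word -/
theorem wprod_replicate {K : Type*} [Group K] (f : ℕ → K) (w : List ℕ) (k : ℕ) :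
    wprod f (List.replicate k w).flatten = wprod f w ^ k := by
  induction k with
  | zero => rw [pow_zero]; rfl
  | succ k ih =>
    rw [List.replicate_succ, List.flatten_cons, wprod_append, ih, pow_succ']

/-- the value of a word whose letters are words -/
theorem wprod_flatMap {K : Type*} [Group K] (f : ℕ → K) (sub : ℕ → List ℕ) (w : List ℕ) :
    wprod (fun s => wprod f (sub s)) w = wprod f (w.flatMap sub) := by
  induction w with
  | nil => rfl
  | cons s w ih => rw [wprod_cons, List.flatMap_cons, wprod_append, ih]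

/-- letters which are words -/
theorem sem_sub {v' : ℕ → ON} {ap : ℕ → ℕ → ℕ} (hs : Sem rho v' ap) (sub : ℕ → List ℕ) :
    Sem rho (fun s => wprod v' (sub s)) (fun s p => evi ap (sub s) p) := by
  intro s p
  show ((rho (wprod v' (sub s)) p : Fin cN) : ℕ) = evi ap (sub s) p.1
  rw [evi_eq, sem_evw hs]

end Cfsg.Agent.Lib.helper17.OnOut
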