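import Cfsg.Agent.Lib.helper17.OnOut.CentDefs

set_option autoImplicit false

/-! Part 0 of the first search (generated, helper17) -/

namespace Cfsg.Agent.Lib.helper17.OnOut

open Cfsg.Agent.Lib.Helper12.TC

theorem centC_0 : rangeK centC (Nat.mul 0 341) 341 = true := by decide +kernel

theorem centC_1 : rangeK centC (Nat.mul 1 341) 341 = true := by decide +kernel

theorem centC_2 : rangeK centC (Nat.mul 2 341) 341 = true := by decide +kernel

theorem centC_3 : rangeK centC (Nat.mul 3 341) 341 = true := by decide +kernel

theorem centC_4 : rangeK centC (Nat.mul 4 341) 341 = true := by decide +kernel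

theorem centC_5 : rangeK centC (Nat.mul 5 341) 341 = true := by decide +kernel

theorem centC_6 : rangeK centC (Nat.mul 6 341) 341 = true := by decide +kernel

theorem centC_7 : rangeK centC (Nat.mul 7 341) 341 = true := by decide +kernel

theorem centC_8 : rangeK centC (Nat.mul 8 341) 341 = true := by decide +kernel

theorem centC_9 : rangeK centC (Nat.mul 9 341) 341 = true := by decide +kernel

theorem centC_10 : rangeK centC (Nat.mul 10 341) 341 = true := by decide +kernel

theorem centC_11 : rangeK centC (Nat.mul 11 341) 341 = true := by decide +kernel

theorem centC_12 : rangeK centC (Nat.mul 12 341) 341 = true := by decide +kernel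

theorem centC_13 : rangeK centC (Nat.mul 13 341) 341 = true := by decide +kernel

theorem centC_14 : rangeK centC (Nat.mul 14 341) 341 = true := by decide +kernel

theorem centC_15 : rangeK centC (Nat.mul 15 341) 341 = true := by decide +kernel

theorem centC_16 : rangeK centC (Nat.mul 16 341) 341 = true := by decide +kernel

theorem centC_17 : rangeK centC (Nat.mul 17 341) 341 = true := by decide +kernel

theorem centC_18 : rangeK centC (Nat.mul 18 341) 341 = true := by decide +kernel

theorem centC_19 : rangeK centC (Nat.mul 19 341) 341 = true := by decide +kernel

theorem centC_20 : rangeK centC (Nat.mul 20 341) 341 = true := by decide +kernel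

theorem centC_21 : rangeK centC (Nat.mul 21 341) 341 = true := by decide +kernel

theorem centC_22 : rangeK centC (Nat.mul 22 341) 341 = true := by decide +kernel

theorem centC_23 : rangeK centC (Nat.mul 23 341) 341 = true := by decide +kernel

theorem centC_part0 : ∀ q, 0 ≤ q → q < 8184 → centC q = true := by
  have h : ∀ i < 24, rangeK centC (Nat.mul (0 + i) 341) 341 = true := by
    intro i hi
    interval_cases i
    · exact centC_0
    · exact centC_1
    · exact centC_2
    · exact centC_3
    · exact centC_4
    · exact centC_5
    · exact centC_6
    · exact centC_7
    · exact centC_8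
    · exact centC_9
    · exact centC_10
    · exact centC_11
    · exact centC_12
    · exact centC_13
    · exact centC_14
    · exact centC_15
    · exact centC_16
    · exact centC_17
    · exact centC_18
    · exact centC_19
    · exact centC_20
    · exact centC_21
    · exact centC_22
    · exact centC_23
  exact cover_part centC 0 341 24 (by norm_num) h

end Cfsg.Agent.Lib.helper17.OnOut
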