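import Cfsg.Agent.Lib.helper17.OnOut.CentDefs

set_option autoImplicit false

/-! Part 1 of the first search (generated, helper17) -/

namespace Cfsg.Agent.Lib.helper17.OnOut

open Cfsg.Agent.Lib.Helper12.TC

theorem centC_24 : rangeK centC (Nat.mul 24 341) 341 = true := by decide +kernel

theorem centC_25 : rangeK centC (Nat.mul 25 341) 341 = true := by decide +kernel

theorem centC_26 : rangeK centC (Nat.mul 26 341) 341 = true := by decide +kernel

theorem centC_27 : rangeK centC (Nat.mul 27 341) 341 = true := by decide +kernel

theorem centC_28 : rangeK centC (Nat.mul 28 341) 341 = true := by decide +kernel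

theorem centC_29 : rangeK centC (Nat.mul 29 341) 341 = true := by decide +kernel

theorem centC_30 : rangeK centC (Nat.mul 30 341) 341 = true := by decide +kernel

theorem centC_31 : rangeK centC (Nat.mul 31 341) 341 = true := by decide +kernel

theorem centC_32 : rangeK centC (Nat.mul 32 341) 341 = true := by decide +kernel

theorem centC_33 : rangeK centC (Nat.mul 33 341) 341 = true := by decide +kernel

theorem centC_34 : rangeK centC (Nat.mul 34 341) 341 = true := by decide +kernel

theorem centC_35 : rangeK centC (Nat.mul 35 341) 341 = true := by decide +kernel

theorem centC_36 : rangeK centC (Nat.mul 36 341) 341 = true := by decide +kernel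

theorem centC_37 : rangeK centC (Nat.mul 37 341) 341 = true := by decide +kernel

theorem centC_38 : rangeK centC (Nat.mul 38 341) 341 = true := by decide +kernel

theorem centC_39 : rangeK centC (Nat.mul 39 341) 341 = true := by decide +kernel

theorem centC_40 : rangeK centC (Nat.mul 40 341) 341 = true := by decide +kernel

theorem centC_41 : rangeK centC (Nat.mul 41 341) 341 = true := by decide +kernel

theorem centC_42 : rangeK centC (Nat.mul 42 341) 341 = true := by decide +kernel

theorem centC_43 : rangeK centC (Nat.mul 43 341) 341 = true := by decide +kernel

theorem centC_44 : rangeK centC (Nat.mul 44 341) 341 = true := by decide +kernel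

theorem centC_45 : rangeK centC (Nat.mul 45 341) 341 = true := by decide +kernel

theorem centC_46 : rangeK centC (Nat.mul 46 341) 341 = true := by decide +kernel

theorem centC_47 : rangeK centC (Nat.mul 47 341) 341 = true := by decide +kernel

theorem centC_part1 : ∀ q, 8184 ≤ q → q < 16368 → centC q = true := by
  have h : ∀ i < 24, rangeK centC (Nat.mul (24 + i) 341) 341 = true := by
    intro i hi
    interval_cases i
    · exact centC_24
    · exact centC_25
    · exact centC_26
    · exact centC_27
    · exact centC_28
    · exact centC_29
    · exact centC_30
    · exact centC_31
    · exact centC_32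
    · exact centC_33
    · exact centC_34
    · exact centC_35
    · exact centC_36
    · exact centC_37
    · exact centC_38
    · exact centC_39
    · exact centC_40
    · exact centC_41
    · exact centC_42
    · exact centC_43
    · exact centC_44
    · exact centC_45
    · exact centC_46
    · exact centC_47
  exact cover_part centC 24 341 24 (by norm_num) h

end Cfsg.Agent.Lib.helper17.OnOut
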