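import Cfsg.Agent.Lib.helper17.OnOut.CentDefs

set_option autoImplicit false

/-! Part 10 of the first search (generated, helper17) -/

namespace Cfsg.Agent.Lib.helper17.OnOut

open Cfsg.Agent.Lib.Helper12.TC

theorem centC_240 : rangeK centC (Nat.mul 240 341) 341 = true := by decide +kernel

theorem centC_241 : rangeK centC (Nat.mul 241 341) 341 = true := by decide +kernel

theorem centC_242 : rangeK centC (Nat.mul 242 341) 341 = true := by decide +kernel

theorem centC_243 : rangeK centC (Nat.mul 243 341) 341 = true := by decide +kernel

theorem centC_244 : rangeK centC (Nat.mul 244 341) 341 = true := by decide +kernel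

theorem centC_245 : rangeK centC (Nat.mul 245 341) 341 = true := by decide +kernel

theorem centC_246 : rangeK centC (Nat.mul 246 341) 341 = true := by decide +kernel

theorem centC_247 : rangeK centC (Nat.mul 247 341) 341 = true := by decide +kernel

theorem centC_248 : rangeK centC (Nat.mul 248 341) 341 = true := by decide +kernel

theorem centC_249 : rangeK centC (Nat.mul 249 341) 341 = true := by decide +kernel

theorem centC_250 : rangeK centC (Nat.mul 250 341) 341 = true := by decide +kernel

theorem centC_251 : rangeK centC (Nat.mul 251 341) 341 = true := by decide +kernel

theorem centC_252 : rangeK centC (Nat.mul 252 341) 341 = true := by decide +kernel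

theorem centC_253 : rangeK centC (Nat.mul 253 341) 341 = true := by decide +kernel

theorem centC_254 : rangeK centC (Nat.mul 254 341) 341 = true := by decide +kernel

theorem centC_255 : rangeK centC (Nat.mul 255 341) 341 = true := by decide +kernel

theorem centC_256 : rangeK centC (Nat.mul 256 341) 341 = true := by decide +kernel

theorem centC_257 : rangeK centC (Nat.mul 257 341) 341 = true := by decide +kernel

theorem centC_258 : rangeK centC (Nat.mul 258 341) 341 = true := by decide +kernel

theorem centC_259 : rangeK centC (Nat.mul 259 341) 341 = true := by decide +kernel

theorem centC_260 : rangeK centC (Nat.mul 260 341) 341 = true := by decide +kernel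

theorem centC_261 : rangeK centC (Nat.mul 261 341) 341 = true := by decide +kernel

theorem centC_262 : rangeK centC (Nat.mul 262 341) 341 = true := by decide +kernel

theorem centC_263 : rangeK centC (Nat.mul 263 341) 341 = true := by decide +kernel

theorem centC_part10 : ∀ q, 81840 ≤ q → q < 90024 → centC q = true := by
  have h : ∀ i < 24, rangeK centC (Nat.mul (240 + i) 341) 341 = true := by
    intro i hi
    interval_cases i
    · exact centC_240
    · exact centC_241
    · exact centC_242
    · exact centC_243
    · exact centC_244
    · exact centC_245
    · exact centC_246
    · exact centC_247
    · exact centC_248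
    · exact centC_249
    · exact centC_250
    · exact centC_251
    · exact centC_252
    · exact centC_253
    · exact centC_254
    · exact centC_255
    · exact centC_256
    · exact centC_257
    · exact centC_258
    · exact centC_259
    · exact centC_260
    · exact centC_261
    · exact centC_262
    · exact centC_263
  exact cover_part centC 240 341 24 (by norm_num) h

end Cfsg.Agent.Lib.helper17.OnOut
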