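import Cfsg.Agent.Lib.helper17.OnOut.CentDefs

set_option autoImplicit false

/-! Part 11 of the first search (generated, helper17) -/

namespace Cfsg.Agent.Lib.helper17.OnOut

open Cfsg.Agent.Lib.Helper12.TC

theorem centC_264 : rangeK centC (Nat.mul 264 341) 341 = true := by decide +kernel

theorem centC_265 : rangeK centC (Nat.mul 265 341) 341 = true := by decide +kernel

theorem centC_266 : rangeK centC (Nat.mul 266 341) 341 = true := by decide +kernel

theorem centC_267 : rangeK centC (Nat.mul 267 341) 341 = true := by decide +kernel

theorem centC_268 : rangeK centC (Nat.mul 268 341) 341 = true := by decide +kernel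

theorem centC_269 : rangeK centC (Nat.mul 269 341) 341 = true := by decide +kernel

theorem centC_270 : rangeK centC (Nat.mul 270 341) 341 = true := by decide +kernel

theorem centC_271 : rangeK centC (Nat.mul 271 341) 341 = true := by decide +kernel

theorem centC_272 : rangeK centC (Nat.mul 272 341) 341 = true := by decide +kernel

theorem centC_273 : rangeK centC (Nat.mul 273 341) 341 = true := by decide +kernel

theorem centC_274 : rangeK centC (Nat.mul 274 341) 341 = true := by decide +kernel

theorem centC_275 : rangeK centC (Nat.mul 275 341) 341 = true := by decide +kernel

theorem centC_276 : rangeK centC (Nat.mul 276 341) 341 = true := by decide +kernel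

theorem centC_277 : rangeK centC (Nat.mul 277 341) 341 = true := by decide +kernel

theorem centC_278 : rangeK centC (Nat.mul 278 341) 341 = true := by decide +kernel

theorem centC_279 : rangeK centC (Nat.mul 279 341) 341 = true := by decide +kernel

theorem centC_280 : rangeK centC (Nat.mul 280 341) 341 = true := by decide +kernel

theorem centC_281 : rangeK centC (Nat.mul 281 341) 341 = true := by decide +kernel

theorem centC_282 : rangeK centC (Nat.mul 282 341) 341 = true := by decide +kernel

theorem centC_283 : rangeK centC (Nat.mul 283 341) 341 = true := by decide +kernel

theorem centC_284 : rangeK centC (Nat.mul 284 341) 341 = true := by decide +kernel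

theorem centC_285 : rangeK centC (Nat.mul 285 341) 341 = true := by decide +kernel

theorem centC_286 : rangeK centC (Nat.mul 286 341) 341 = true := by decide +kernel

theorem centC_287 : rangeK centC (Nat.mul 287 341) 341 = true := by decide +kernel

theorem centC_part11 : ∀ q, 90024 ≤ q → q < 98208 → centC q = true := by
  have h : ∀ i < 24, rangeK centC (Nat.mul (264 + i) 341) 341 = true := by
    intro i hi
    interval_cases i
    · exact centC_264
    · exact centC_265
    · exact centC_266
    · exact centC_267
    · exact centC_268
    · exact centC_269
    · exact centC_270
    · exact centC_271
    · exact centC_272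
    · exact centC_273
    · exact centC_274
    · exact centC_275
    · exact centC_276
    · exact centC_277
    · exact centC_278
    · exact centC_279
    · exact centC_280
    · exact centC_281
    · exact centC_282
    · exact centC_283
    · exact centC_284
    · exact centC_285
    · exact centC_286
    · exact centC_287
  exact cover_part centC 264 341 24 (by norm_num) h

end Cfsg.Agent.Lib.helper17.OnOut
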