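import Cfsg.Agent.Lib.helper17.OnOut.CentDefs

set_option autoImplicit false

/-! Part 12 of the first search (generated, helper17) -/

namespace Cfsg.Agent.Lib.helper17.OnOut

open Cfsg.Agent.Lib.Helper12.TC

theorem centC_288 : rangeK centC (Nat.mul 288 341) 341 = true := by decide +kernel

theorem centC_289 : rangeK centC (Nat.mul 289 341) 341 = true := by decide +kernel

theorem centC_290 : rangeK centC (Nat.mul 290 341) 341 = true := by decide +kernel

theorem centC_291 : rangeK centC (Nat.mul 291 341) 341 = true := by decide +kernel

theorem centC_292 : rangeK centC (Nat.mul 292 341) 341 = true := by decide +kernel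

theorem centC_293 : rangeK centC (Nat.mul 293 341) 341 = true := by decide +kernel

theorem centC_294 : rangeK centC (Nat.mul 294 341) 341 = true := by decide +kernel

theorem centC_295 : rangeK centC (Nat.mul 295 341) 341 = true := by decide +kernel

theorem centC_296 : rangeK centC (Nat.mul 296 341) 341 = true := by decide +kernel

theorem centC_297 : rangeK centC (Nat.mul 297 341) 341 = true := by decide +kernel

theorem centC_298 : rangeK centC (Nat.mul 298 341) 341 = true := by decide +kernel

theorem centC_299 : rangeK centC (Nat.mul 299 341) 341 = true := by decide +kernel

theorem centC_300 : rangeK centC (Nat.mul 300 341) 341 = true := by decide +kernel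

theorem centC_301 : rangeK centC (Nat.mul 301 341) 341 = true := by decide +kernel

theorem centC_302 : rangeK centC (Nat.mul 302 341) 341 = true := by decide +kernel

theorem centC_303 : rangeK centC (Nat.mul 303 341) 341 = true := by decide +kernel

theorem centC_304 : rangeK centC (Nat.mul 304 341) 341 = true := by decide +kernel

theorem centC_305 : rangeK centC (Nat.mul 305 341) 341 = true := by decide +kernel

theorem centC_306 : rangeK centC (Nat.mul 306 341) 341 = true := by decide +kernel

theorem centC_307 : rangeK centC (Nat.mul 307 341) 341 = true := by decide +kernel

theorem centC_308 : rangeK centC (Nat.mul 308 341) 341 = true := by decide +kernel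

theorem centC_309 : rangeK centC (Nat.mul 309 341) 341 = true := by decide +kernel

theorem centC_310 : rangeK centC (Nat.mul 310 341) 341 = true := by decide +kernel

theorem centC_311 : rangeK centC (Nat.mul 311 341) 341 = true := by decide +kernel

theorem centC_part12 : ∀ q, 98208 ≤ q → q < 106392 → centC q = true := by
  have h : ∀ i < 24, rangeK centC (Nat.mul (288 + i) 341) 341 = true := by
    intro i hi
    interval_cases i
    · exact centC_288
    · exact centC_289
    · exact centC_290
    · exact centC_291
    · exact centC_292
    · exact centC_293
    · exact centC_294
    · exact centC_295
    · exact centC_296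
    · exact centC_297
    · exact centC_298
    · exact centC_299
    · exact centC_300
    · exact centC_301
    · exact centC_302
    · exact centC_303
    · exact centC_304
    · exact centC_305
    · exact centC_306
    · exact centC_307
    · exact centC_308
    · exact centC_309
    · exact centC_310
    · exact centC_311
  exact cover_part centC 288 341 24 (by norm_num) h

end Cfsg.Agent.Lib.helper17.OnOut
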