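import Cfsg.Agent.Lib.helper17.OnOut.CentDefs

set_option autoImplicit false

/-! Part 13 of the first search (generated, helper17) -/

namespace Cfsg.Agent.Lib.helper17.OnOut

open Cfsg.Agent.Lib.Helper12.TC

theorem centC_312 : rangeK centC (Nat.mul 312 341) 341 = true := by decide +kernel

theorem centC_313 : rangeK centC (Nat.mul 313 341) 341 = true := by decide +kernel

theorem centC_314 : rangeK centC (Nat.mul 314 341) 341 = true := by decide +kernel

theorem centC_315 : rangeK centC (Nat.mul 315 341) 341 = true := by decide +kernel

theorem centC_316 : rangeK centC (Nat.mul 316 341) 341 = true := by decide +kernel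

theorem centC_317 : rangeK centC (Nat.mul 317 341) 341 = true := by decide +kernel

theorem centC_318 : rangeK centC (Nat.mul 318 341) 341 = true := by decide +kernel

theorem centC_319 : rangeK centC (Nat.mul 319 341) 341 = true := by decide +kernel

theorem centC_320 : rangeK centC (Nat.mul 320 341) 341 = true := by decide +kernel

theorem centC_321 : rangeK centC (Nat.mul 321 341) 341 = true := by decide +kernel

theorem centC_322 : rangeK centC (Nat.mul 322 341) 341 = true := by decide +kernel

theorem centC_323 : rangeK centC (Nat.mul 323 341) 341 = true := by decide +kernel

theorem centC_324 : rangeK centC (Nat.mul 324 341) 341 = true := by decide +kernel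

theorem centC_325 : rangeK centC (Nat.mul 325 341) 341 = true := by decide +kernel

theorem centC_326 : rangeK centC (Nat.mul 326 341) 341 = true := by decide +kernel

theorem centC_327 : rangeK centC (Nat.mul 327 341) 341 = true := by decide +kernel

theorem centC_328 : rangeK centC (Nat.mul 328 341) 341 = true := by decide +kernel

theorem centC_329 : rangeK centC (Nat.mul 329 341) 341 = true := by decide +kernel

theorem centC_330 : rangeK centC (Nat.mul 330 341) 341 = true := by decide +kernel

theorem centC_331 : rangeK centC (Nat.mul 331 341) 341 = true := by decide +kernel

theorem centC_332 : rangeK centC (Nat.mul 332 341) 341 = true := by decide +kernel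

theorem centC_333 : rangeK centC (Nat.mul 333 341) 341 = true := by decide +kernel

theorem centC_334 : rangeK centC (Nat.mul 334 341) 341 = true := by decide +kernel

theorem centC_335 : rangeK centC (Nat.mul 335 341) 341 = true := by decide +kernel

theorem centC_part13 : ∀ q, 106392 ≤ q → q < 114576 → centC q = true := by
  have h : ∀ i < 24, rangeK centC (Nat.mul (312 + i) 341) 341 = true := by
    intro i hi
    interval_cases i
    · exact centC_312
    · exact centC_313
    · exact centC_314
    · exact centC_315
    · exact centC_316
    · exact centC_317
    · exact centC_318
    · exact centC_319
    · exact centC_320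
    · exact centC_321
    · exact centC_322
    · exact centC_323
    · exact centC_324
    · exact centC_325
    · exact centC_326
    · exact centC_327
    · exact centC_328
    · exact centC_329
    · exact centC_330
    · exact centC_331
    · exact centC_332
    · exact centC_333
    · exact centC_334
    · exact centC_335
  exact cover_part centC 312 341 24 (by norm_num) h

end Cfsg.Agent.Lib.helper17.OnOut
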