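import Cfsg.Agent.Lib.helper17.OnOut.CentDefs

set_option autoImplicit false

/-! Part 14 of the first search (generated, helper17) -/

namespace Cfsg.Agent.Lib.helper17.OnOut

open Cfsg.Agent.Lib.Helper12.TC

theorem centC_336 : rangeK centC (Nat.mul 336 341) 341 = true := by decide +kernel

theorem centC_337 : rangeK centC (Nat.mul 337 341) 341 = true := by decide +kernel

theorem centC_338 : rangeK centC (Nat.mul 338 341) 341 = true := by decide +kernel

theorem centC_339 : rangeK centC (Nat.mul 339 341) 341 = true := by decide +kernel

theorem centC_340 : rangeK centC (Nat.mul 340 341) 341 = true := by decide +kernel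

theorem centC_341 : rangeK centC (Nat.mul 341 341) 341 = true := by decide +kernel

theorem centC_342 : rangeK centC (Nat.mul 342 341) 341 = true := by decide +kernel

theorem centC_343 : rangeK centC (Nat.mul 343 341) 341 = true := by decide +kernel

theorem centC_344 : rangeK centC (Nat.mul 344 341) 341 = true := by decide +kernel

theorem centC_345 : rangeK centC (Nat.mul 345 341) 341 = true := by decide +kernel

theorem centC_346 : rangeK centC (Nat.mul 346 341) 341 = true := by decide +kernel

theorem centC_347 : rangeK centC (Nat.mul 347 341) 341 = true := by decide +kernel

theorem centC_348 : rangeK centC (Nat.mul 348 341) 341 = true := by decide +kernel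

theorem centC_349 : rangeK centC (Nat.mul 349 341) 341 = true := by decide +kernel

theorem centC_350 : rangeK centC (Nat.mul 350 341) 341 = true := by decide +kernel

theorem centC_351 : rangeK centC (Nat.mul 351 341) 341 = true := by decide +kernel

theorem centC_352 : rangeK centC (Nat.mul 352 341) 341 = true := by decide +kernel

theorem centC_353 : rangeK centC (Nat.mul 353 341) 341 = true := by decide +kernel

theorem centC_354 : rangeK centC (Nat.mul 354 341) 341 = true := by decide +kernel

theorem centC_355 : rangeK centC (Nat.mul 355 341) 341 = true := by decide +kernel

theorem centC_356 : rangeK centC (Nat.mul 356 341) 341 = true := by decide +kernel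

theorem centC_357 : rangeK centC (Nat.mul 357 341) 341 = true := by decide +kernel

theorem centC_358 : rangeK centC (Nat.mul 358 341) 341 = true := by decide +kernel

theorem centC_359 : rangeK centC (Nat.mul 359 341) 341 = true := by decide +kernel

theorem centC_part14 : ∀ q, 114576 ≤ q → q < 122760 → centC q = true := by
  have h : ∀ i < 24, rangeK centC (Nat.mul (336 + i) 341) 341 = true := by
    intro i hi
    interval_cases i
    · exact centC_336
    · exact centC_337
    · exact centC_338
    · exact centC_339
    · exact centC_340
    · exact centC_341
    · exact centC_342
    · exact centC_343
    · exact centC_344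
    · exact centC_345
    · exact centC_346
    · exact centC_347
    · exact centC_348
    · exact centC_349
    · exact centC_350
    · exact centC_351
    · exact centC_352
    · exact centC_353
    · exact centC_354
    · exact centC_355
    · exact centC_356
    · exact centC_357
    · exact centC_358
    · exact centC_359
  exact cover_part centC 336 341 24 (by norm_num) h

end Cfsg.Agent.Lib.helper17.OnOut
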