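import Cfsg.Agent.Lib.helper17.OnOut.CentDefs

set_option autoImplicit false

/-! Part 2 of the first search (generated, helper17) -/

namespace Cfsg.Agent.Lib.helper17.OnOut

open Cfsg.Agent.Lib.Helper12.TC

theorem centC_48 : rangeK centC (Nat.mul 48 341) 341 = true := by decide +kernel

theorem centC_49 : rangeK centC (Nat.mul 49 341) 341 = true := by decide +kernel

theorem centC_50 : rangeK centC (Nat.mul 50 341) 341 = true := by decide +kernel

theorem centC_51 : rangeK centC (Nat.mul 51 341) 341 = true := by decide +kernel

theorem centC_52 : rangeK centC (Nat.mul 52 341) 341 = true := by decide +kernel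

theorem centC_53 : rangeK centC (Nat.mul 53 341) 341 = true := by decide +kernel

theorem centC_54 : rangeK centC (Nat.mul 54 341) 341 = true := by decide +kernel

theorem centC_55 : rangeK centC (Nat.mul 55 341) 341 = true := by decide +kernel

theorem centC_56 : rangeK centC (Nat.mul 56 341) 341 = true := by decide +kernel

theorem centC_57 : rangeK centC (Nat.mul 57 341) 341 = true := by decide +kernel

theorem centC_58 : rangeK centC (Nat.mul 58 341) 341 = true := by decide +kernel

theorem centC_59 : rangeK centC (Nat.mul 59 341) 341 = true := by decide +kernel

theorem centC_60 : rangeK centC (Nat.mul 60 341) 341 = true := by decide +kernel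

theorem centC_61 : rangeK centC (Nat.mul 61 341) 341 = true := by decide +kernel

theorem centC_62 : rangeK centC (Nat.mul 62 341) 341 = true := by decide +kernel

theorem centC_63 : rangeK centC (Nat.mul 63 341) 341 = true := by decide +kernel

theorem centC_64 : rangeK centC (Nat.mul 64 341) 341 = true := by decide +kernel

theorem centC_65 : rangeK centC (Nat.mul 65 341) 341 = true := by decide +kernel

theorem centC_66 : rangeK centC (Nat.mul 66 341) 341 = true := by decide +kernel

theorem centC_67 : rangeK centC (Nat.mul 67 341) 341 = true := by decide +kernel

theorem centC_68 : rangeK centC (Nat.mul 68 341) 341 = true := by decide +kernel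

theorem centC_69 : rangeK centC (Nat.mul 69 341) 341 = true := by decide +kernel

theorem centC_70 : rangeK centC (Nat.mul 70 341) 341 = true := by decide +kernel

theorem centC_71 : rangeK centC (Nat.mul 71 341) 341 = true := by decide +kernel

theorem centC_part2 : ∀ q, 16368 ≤ q → q < 24552 → centC q = true := by
  have h : ∀ i < 24, rangeK centC (Nat.mul (48 + i) 341) 341 = true := by
    intro i hi
    interval_cases i
    · exact centC_48
    · exact centC_49
    · exact centC_50
    · exact centC_51
    · exact centC_52
    · exact centC_53
    · exact centC_54
    · exact centC_55
    · exact centC_56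
    · exact centC_57
    · exact centC_58
    · exact centC_59
    · exact centC_60
    · exact centC_61
    · exact centC_62
    · exact centC_63
    · exact centC_64
    · exact centC_65
    · exact centC_66
    · exact centC_67
    · exact centC_68
    · exact centC_69
    · exact centC_70
    · exact centC_71
  exact cover_part centC 48 341 24 (by norm_num) h

end Cfsg.Agent.Lib.helper17.OnOut
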