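import Cfsg.Agent.Lib.helper17.OnOut.CentDefs

set_option autoImplicit false

/-! Part 3 of the first search (generated, helper17) -/

namespace Cfsg.Agent.Lib.helper17.OnOut

open Cfsg.Agent.Lib.Helper12.TC

theorem centC_72 : rangeK centC (Nat.mul 72 341) 341 = true := by decide +kernel

theorem centC_73 : rangeK centC (Nat.mul 73 341) 341 = true := by decide +kernel

theorem centC_74 : rangeK centC (Nat.mul 74 341) 341 = true := by decide +kernel

theorem centC_75 : rangeK centC (Nat.mul 75 341) 341 = true := by decide +kernel

theorem centC_76 : rangeK centC (Nat.mul 76 341) 341 = true := by decide +kernel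

theorem centC_77 : rangeK centC (Nat.mul 77 341) 341 = true := by decide +kernel

theorem centC_78 : rangeK centC (Nat.mul 78 341) 341 = true := by decide +kernel

theorem centC_79 : rangeK centC (Nat.mul 79 341) 341 = true := by decide +kernel

theorem centC_80 : rangeK centC (Nat.mul 80 341) 341 = true := by decide +kernel

theorem centC_81 : rangeK centC (Nat.mul 81 341) 341 = true := by decide +kernel

theorem centC_82 : rangeK centC (Nat.mul 82 341) 341 = true := by decide +kernel

theorem centC_83 : rangeK centC (Nat.mul 83 341) 341 = true := by decide +kernel

theorem centC_84 : rangeK centC (Nat.mul 84 341) 341 = true := by decide +kernel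

theorem centC_85 : rangeK centC (Nat.mul 85 341) 341 = true := by decide +kernel

theorem centC_86 : rangeK centC (Nat.mul 86 341) 341 = true := by decide +kernel

theorem centC_87 : rangeK centC (Nat.mul 87 341) 341 = true := by decide +kernel

theorem centC_88 : rangeK centC (Nat.mul 88 341) 341 = true := by decide +kernel

theorem centC_89 : rangeK centC (Nat.mul 89 341) 341 = true := by decide +kernel

theorem centC_90 : rangeK centC (Nat.mul 90 341) 341 = true := by decide +kernel

theorem centC_91 : rangeK centC (Nat.mul 91 341) 341 = true := by decide +kernel

theorem centC_92 : rangeK centC (Nat.mul 92 341) 341 = true := by decide +kernel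

theorem centC_93 : rangeK centC (Nat.mul 93 341) 341 = true := by decide +kernel

theorem centC_94 : rangeK centC (Nat.mul 94 341) 341 = true := by decide +kernel

theorem centC_95 : rangeK centC (Nat.mul 95 341) 341 = true := by decide +kernel

theorem centC_part3 : ∀ q, 24552 ≤ q → q < 32736 → centC q = true := by
  have h : ∀ i < 24, rangeK centC (Nat.mul (72 + i) 341) 341 = true := by
    intro i hi
    interval_cases i
    · exact centC_72
    · exact centC_73
    · exact centC_74
    · exact centC_75
    · exact centC_76
    · exact centC_77
    · exact centC_78
    · exact centC_79
    · exact centC_80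
    · exact centC_81
    · exact centC_82
    · exact centC_83
    · exact centC_84
    · exact centC_85
    · exact centC_86
    · exact centC_87
    · exact centC_88
    · exact centC_89
    · exact centC_90
    · exact centC_91
    · exact centC_92
    · exact centC_93
    · exact centC_94
    · exact centC_95
  exact cover_part centC 72 341 24 (by norm_num) h

end Cfsg.Agent.Lib.helper17.OnOut
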