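import Cfsg.Agent.Lib.helper17.OnOut.CentDefs

set_option autoImplicit false

/-! Part 4 of the first search (generated, helper17) -/

namespace Cfsg.Agent.Lib.helper17.OnOut

open Cfsg.Agent.Lib.Helper12.TC

theorem centC_96 : rangeK centC (Nat.mul 96 341) 341 = true := by decide +kernel

theorem centC_97 : rangeK centC (Nat.mul 97 341) 341 = true := by decide +kernel

theorem centC_98 : rangeK centC (Nat.mul 98 341) 341 = true := by decide +kernel

theorem centC_99 : rangeK centC (Nat.mul 99 341) 341 = true := by decide +kernel

theorem centC_100 : rangeK centC (Nat.mul 100 341) 341 = true := by decide +kernel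

theorem centC_101 : rangeK centC (Nat.mul 101 341) 341 = true := by decide +kernel

theorem centC_102 : rangeK centC (Nat.mul 102 341) 341 = true := by decide +kernel

theorem centC_103 : rangeK centC (Nat.mul 103 341) 341 = true := by decide +kernel

theorem centC_104 : rangeK centC (Nat.mul 104 341) 341 = true := by decide +kernel

theorem centC_105 : rangeK centC (Nat.mul 105 341) 341 = true := by decide +kernel

theorem centC_106 : rangeK centC (Nat.mul 106 341) 341 = true := by decide +kernel

theorem centC_107 : rangeK centC (Nat.mul 107 341) 341 = true := by decide +kernel

theorem centC_108 : rangeK centC (Nat.mul 108 341) 341 = true := by decide +kernel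

theorem centC_109 : rangeK centC (Nat.mul 109 341) 341 = true := by decide +kernel

theorem centC_110 : rangeK centC (Nat.mul 110 341) 341 = true := by decide +kernel

theorem centC_111 : rangeK centC (Nat.mul 111 341) 341 = true := by decide +kernel

theorem centC_112 : rangeK centC (Nat.mul 112 341) 341 = true := by decide +kernel

theorem centC_113 : rangeK centC (Nat.mul 113 341) 341 = true := by decide +kernel

theorem centC_114 : rangeK centC (Nat.mul 114 341) 341 = true := by decide +kernel

theorem centC_115 : rangeK centC (Nat.mul 115 341) 341 = true := by decide +kernel

theorem centC_116 : rangeK centC (Nat.mul 116 341) 341 = true := by decide +kernel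

theorem centC_117 : rangeK centC (Nat.mul 117 341) 341 = true := by decide +kernel

theorem centC_118 : rangeK centC (Nat.mul 118 341) 341 = true := by decide +kernel

theorem centC_119 : rangeK centC (Nat.mul 119 341) 341 = true := by decide +kernel

theorem centC_part4 : ∀ q, 32736 ≤ q → q < 40920 → centC q = true := by
  have h : ∀ i < 24, rangeK centC (Nat.mul (96 + i) 341) 341 = true := by
    intro i hi
    interval_cases i
    · exact centC_96
    · exact centC_97
    · exact centC_98
    · exact centC_99
    · exact centC_100
    · exact centC_101
    · exact centC_102
    · exact centC_103
    · exact centC_104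
    · exact centC_105
    · exact centC_106
    · exact centC_107
    · exact centC_108
    · exact centC_109
    · exact centC_110
    · exact centC_111
    · exact centC_112
    · exact centC_113
    · exact centC_114
    · exact centC_115
    · exact centC_116
    · exact centC_117
    · exact centC_118
    · exact centC_119
  exact cover_part centC 96 341 24 (by norm_num) h

end Cfsg.Agent.Lib.helper17.OnOut
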