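import Cfsg.Agent.Lib.helper17.OnOut.CentDefs

set_option autoImplicit false

/-! Part 5 of the first search (generated, helper17) -/

namespace Cfsg.Agent.Lib.helper17.OnOut

open Cfsg.Agent.Lib.Helper12.TC

theorem centC_120 : rangeK centC (Nat.mul 120 341) 341 = true := by decide +kernel

theorem centC_121 : rangeK centC (Nat.mul 121 341) 341 = true := by decide +kernel

theorem centC_122 : rangeK centC (Nat.mul 122 341) 341 = true := by decide +kernel

theorem centC_123 : rangeK centC (Nat.mul 123 341) 341 = true := by decide +kernel

theorem centC_124 : rangeK centC (Nat.mul 124 341) 341 = true := by decide +kernel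

theorem centC_125 : rangeK centC (Nat.mul 125 341) 341 = true := by decide +kernel

theorem centC_126 : rangeK centC (Nat.mul 126 341) 341 = true := by decide +kernel

theorem centC_127 : rangeK centC (Nat.mul 127 341) 341 = true := by decide +kernel

theorem centC_128 : rangeK centC (Nat.mul 128 341) 341 = true := by decide +kernel

theorem centC_129 : rangeK centC (Nat.mul 129 341) 341 = true := by decide +kernel

theorem centC_130 : rangeK centC (Nat.mul 130 341) 341 = true := by decide +kernel

theorem centC_131 : rangeK centC (Nat.mul 131 341) 341 = true := by decide +kernel

theorem centC_132 : rangeK centC (Nat.mul 132 341) 341 = true := by decide +kernel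

theorem centC_133 : rangeK centC (Nat.mul 133 341) 341 = true := by decide +kernel

theorem centC_134 : rangeK centC (Nat.mul 134 341) 341 = true := by decide +kernel

theorem centC_135 : rangeK centC (Nat.mul 135 341) 341 = true := by decide +kernel

theorem centC_136 : rangeK centC (Nat.mul 136 341) 341 = true := by decide +kernel

theorem centC_137 : rangeK centC (Nat.mul 137 341) 341 = true := by decide +kernel

theorem centC_138 : rangeK centC (Nat.mul 138 341) 341 = true := by decide +kernel

theorem centC_139 : rangeK centC (Nat.mul 139 341) 341 = true := by decide +kernel

theorem centC_140 : rangeK centC (Nat.mul 140 341) 341 = true := by decide +kernel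

theorem centC_141 : rangeK centC (Nat.mul 141 341) 341 = true := by decide +kernel

theorem centC_142 : rangeK centC (Nat.mul 142 341) 341 = true := by decide +kernel

theorem centC_143 : rangeK centC (Nat.mul 143 341) 341 = true := by decide +kernel

theorem centC_part5 : ∀ q, 40920 ≤ q → q < 49104 → centC q = true := by
  have h : ∀ i < 24, rangeK centC (Nat.mul (120 + i) 341) 341 = true := by
    intro i hi
    interval_cases i
    · exact centC_120
    · exact centC_121
    · exact centC_122
    · exact centC_123
    · exact centC_124
    · exact centC_125
    · exact centC_126
    · exact centC_127
    · exact centC_128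
    · exact centC_129
    · exact centC_130
    · exact centC_131
    · exact centC_132
    · exact centC_133
    · exact centC_134
    · exact centC_135
    · exact centC_136
    · exact centC_137
    · exact centC_138
    · exact centC_139
    · exact centC_140
    · exact centC_141
    · exact centC_142
    · exact centC_143
  exact cover_part centC 120 341 24 (by norm_num) h

end Cfsg.Agent.Lib.helper17.OnOut
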