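import Cfsg.Agent.Lib.helper17.OnOut.CentDefs

set_option autoImplicit false

/-! Part 6 of the first search (generated, helper17) -/

namespace Cfsg.Agent.Lib.helper17.OnOut

open Cfsg.Agent.Lib.Helper12.TC

theorem centC_144 : rangeK centC (Nat.mul 144 341) 341 = true := by decide +kernel

theorem centC_145 : rangeK centC (Nat.mul 145 341) 341 = true := by decide +kernel

theorem centC_146 : rangeK centC (Nat.mul 146 341) 341 = true := by decide +kernel

theorem centC_147 : rangeK centC (Nat.mul 147 341) 341 = true := by decide +kernel

theorem centC_148 : rangeK centC (Nat.mul 148 341) 341 = true := by decide +kernel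

theorem centC_149 : rangeK centC (Nat.mul 149 341) 341 = true := by decide +kernel

theorem centC_150 : rangeK centC (Nat.mul 150 341) 341 = true := by decide +kernel

theorem centC_151 : rangeK centC (Nat.mul 151 341) 341 = true := by decide +kernel

theorem centC_152 : rangeK centC (Nat.mul 152 341) 341 = true := by decide +kernel

theorem centC_153 : rangeK centC (Nat.mul 153 341) 341 = true := by decide +kernel

theorem centC_154 : rangeK centC (Nat.mul 154 341) 341 = true := by decide +kernel

theorem centC_155 : rangeK centC (Nat.mul 155 341) 341 = true := by decide +kernel

theorem centC_156 : rangeK centC (Nat.mul 156 341) 341 = true := by decide +kernel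

theorem centC_157 : rangeK centC (Nat.mul 157 341) 341 = true := by decide +kernel

theorem centC_158 : rangeK centC (Nat.mul 158 341) 341 = true := by decide +kernel

theorem centC_159 : rangeK centC (Nat.mul 159 341) 341 = true := by decide +kernel

theorem centC_160 : rangeK centC (Nat.mul 160 341) 341 = true := by decide +kernel

theorem centC_161 : rangeK centC (Nat.mul 161 341) 341 = true := by decide +kernel

theorem centC_162 : rangeK centC (Nat.mul 162 341) 341 = true := by decide +kernel

theorem centC_163 : rangeK centC (Nat.mul 163 341) 341 = true := by decide +kernel

theorem centC_164 : rangeK centC (Nat.mul 164 341) 341 = true := by decide +kernel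

theorem centC_165 : rangeK centC (Nat.mul 165 341) 341 = true := by decide +kernel

theorem centC_166 : rangeK centC (Nat.mul 166 341) 341 = true := by decide +kernel

theorem centC_167 : rangeK centC (Nat.mul 167 341) 341 = true := by decide +kernel

theorem centC_part6 : ∀ q, 49104 ≤ q → q < 57288 → centC q = true := by
  have h : ∀ i < 24, rangeK centC (Nat.mul (144 + i) 341) 341 = true := by
    intro i hi
    interval_cases i
    · exact centC_144
    · exact centC_145
    · exact centC_146
    · exact centC_147
    · exact centC_148
    · exact centC_149
    · exact centC_150
    · exact centC_151
    · exact centC_152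
    · exact centC_153
    · exact centC_154
    · exact centC_155
    · exact centC_156
    · exact centC_157
    · exact centC_158
    · exact centC_159
    · exact centC_160
    · exact centC_161
    · exact centC_162
    · exact centC_163
    · exact centC_164
    · exact centC_165
    · exact centC_166
    · exact centC_167
  exact cover_part centC 144 341 24 (by norm_num) h

end Cfsg.Agent.Lib.helper17.OnOut
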