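import Cfsg.Agent.Lib.helper17.OnOut.CentDefs

set_option autoImplicit false

/-! Part 7 of the first search (generated, helper17) -/

namespace Cfsg.Agent.Lib.helper17.OnOut

open Cfsg.Agent.Lib.Helper12.TC

theorem centC_168 : rangeK centC (Nat.mul 168 341) 341 = true := by decide +kernel

theorem centC_169 : rangeK centC (Nat.mul 169 341) 341 = true := by decide +kernel

theorem centC_170 : rangeK centC (Nat.mul 170 341) 341 = true := by decide +kernel

theorem centC_171 : rangeK centC (Nat.mul 171 341) 341 = true := by decide +kernel

theorem centC_172 : rangeK centC (Nat.mul 172 341) 341 = true := by decide +kernel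

theorem centC_173 : rangeK centC (Nat.mul 173 341) 341 = true := by decide +kernel

theorem centC_174 : rangeK centC (Nat.mul 174 341) 341 = true := by decide +kernel

theorem centC_175 : rangeK centC (Nat.mul 175 341) 341 = true := by decide +kernel

theorem centC_176 : rangeK centC (Nat.mul 176 341) 341 = true := by decide +kernel

theorem centC_177 : rangeK centC (Nat.mul 177 341) 341 = true := by decide +kernel

theorem centC_178 : rangeK centC (Nat.mul 178 341) 341 = true := by decide +kernel

theorem centC_179 : rangeK centC (Nat.mul 179 341) 341 = true := by decide +kernel

theorem centC_180 : rangeK centC (Nat.mul 180 341) 341 = true := by decide +kernel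

theorem centC_181 : rangeK centC (Nat.mul 181 341) 341 = true := by decide +kernel

theorem centC_182 : rangeK centC (Nat.mul 182 341) 341 = true := by decide +kernel

theorem centC_183 : rangeK centC (Nat.mul 183 341) 341 = true := by decide +kernel

theorem centC_184 : rangeK centC (Nat.mul 184 341) 341 = true := by decide +kernel

theorem centC_185 : rangeK centC (Nat.mul 185 341) 341 = true := by decide +kernel

theorem centC_186 : rangeK centC (Nat.mul 186 341) 341 = true := by decide +kernel

theorem centC_187 : rangeK centC (Nat.mul 187 341) 341 = true := by decide +kernel

theorem centC_188 : rangeK centC (Nat.mul 188 341) 341 = true := by decide +kernel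

theorem centC_189 : rangeK centC (Nat.mul 189 341) 341 = true := by decide +kernel

theorem centC_190 : rangeK centC (Nat.mul 190 341) 341 = true := by decide +kernel

theorem centC_191 : rangeK centC (Nat.mul 191 341) 341 = true := by decide +kernel

theorem centC_part7 : ∀ q, 57288 ≤ q → q < 65472 → centC q = true := by
  have h : ∀ i < 24, rangeK centC (Nat.mul (168 + i) 341) 341 = true := by
    intro i hi
    interval_cases i
    · exact centC_168
    · exact centC_169
    · exact centC_170
    · exact centC_171
    · exact centC_172
    · exact centC_173
    · exact centC_174
    · exact centC_175
    · exact centC_176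
    · exact centC_177
    · exact centC_178
    · exact centC_179
    · exact centC_180
    · exact centC_181
    · exact centC_182
    · exact centC_183
    · exact centC_184
    · exact centC_185
    · exact centC_186
    · exact centC_187
    · exact centC_188
    · exact centC_189
    · exact centC_190
    · exact centC_191
  exact cover_part centC 168 341 24 (by norm_num) h

end Cfsg.Agent.Lib.helper17.OnOut
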