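import Cfsg.Agent.Lib.helper17.OnOut.CentDefs

set_option autoImplicit false

/-! Part 8 of the first search (generated, helper17) -/

namespace Cfsg.Agent.Lib.helper17.OnOut

open Cfsg.Agent.Lib.Helper12.TC

theorem centC_192 : rangeK centC (Nat.mul 192 341) 341 = true := by decide +kernel

theorem centC_193 : rangeK centC (Nat.mul 193 341) 341 = true := by decide +kernel

theorem centC_194 : rangeK centC (Nat.mul 194 341) 341 = true := by decide +kernel

theorem centC_195 : rangeK centC (Nat.mul 195 341) 341 = true := by decide +kernel

theorem centC_196 : rangeK centC (Nat.mul 196 341) 341 = true := by decide +kernel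

theorem centC_197 : rangeK centC (Nat.mul 197 341) 341 = true := by decide +kernel

theorem centC_198 : rangeK centC (Nat.mul 198 341) 341 = true := by decide +kernel

theorem centC_199 : rangeK centC (Nat.mul 199 341) 341 = true := by decide +kernel

theorem centC_200 : rangeK centC (Nat.mul 200 341) 341 = true := by decide +kernel

theorem centC_201 : rangeK centC (Nat.mul 201 341) 341 = true := by decide +kernel

theorem centC_202 : rangeK centC (Nat.mul 202 341) 341 = true := by decide +kernel

theorem centC_203 : rangeK centC (Nat.mul 203 341) 341 = true := by decide +kernel

theorem centC_204 : rangeK centC (Nat.mul 204 341) 341 = true := by decide +kernel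

theorem centC_205 : rangeK centC (Nat.mul 205 341) 341 = true := by decide +kernel

theorem centC_206 : rangeK centC (Nat.mul 206 341) 341 = true := by decide +kernel

theorem centC_207 : rangeK centC (Nat.mul 207 341) 341 = true := by decide +kernel

theorem centC_208 : rangeK centC (Nat.mul 208 341) 341 = true := by decide +kernel

theorem centC_209 : rangeK centC (Nat.mul 209 341) 341 = true := by decide +kernel

theorem centC_210 : rangeK centC (Nat.mul 210 341) 341 = true := by decide +kernel

theorem centC_211 : rangeK centC (Nat.mul 211 341) 341 = true := by decide +kernel

theorem centC_212 : rangeK centC (Nat.mul 212 341) 341 = true := by decide +kernel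

theorem centC_213 : rangeK centC (Nat.mul 213 341) 341 = true := by decide +kernel

theorem centC_214 : rangeK centC (Nat.mul 214 341) 341 = true := by decide +kernel

theorem centC_215 : rangeK centC (Nat.mul 215 341) 341 = true := by decide +kernel

theorem centC_part8 : ∀ q, 65472 ≤ q → q < 73656 → centC q = true := by
  have h : ∀ i < 24, rangeK centC (Nat.mul (192 + i) 341) 341 = true := by
    intro i hi
    interval_cases i
    · exact centC_192
    · exact centC_193
    · exact centC_194
    · exact centC_195
    · exact centC_196
    · exact centC_197
    · exact centC_198
    · exact centC_199
    · exact centC_200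
    · exact centC_201
    · exact centC_202
    · exact centC_203
    · exact centC_204
    · exact centC_205
    · exact centC_206
    · exact centC_207
    · exact centC_208
    · exact centC_209
    · exact centC_210
    · exact centC_211
    · exact centC_212
    · exact centC_213
    · exact centC_214
    · exact centC_215
  exact cover_part centC 192 341 24 (by norm_num) h

end Cfsg.Agent.Lib.helper17.OnOut
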