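import Cfsg.Agent.Lib.helper17.OnOut.CentDefs

set_option autoImplicit false

/-! Part 9 of the first search (generated, helper17) -/

namespace Cfsg.Agent.Lib.helper17.OnOut

open Cfsg.Agent.Lib.Helper12.TC

theorem centC_216 : rangeK centC (Nat.mul 216 341) 341 = true := by decide +kernel

theorem centC_217 : rangeK centC (Nat.mul 217 341) 341 = true := by decide +kernel

theorem centC_218 : rangeK centC (Nat.mul 218 341) 341 = true := by decide +kernel

theorem centC_219 : rangeK centC (Nat.mul 219 341) 341 = true := by decide +kernel

theorem centC_220 : rangeK centC (Nat.mul 220 341) 341 = true := by decide +kernel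

theorem centC_221 : rangeK centC (Nat.mul 221 341) 341 = true := by decide +kernel

theorem centC_222 : rangeK centC (Nat.mul 222 341) 341 = true := by decide +kernel

theorem centC_223 : rangeK centC (Nat.mul 223 341) 341 = true := by decide +kernel

theorem centC_224 : rangeK centC (Nat.mul 224 341) 341 = true := by decide +kernel

theorem centC_225 : rangeK centC (Nat.mul 225 341) 341 = true := by decide +kernel

theorem centC_226 : rangeK centC (Nat.mul 226 341) 341 = true := by decide +kernel

theorem centC_227 : rangeK centC (Nat.mul 227 341) 341 = true := by decide +kernel

theorem centC_228 : rangeK centC (Nat.mul 228 341) 341 = true := by decide +kernel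

theorem centC_229 : rangeK centC (Nat.mul 229 341) 341 = true := by decide +kernel

theorem centC_230 : rangeK centC (Nat.mul 230 341) 341 = true := by decide +kernel

theorem centC_231 : rangeK centC (Nat.mul 231 341) 341 = true := by decide +kernel

theorem centC_232 : rangeK centC (Nat.mul 232 341) 341 = true := by decide +kernel

theorem centC_233 : rangeK centC (Nat.mul 233 341) 341 = true := by decide +kernel

theorem centC_234 : rangeK centC (Nat.mul 234 341) 341 = true := by decide +kernel

theorem centC_235 : rangeK centC (Nat.mul 235 341) 341 = true := by decide +kernel

theorem centC_236 : rangeK centC (Nat.mul 236 341) 341 = true := by decide +kernel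

theorem centC_237 : rangeK centC (Nat.mul 237 341) 341 = true := by decide +kernel

theorem centC_238 : rangeK centC (Nat.mul 238 341) 341 = true := by decide +kernel

theorem centC_239 : rangeK centC (Nat.mul 239 341) 341 = true := by decide +kernel

theorem centC_part9 : ∀ q, 73656 ≤ q → q < 81840 → centC q = true := by
  have h : ∀ i < 24, rangeK centC (Nat.mul (216 + i) 341) 341 = true := by
    intro i hi
    interval_cases i
    · exact centC_216
    · exact centC_217
    · exact centC_218
    · exact centC_219
    · exact centC_220
    · exact centC_221
    · exact centC_222
    · exact centC_223
    · exact centC_224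
    · exact centC_225
    · exact centC_226
    · exact centC_227
    · exact centC_228
    · exact centC_229
    · exact centC_230
    · exact centC_231
    · exact centC_232
    · exact centC_233
    · exact centC_234
    · exact centC_235
    · exact centC_236
    · exact centC_237
    · exact centC_238
    · exact centC_239
  exact cover_part centC 216 341 24 (by norm_num) h

end Cfsg.Agent.Lib.helper17.OnOut
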