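import Cfsg.Agent.Lib.helper17.OnOut.CentC0
import Cfsg.Agent.Lib.helper17.OnOut.CentC1
import Cfsg.Agent.Lib.helper17.OnOut.CentC2
import Cfsg.Agent.Lib.helper17.OnOut.CentC3
import Cfsg.Agent.Lib.helper17.OnOut.CentC4
import Cfsg.Agent.Lib.helper17.OnOut.CentC5
import Cfsg.Agent.Lib.helper17.OnOut.CentC6
import Cfsg.Agent.Lib.helper17.OnOut.CentC7
import Cfsg.Agent.Lib.helper17.OnOut.CentC8
import Cfsg.Agent.Lib.helper17.OnOut.CentC9
import Cfsg.Agent.Lib.helper17.OnOut.CentC10
import Cfsg.Agent.Lib.helper17.OnOut.CentC11
import Cfsg.Agent.Lib.helper17.OnOut.CentC12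
import Cfsg.Agent.Lib.helper17.OnOut.CentC13
import Cfsg.Agent.Lib.helper17.OnOut.CentC14

set_option autoImplicit false

/-! All parts of the first search (generated, helper17) -/

namespace Cfsg.Agent.Lib.helper17.OnOut

open Cfsg.Agent.Lib.Helper12.TC

theorem centC_cover : ∀ q < 122760, centC q = true := by
  intro q hq
  have hf : q / 8184 < 15 := by omega
  have h1 : q / 8184 * 8184 ≤ q := Nat.div_mul_le_self q 8184
  have h2 : q < q / 8184 * 8184 + 8184 := Nat.lt_div_mul_add (by norm_num)
  generalize q / 8184 = f at hf h1 h2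
  interval_cases f
  · exact centC_part0 q (by omega) (by omega)
  · exact centC_part1 q (by omega) (by omega)
  · exact centC_part2 q (by omega) (by omega)
  · exact centC_part3 q (by omega) (by omega)
  · exact centC_part4 q (by omega) (by omega)
  · exact centC_part5 q (by omega) (by omega)
  · exact centC_part6 q (by omega) (by omega)
  · exact centC_part7 q (by omega) (by omega)
  · exact centC_part8 q (by omega) (by omega)
  · exact centC_part9 q (by omega) (by omega)
  · exact centC_part10 q (by omega) (by omega)
  · exact centC_part11 q (by omega) (by omega)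
  · exact centC_part12 q (by omega) (by omega)
  · exact centC_part13 q (by omega) (by omega)
  · exact centC_part14 q (by omega) (by omega)

end Cfsg.Agent.Lib.helper17.OnOut
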