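set_option autoImplicit false

/-! Data of the two searches for centralisers in the O'Nan group: the words of the two elements, the
masks of the exempt points, and the exempt points with their certificates (generated, helper17) -/

namespace Cfsg.Agent.Lib.helper17.OnOut

/-- the word of the element of order 11 -/
def cwL : List Nat := [nat_lit 6, nat_lit 5, nat_lit 4, nat_lit 1, nat_lit 2, nat_lit 3, nat_lit 0, nat_lit 2, nat_lit 5]

/-- the word of the element of order 10 -/
def uwL : List Nat := [nat_lit 0, nat_lit 1, nat_lit 0, nat_lit 3, nat_lit 2, nat_lit 4, nat_lit 3, nat_lit 2, nat_lit 3, nat_lit 7, nat_lit 4, nat_lit 3, nat_lit 2, nat_lit 1, nat_lit 3, nat_lit 4, nat_lit 7, nat_lit 2, nat_lit 6, nat_lit 1, nat_lit 7, nat_lit 1, nat_lit 7, nat_lit 2, nat_lit 3, nat_lit 4, nat_lit 5, nat_lit 2, nat_lit 3, nat_lit 4, nat_lit 2, nat_lit 0, nat_lit 1, nat_lit 6, nat_lit 4, nat_lit 3, nat_lit 2, nat_lit 3, nat_lit 4, nat_lit 1, nat_lit 2, nat_lit 3, nat_lit 2, nat_lit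 3, nat_lit 1, nat_lit 2, nat_lit 3, nat_lit 4, nat_lit 3, nat_lit 0, nat_lit 1, nat_lit 6, nat_lit 1, nat_lit 7, nat_lit 2, nat_lit 6, nat_lit 4, nat_lit 3, nat_lit 1, nat_lit 2, nat_lit 3, nat_lit 4, nat_lit 6, nat_lit 3, nat_lit 2, nat_lit 3, nat_lit 4, nat_lit 2, nat_lit 3, nat_lit 0, nat_lit 1, nat_lit 0]

/-- the word of an element of order 20 whose square is the element of order 10 -/
def w1L : List Nat := [nat_lit 3, nat_lit 2, nat_lit 7, nat_lit 3, nat_lit 4, nat_lit 7, nat_lit 3, nat_lit 1, nat_lit 2, nat_lit 3, nat_lit 1, nat_lit 2, nat_lit 3, nat_lit 4, nat_lit 6, nat_lit 5, nat_lit 4, nat_lit 3, nat_lit 1, nat_lit 2, nat_lit 3, nat_lit 4, nat_lit 0, nat_lit 1, nat_lit 2, nat_lit 3, nat_lit 1, nat_lit 2, nat_lit 3, nat_lit 4, nat_lit 5, nat_lit 1, nat_lit 2, nat_lit 3, nat_lit 4, nat_lit 0, nat_lit 1, nat_lit 2, nat_lit 4, nat_lit 3, nat_lit 2, nat_lit 1, nat_lit 3, nat_lit 2, nat_lit 1, nat_lit 0, nat_lit 3, nat_lit 4, nat_lit 3, nat_lit 2, nat_lit 1, nat_lit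 3, nat_lit 2, nat_lit 3, nat_lit 4, nat_lit 3, nat_lit 0, nat_lit 1, nat_lit 2, nat_lit 3, nat_lit 1, nat_lit 2, nat_lit 3, nat_lit 4, nat_lit 0]

/-- exempt points of the first search -/
noncomputable def exC : Nat := 0x2000000000000000000000000000000000000000000000000000000000000000000000000000000000000000000000000000000000000000000000000000000000000000000000000000000000000000000000000000000000000000000000000000000000000000000000000000000000000000000000000000000000000000000000000000000000000000000000000000000000000000000000000000000000000000000000000000000000000000000000000000000002000000000000000000000000000000000000000000000000000000000000000000000000000000000000000000000000000000000000000000000000000000000000000000000000000000000000000000000000000000000000000000000000000000000000000000000000000000000000000000000000000000000000000000000000000000000000000000000000000000000000000000000000000000000000000000000000000000000000000000000000000000000000000000000000000000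0000000000000000000000000000000000000000000000000000000000000000000000000000000000000000000000000000000000000000200000000000000000000000000000000000000000000000000000000000000000000000000000000000000000000000000000000000000000000000000000000000000000000000000000000008000000000000000000000000000000000000000000000000000000000000000000000000000000000000000000000000000000000000000000000000000000000000000000000000000000000000000000000000000000000000000000000000000000000000000000000000000000000000000000000000000000000000000000000000000000000000000000000000000000000000000000000000000000000000000000000000000000000000000000000000000000000000000000000000000000000000000000000000000000000000000000000000000000000000000000000000000000000000000000000000000000000000000000000000000000000000000000000000000000000000000000400000000000000000000000000000000000000000000000000000000000000000000000000000000000000000000000000000000000000000000000000000000000000000000000000000000000000000000000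0000000000000000000000000000000000000000000000000000000000000000000000000000000000000000000000000000000000000000000000000000000000000000000000000000000000000000000000000000000000000000000000000000000000000000000000000000000000000000000000000000000000000000000000000000000000000000000000000000000000000000400000000000000000000000000000000000000000000000000000000000000000000000000000000000000000000000000000000000000000000000000000000000000000000000000000000000000000000000000000000000000000000000000000000000000000000000000000000000000000000000000000000000000000000000000000000000000000000000000000000000000000000000000000000000000000000000000000000000000000000000000000000000000000000000000000000000000000000000000000000000000000000000000000000000000000000000000000000000000000000000000000000000000000000000000000000000000000000000000000000000000000000000000000000000000000000000000000000000000000000000000000000000000000000000000000000000000000000000000000000000000000000000000000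0000000000000000000000000000000000000000000000000000000000000000000000000000000000000000000000000000000000000000000000000000000000000000000000000000000000000000000000000000000000000000000000000000000000000000000000000000000000000000000000000000000000000000000000000000000000000000000000000000000000000000000000000000000000000000000000000000000000000000000000000000000000000000000000080000000000000000000000000000000000000000000000000000000000000000000000000000000000000000000000000000000000000000000000000000000000000000000000000000000000000000000000000000000000000000000000000000000000000000000000000000000000000000000000000000000000000000000000000000000000000000000000000000000000000000000000008000000000000000000000000000000000000000000000000000000000000000000000000000000000000000000000000000000000000000000000000000000000000000000000000000000000000000000000000000000000000000000000000000000000000000000000000000000000000000000000000000000000000000000000000000000000000000000000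0000000000000000000000000000000000000000000000000000000000000000004000000000000000000000000000000000000000000000000000000100000000000000000000000000000000000000000000000000000000000000000000000000000000000000000000000000000000000000000000000000000000000000000000000000000000040000000000000000000000000000000000000000000000000000000000000000000000000000000000000000000000000000000000000000000000000000000000000000000000000000000000000000000000000000000000000000000000000000000000000000000000000000000000080000000000000000000000000000000000000000000000000000000000000000000000000000000000000000000000000000000000000000000000000000000000000000000000000000000000000000000000000000000000000000000000000000000000000000000000000000000000000000000000000000000000000000000000000000000000000000000000000000000000000000000000000000000000000000000000000000000000000000000000000000000000000000000000000000000000000000000000000000000000000000000000000000000000000000000000000000000000000000000000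0000000000000000000000000000000000000000000000400000000000000000000000000000000000000000000000000000000000000000000000000000000000000000000000000000000000000000000000000000000000000000000000000000000020000000000000000000000000000000000000000000000000000000000000000000000000000000000000000000000000000000000000000000000000000000000000000000000000000000000000000000000000000000000000000000000000000000000000000000000000000000000000000000000000000000000000000000000000000000000000000000000000000000000000000000000000000000000000000000000000000000000000000000000000000000000000000000000000000000000000000000000000000000000000000000000000000000000000000000000000000000000000000000000000000000000000000000000000000000000000000000000000000000000000000000000000000000200000000000000000000000000000000000000000000000000000000000000000000000000000000000000000000000000000000000000000000000000000000000000000000000000000000000000000000000000000000000000000000000000000000000000000000000000000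0000000000000000000000000000000000000000000000000000000000000000000000000000000000000000000000000000000000000000000000000000000000000000000000000000000000000000000000000000008000000000000000000000000000000000000000000000000000000000000000000000000000000000000000000000000000000000000000000000000000000000000000000000000000000000000000000800000000000000000000000000000000000000000000000000000000000000000000000000000000000000000000000000000000000000000000000000000000000000000000000000000000000000000000000000000000000000000000000000000000000000000000000000000000000000000000000000000000000000000000000000000000000000000000000000000000000000000000000000000000000000000000000000000000000000000000000000000000000000000000000000000000000000000000000000000000000000000000000000000000000000000000000000000000000000000000000000000000000000000000000000000000000000000000000000000000000000000000000000000000000000000000000000000000000000000000000000000000000000000000000000000000000000000000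0000000000000000000000000000000000000000000000000000000000000000000000000000000000000000000000000000000000000000000000000000000000000000000000000000000000000000000000000000000000000000000000000000000000000000000000000000000000000000000000000000000000000000000000000000000000000000000000000000000000000000000000000000000000000000000000000000000000000000000000000000000000000000000000000000000000000000000000000000000000000000000000000000000000000000000000000000000000000000000000000000000000000000000000000000000000000000000000000000000000000000000000000000000000000000000000000000000000000000000000000000000000000000000000000000000000000000000000000000000000000000000000000000000000000000000000000000000000000000000000000000000000000000000000000000000000000000000000000000000000000000000000000000000000000000000000000000000000000000000000000000000000000000000000000000000000000000000000000000000000000000000000000000000000000000000000000000000000000000000000000000000000000000000000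0000000000000000000000000000000000000000000000000000000000000000000000000000000000000000000000000000000000000000000000000000000000000000000000000000000000000000000000000000000000000000000000000000000000000000000000000000000000000000000000000000000000000000000000000000000020000000000000000000000000000000000000000000000000000000000000000000000000000000000000000000000000000000000000000000000000000000000000000000000000000000000000000000000000000000000000000000000000000000000000000000000000000000000000000000100000000000000000000000000000000000000000000000000000000000000000000000000000000000000000000000000000000000000000000000000000000000000000000000000000000000000020000000000000000000000000000000000000000000000000000000000000000000000000000000000000000200000000000000000000000000000000000000000000000000000000000000000000000000000001000000000000000000000000000000000000000000000000000000000000000000000000000000000000000000000000000000000000000000000000000000000000000000000000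0000000000000000000000000000000000000000000000000000000000000000000000000000000000000000000000000000000000000000000000000000000000000000000000000000000000000000000000000000000000000000000000000000000000000000000000000000000000000000000000000000000000000000000000000000000000000000000000000000000000000000000000000100000000000000000000000000000000000000000000000000000000000000000000000000000000000000000000000000000000000000000000000000000000000000000000000000000000000000000000000000000000000000000000000000000000000000000000000000000000000000000000000000000000000000000000000000000000000000000000000000000000000000000000000000000000000000000000000000000000000000000000000000000000000000000000000000000000000000000000000000000000000000000000000000000000000000000000000000000000000000000000000000000000000000000000000000000000000000000000000000000000000000000000000000000000000000000000000000000000000000000000000000000000000000000000000000000000000000000000000000000000000000000000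0000000000000000000000000000000000000000000000000000000000000000000000000000000000000000000000000000000000000000000000000000000000000000000000000000000000000000000000000000000000000000000010000000000000000000000000000000000000000000000000000000000000000000000000000000000000000000000000000000000000000000000000000000000000000000000000000000000000000000000000000000000000000000000000000000000000000000000000000000000000000000000000000000000000000000000000000000000000000000000000000000000000000000000000000000000000000000000000000000000000000000000000000000000000000000000000000000000000000000000000000000000000000000000000000000000000000000000000000000000000000000000000000000000000000000000000000000000000000000000000000000000000000000000000000000000000000000000000000004000000000000000000000000000000000000000000000000000000000000000000000000000004000000000000000000000000000000000000000000000000000000000000000000000000000000000000000000000000000000000000000000000000000000000000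0000000000000000000000000000000000000000000000000000000000000000000000000000000000000000000000000000000000000000000000000000000000000000000000000000000000000000000000000000000000000000000000000000000000000000000000000000000000000000000000000000000000000000000000000000000000000000000000000000000000000000000000000000000000000000000000000000000000000000000000000000000000000000000000000000000000000000000000000000000000002000000000000000000000000000000000000000000008000000000000000000000000000000000000000000000000000000000000000000000000000000000000000000000000000000000000000000000000000000000000000000000000000000000000000000000000000000000000000000000000010000000000000000000000000000000000000000000000000000000000000000000000000000000000000000000004000000000000000000000000000000000000000000000000000000000000000000000000000000000000000000000000000000000000000000000000000000000000000000000000000000000000000000000000000000000000000000000000000000000002000000000000000000000000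0000000000000000000000000000000000000000000000000000000000000000000000000000000000000000000000000000000000000000000000000000000000000000000000000000000000000000000000000000000000000000000000000000000000000000000000000000000000000000000000000000000000000000000000000000000000000000000000000000000000000000000000000000000000000000000000000000000000000000000000000000000000000000000000000000000000000000000000000000000000000000000000000000000000000000000000000000000000000000000000000000000000000000000000000000000000000000000000000000000000000000000000000000000000000000000000000000000000000000000000000000000000000000000000000000000000000000000000000000000000000000000000000000000000000000000000000000000000000000000000000000000000000000000000000000000000000000000000000000000000000000000000000000000000000000000000000000000000000000000000000000000000000000000000000000000000400000000000000000000000000000000000000000000000000000000000000000000000000000000000000000000000000000000000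0000000000000000000000000000000000000000000000000000000000000000000000000000000000000000000000000000000000000000000000000000000000000000000000000000000000000000000000000000000000000000000000000000000000000000000000000000000000000000000000000000000040000000000000000000000000000000000000000000000000000000000000000000000000000000000000000000000000000000000000000000000000000000000000000000000000000000000000000000000000000000000000000000000000040000000000000000000000000000000000000000000000000000000000000000000000000000000000000000000000000000000000000000000000000000000000000000000000000000000000000000000000000000000000040000000000400000000000000000000000000000000000000000000000000000000000000000000000000000000000000000000000000000000000000000000000000000000000000000000000000000000000000000000000000000000000000000000000000000000000000000000000000000000000000000000000000000000000000000000000000400000000000000000000000000000000000000000000000000000000000000000000000000000000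0000000000000000000000000000000000000000000000000000000000000000000000000000000000000000000000000000000000000000000000000000000000000000000000000000000000000000000000000000000000000000000000000000000000000000000000000000000000000000000000000200000000000000000000000000000000000000000000000000000000000000000000000000000000000000000000000000000000000000000000000000000000000000000000000000000000000000000000000000000000000000000000000000000000000000000000000000000000000004000000000000000000000000000000000000000000000000000000000000000000000000000000000000000000000000000000000000000000000000000000000000000000000000000000000000000000000000000000000000000000000000000000000000000000000000000000000000000000000000000000000000000000000000000000000000000000000000000000000000000000000000000000000000000000000000000000000000000000000000000000000000000000000000000000000000000000000000000000000000000000000000000000000000000000000000000000000000000000000000000000000000000000000000000000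0000000000000000000000000000000000000000000000000000000000000000000000000000000000000000000000000000000000000000000000000000000000000000000000000000000000000000000000000000000000000000000000000000000000000000000000000000000000000000000000000000000000000000000000000000000000000000000000000000000000000000000000000000000000000000000000000000000000000000000000000000000000000000000000000000000000000000000000000000000000000000000000000000000000000000000000000000000000000000000000000000000000000000000000000000000000000000000000000000000000000000000000000000000000000000000000000000000000000000000000000000000000000000000000000000000000000000000000000000000000000000000000000000000000000000000000000000000000000000000000000000000000000000000000000000000000000000000000000000000000000000000000000000000020000000000000000000000000000000000000000000400000000000000000000000000000000000000000000000000000000000000000000000000000000000000000000000000000000000000000000000000000000000000000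0000000000000000000000000000000000000000000000000000000000000000000000000000000000000000000000000000000000000000000000000000000000000000000000000000000000000000000000000000000000000000000000000000000000000000000000000000000000000000000000000000000000000000000000000000000000000000000000000000000000000000000000000000000000000000000000000000000000000000000000000000000000000000000000000000000000000000000000000000000000000000000000000000000000000000000000000000000000000000000000000000000000000000000000000000000000000000000000000000000000000000000000000000000000000000000000000000000000000000000000000000000000000000000000000000000000000000000000000000000000000000000000000000000000000000000000000000000000000000000000000000000000000000000000000000000000000000000000000000000000000000000000000000000000000000000000000000000000000000000000000000000000000000000000000000000000000000000000000000000000000000000000000000000000000000000000000000000000000000000000000000000000000000000000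0000000000000000000000000000000000000000000000000000000000000000002000000000000000000000000000000000000000000000000000000000000000000000000000000000000000000000000000000000000000000000000000000000000000000000000000000000000000000000000000000000000000000000000000000000000000000000000000000000000000000000000000000000000000000000000000000000000000000000000000000000000000000000000000000000000000000000000000000000000000000000000000000000000000000000000000000000000000000000000000000000000000000000000000000000000000000000000000000000000000000000000000000000000000000000000000000000000000000000000000000000000000000000020000000000000000000000000000000000000000000000000000000000000000000000000000000000000000000000000000000000000000000000000000000000000000000000000000000000000000000000000000000000000000000000000000000000000000000000000000000000000000000000000000000000000000000000000000000000000000000000000000000000000000000010000000000000000000000000000000000000000000000000000000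0000000000000000000000000000000000000000000000000000000000000000000000000000000000000000000000000000000000000000000000000000000000000000000000000000000000000000000000000000000000000000000000000000000000000000000000000000000000000000000000000000000000000000000000000000000000000000000000000000000000000000000000000000000000000000000000000000000000000000000000000000000000000000000000000000000000000000000000000000000000000000000000000000000000000000000000000000000000000000000000000000000000000000000000000000000000000000000000000000000000000000000000000000000000000000000000000000000000000000000000000000000000000000000000000000000000000000000000000000000000000000000000000000000000000000000000000000000000000000000000000000000000000000000000000000000000000000000000000000000000000000000000000000000000000000000000000000000000000000000000000000000000000000000000000000000000000000000000000000000000000000000000000000000000000000000000000000000000000000000000000000000000000000000000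0000000000000000000000000000000000000000000000000000000000000000000000000000000000000000000000000000000000000000000000000000000000000000000000000200000000000000000000000000000000000000000000000000000000000000000000000000000000000000000000000000000000000000000000000000000000000000000000000000000000000000000000000000000000000000000000000000000000000000000000000000000000000000000000000000000000000000000000000000000000000000000000000000000000000000000000000000000000000000000000000000000000000000000000000000000000000000000000000000000000000000000000000000000000000000000000000000000000000000000000000000000000000000000000000000000000000000000000000000000000000000000000000000000000000000000000000000000000000000000000000000000000000000000000000000000000000000000000000000000000000000000000000000000000000000000000000000000000000000000000000000000000000000000000000000000000000000000000000000000000000000000000000000000000000000000000000000000000000000000000000000000000000000000000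0000000000000000000000000000000000000000000000000000000000000000000000000000000000000000000000000000000000000000000000000000000000000000000000000000000000000000000000000000000000000000000000000000000000000000000000000000000000000000000000000000000000000000000000000000000000000000000000000000000000000000000000000000000000000000000000000000000000000000000000000000000000000000000000000000000000000000000000000000000000000000000000000000000000000000000000000000000000000000000000000000000000000000000000000000000000000000000000000000000000000000000000000000000000000000000000000000000000000000000000000000000000000000000000000000000000000000000000000000000000000000000000000000000000000000000000000000000000000000000000000000000000000000000000000000000000000000000000000000000000000000000000000000000000000000000000000000000000000000000000000000000000000000000000000000000000000000000000000000000000000000000000000000000000000000000000000000000000000000000000000000000000000000000000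0000000000000000000000000000000000000000000000000000000000000000000000000000000000000000000000000000000000000000000000000000000000000000000000000000000000000000000000000000000000000000000000000000000000000000000000000000000000000000000000000000000000000000000000000000000000000000000000000000010000000000000000000000000000000000000000000000000000000000000000000000000000000000000000000000000000000000000000000000000000000000000000000000000000000000000000000000000000800000020000000100000000000000000000000000000000000000000000000000000000000000000000000000000000000000000000000000000000000000000000000000000000000000000000000000000000000000000000000000000000000000000000000000000000000000000000000000000000000000000000000000000000000000000000000000000000000000000000000000000000000000000000000000000000000000000000000000000000000000000000000000000000000000000000000000000000000000000000000000000000000000000000000000000000000000000000000000000000000000000000000000000000000000000000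0000000000000000000000000000000000000000000000000000000000000000000000000000000000000000000000000000000000000000000000000000000000000000000000000000000000000000000000000000000000000000000000000000000000000000000000000000000000000000000000000000000000000000000000000000000000000000000000000000000000000000000000000000000000000000000000000000000000000000000000000000000000000000000000000000000000000000000000000000000100000000000000000000000000000000000000000000000000000000000000000000000000000000000000000000000000000000000000000000000000000000000000000000000000000000000000000000000000000000000000000000000000000000000000000000002000000000000000000000000000000000000000000000000000000000000000000000000000000000000000000000000000000000000000000000000000000000000000000000000000000000000000000000002000000000000000000000000000000000000000000000000000000000000000000000000000000000000000000000000000000000000000000000000000000000000000000000000000000000000000000000000000000000000000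0000000000000000000000000000000000000000000000000000000000000000000000000000000000000000000000000000000000000000000000000000000000000000000000000000000000000000000000000000000000000000000000000000000000000000000000000000000000000000000000000000000000000000000000000000000000000000000000000000000000000000000000000000000000000000000000000000000000000000000000000000000000000000000000000000000000000000000000000000000000000000000000000000000000000000000000000000000000000000000000000000000000000000000000000000000000000000000000000000000000000000000000000000000000000000000000000000000000000000000000000000000000000000000008000000000000000000000000000000000000000000000000000000000000000000000000000000000000000000000000000000000000000000000000000000000000000000000000000000000000000000000000000000000000000000000000000000000000000000000000000000000000000000000000000000000000000000000000000000000000000000000000000000000000000000000000000000000000080000000000000000000000000000000000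0000000000000000000000000000000000000000000000000000000000000000000000000000000000000000000000000000000000000000000000000000000000000000000000000000000000000000000000000000000000000000000000000000000000000000000000000000000000000000000000000000000000000000000000000000000000000000000000000000000000000000000000000000000000000000000000000000000000000000000000000000000000000000000000000000000000000000000000000000000000000000000000000000000000000000000000000000000000000000000000000000000000000000000000000000000000000000000000000000000000000000000000000000000000000000000000000000000000000000000000000000000000000000000000000000000000000000000000000000000000000000000000000000000000000000000000000000000000000000000000000000000000000000000000000000000000000000000000000000000000000000000000000000000000000000000000000000000000000000000000000000000000000000000000000000000000000000000000000000000000000000000000000000000000000000000000000000000008000000000000000000000000000000000000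0000000000000000000000000000000000000000000000000000000000000000000000000000000000000000000000000000000000000000000000000000000000000000000000000000000000000000000000000000000000000000000000000000000000000000000000000000000000000000000000000000000000000000000000000000000000000000000000000000000000000000000000000000000000000000000000000000000000000000000000000000000000000000000000000000000000000000000000000000000000000000000000000000000000000000000000000000000000000000000000000000000000000000000000000000000000000000000000000000000000000000000000000000000000000000000000000000000000000000000000000000000000000000000000000000000000000000000000000000000000000000000000000000000000000000000000000000000000000000000000000000000000000002000000000000000000000000000000000000000000000000000000000000000000000000000000000000000000000000000000000000000000000000000000000000000000000000000000000000000000000000000000000000000000000000000000000000000000000000000000000000000000000000000000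0000000000000000000000000000000000000000000000000000000000000000000000000000000000000000000000000000000000000000000000000000000000000000000000000000000000000000000000000000000000000000000000000000000000000000000000000000000000000000000000000000000000000000000000000000000000000000000000000000000000000000000000000000000000000000000000000000000000000000000000000000000000000000000000000000000000000000000000000000000000000000000000000000000000000000000000000000000000000000000000000000000000000000000000000000000000000000000000000000000000000000000000000000000000000000000000000000000000000000000000000000000000000000000000000000000000000000000000000000000000000000000000000000000000000000000000000000000000000000000000000000000000000000000000000000000000000000000000000000000000000000000000000000000000000000000000000000000000000000000000000000000000000000000000000000000000000000000000000000000000000000000000000000000000000000000000000000000000000000000000000000000000000000000000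0000000000000000000000000000000000000000000000001000000000000000000080000000000000000000000000000000000000000000000000000000000000000000000000000000000000000000000000000000000000000000000000000000000000000000000000000000000000000000000000000000000000000000000000000000000000000000000000000000000000000000000000000000000000000000000000000000000000000000000000000000000000000000000000000000000000400000000000000000000000000000000000000000000000000000000000000000000000000000000000000000000000000000000000000000000000000000000000000000000000000000000000000000000000000000000000000000000000000000000000000000000000000000000000000000000000000000000000000000000000000000000000040000000000000000000000000000000000000000000000000000000000000000000000000000000000000000000000000000000000000000000000000000000000000000000000000000000000000000000000000000000000000000000000000000000000000000000000000000000000000000000000000000000000000000000000000000000000000000000000000000000000000000000000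0000000000000000000000000000000000000000000000000000000000000000000000000000000000000000000000000000000000000000000000000000000000000000000000000000000000000000000000000000000000000000000000000000000000000000000000000000000000000000000000000000000000000000000000000000000000000000000000000000000000000000000000000000000000000000000000000000000000000000000000000000000000000000000000000000000000000000000000000000000000000000000000000000000000000000000000000000000000000000000000000000000000000000000000000000000000000000000000000000000000000000000000000000000000000000000000000000000000000000000000000000000000000000000000000000000000000000000000000000000000000000000000000000000000000000000000000000000000000000000000000000000000000080000000000000000000000000000000000000000000000000000000000000000000000000000000000000000000000000000000000000000000000000000000000000000000000000000000000000000000000000000000000000000000000000000000000000000000000000000000000000000000000000000000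0000000000000000000000000000000000000000000000000000000000000000000000000000000000000000000000000000000000000000000000000000000000000000000000000000000000000000000000000000000000000000000000000000000000000000000000000000000000000000000000000000000000000000000000000000000000000000000000000000000000000000000000000000000000000000000000000000000000000000000000000000000000000000000000000000000000000000000000000000000000000000000000000000000000000000000000000000000000000000000000000000000000000000000000000000000000000000000000000000000000000000000000000000000000000000000000000000000000000000000000000000000000000000000000000000000000000000000000000000000000000000000000000000000000000000000000000000000000000000000000000000000000000000000000000000000000000000000000000000000000000000000000000000000000000000000000000000000000000000000000000000000000000000000000000000000000000000000000000000000000000000000000000000000000000000000000000000000000000000000000000000000000000000000000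0000000000000000000000000000000000000000000000000000000000000000000000000000000000000000000000000000000000000000000000000000000000000000000000000000000000000000000000000000000000000000000000000000000000000000000000000000000000000000000000000000000000000000000000000000000000000000000000000000000000000000000000000000000000000000000000000000000000000000000000000000000000000000000000000000000000000000000000000000000000000000000000000000100000002000000000000000000000000000000000000000000000000000000000000000000000000000000000000000000000000000000000000000000000000000000000000000000000000000000000000000000000000000000000000000000000000000000000000000000000000000400000000000000000000000000000000000000000000000000000000000000003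

/-- exempt points of the second search -/
noncomputable def exU : Nat := 0x40000000000000000000000000000000000000000000000000000000000000000000000000000000000000000000000000000000000000000000000000000000000000000000000000000000000000000000000000000000000000000000000000000000000000000000000000000000000000000000000000000000000000000000000000000000000000000000000000000000000000000000000000000000000000000000000000000000000000000000000000000000000000000000000000000000000000000000000001000000000000000000000000000008000000000000000000000000000000000000000000000000000000000000000000000000000000000000000000000000000000000000000000000000000000000000000000000000000000000000000002000000000000000000000000000000000000000002000004000000800000000000000000000000000000000000000000000000000000000000000000000000000000000000000000000000000000000000000000000000000000000000000000000004000000000000000000000000000000000000000000000000000000000000000000000000000000000000000000000000000000000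0000000000000000000000000000000000000000000000000000000000000000000000000000000000000000000000000000000000000000000000000000000000000000000000000000000000000000000000000000000000000000000000000000000000000000000000000000000000000000000000000000000000000000000000000000000000000000000000000000002000000000000000000000000200000000000000000000000000000000000000000000000000000000000000000000000000000000000000000000000000000000000000000000000000000000000000000000000000000000000000000000000000000000000000000000000000000000000000000000000000000000000000000000000000000000000000000000000000000000000000000000000000000000000000000000000000000000000000000000000000000000000000000000000000000000000000000000000000000000000000000000000000000000000000000000000000000000000000000000000000000000000000000000000000000000000000000000000000000000000000000000000000000000000000000000000010000000000000000000000000000000000400000000000000000000000000000000000000000000000000000020000000000000000000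0000000000000000000000000000000000000000000000000000000000000000000000000000000000080000000000000000000000000000000000000000000000000000000000000000000000000000000000000000000000000000000000000000000000000000000000000000000000000000000000000000000000000000000000000000000000000000000000000000000000000000000000000000000000000000000000000000000000000000000000000000000000000000000000000000000000000000000000000000000000000000000000000000000000200000000000000000000000000000000000000000000000000000000000000000000000000040000000000000000000000000000000000000000000000000020000000000000000000000000000000000000000000000000000000000000000000000000000000000000000000000000000000000000000000000000000000000000000000000000000000000000000000000000400000000000000000000000000000000000000000000000000000000000000000000000000000000000000000000000000800000000000000000000000000000000000000000000000000000000000000000000000000000000000000000000000000000000000000000000000000000000000000000000000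0000000000000000000000000000000000000000000000000000000000000000400000000000000000000000000000000000000000000000000000000000000000000000000000000000000000000000000000000000000000000000000000000000000000000000010000000000000000000000000000000000000000000000000000000000000000000000000000000000000000000000000000000000000000000000000000000000000000000000000000000000000000000000000000000000000000000000000000000000000000000000000000000000000000000000000000000000000000000000000000000000000000000000000000000000000800000000000000000000000000000000000000000000000000000000000000000000000000000000000000800000000000000000000000000000000000000000000000000000000000000000000000000000000000000000000000000000000000000000000000000000000000000000000000000000000000000000000000000000000000000000000000000000000000000000000000000000000000000000000000000000000000000000000000000000000000000000000000000000000000000000000000000000000000000000000000000000000000000000000000000000000000000000000000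0000000000000000000000000000000000000000000000000000000000000000000000000000000000000000000000000000000000200000000000000000000000000000000000000000000000000000000000000000000000000000000000000000000000000000000008000000000000000000000000000000000000000000000000000000000000000000000000000000000000000000000000000000000000000000000000000000000000002000000000000000000000000000000000000000000000000000000000000000000000000000000000000000000000000000000000000000000000000000000000000000000000000000000000000000000000000000000000000000000000000000000000000000000000000000000000000000000000000000000000000000000000000000000000000000000000000000000000000000000000000000000000000000000000000000000000010000000000000000000000000000000000000000000008000000000000000000000000000000000000000000000000000000000000000000000000000000000000000000000000000000000000000000000000000000000000000000000000000000002000000000000000000000000000000000000000000000000000000000000000000000000000000000000000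0000000000000000000000000000000000000000000000200000000000000000000000000000000000000000000000000000000000000000000000000000000000000000000000000000000000000000000000000000000000000000000000000000000000000000000000000000000000000000000000000000000000000000000000000000000000004000000000000000000000000000000000000000000000000000000000000000000000000000000000000000000000000000000000000000000000000000000000000000000000000000000000000000000000000000000000000000000000000000000000000000000000000000000000000000000000000000000000000000000000000000000000000000000000000000000000000000000000000000000000000000000000000000000000000000000000000000000000000000000000000000000000000000000000000000000000000000000000000000000000000000000000000000000000000000000000000000000000000000000000080000000000000000000000000000000000000000000000000000000000000000040000000000000000000000000000000000000000010000000000000000000000000000000000000000000000000000000000000000000000000000000000000000000000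0000000000000000000000000000000000000000000000000000800000000000000000000000000000000000000000000000000000000000000000000000000000000000000000000000000000000000000000000000000000000002000000000000000000000000000000000000000000000000000000000000000000000000000000000000000000000000000000000000000000000000000000000000000000000000000000000000000000000000000000000000000000000000000000000000000000000000000000000000000000000000000000000000000000000001000000000000000000000000000000000000000010000000000000000000000000000000000000000000000000000000000000000000000000000000000000000000000000000000000000000000000000000000000000000000000000000000000000000000000000000000000000000000000000000000000000000000000000000000000000000000000000000000000000000000000000000000000000000000000000000000000000000000000000000000000000000000000000000000000000000000000000000000000000000000000000000000000000000000000000000000000000000000000000000000000000000000000000000000000000000000000000000000000000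0000000000000000000000000000000000000000000000000000000000000000000000000000000000000000000000000000000000000000000000000000000000000000000000000000000000000000000000000000000000000000000000000000000000000000000000000000000000000000000000000000000000000000000000000000000000000000000000000000000000000000000000000000000000000000000000000000000000000000000000000000000000000000000000000000000000000000000000000000000000000000000000000000000000000000000000000000000000000000000000000000000000000000000000000000000000000000000000000000000000000000000000000000000000000000000000000000000000000000000000000000000000000000000000000000000000000000080000000000000000000000000000000000000000000000000000000000000000000000000000000000000000000000000000000000000000000000000000000000000000000000000000000000000000000000000000000004000000000000040000000000000000000000000000000000000000000000000000000000000000000000000000000000000000000000000000000000000000000000000000000000000000000000000000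0000000000000000000000000000000000000000000000000000000000000000000000000000000000000000000000000000000000000000000000000000000000000000000000000000000000000000000000000000000000000000000000000000000000000000000000000000000000000000000000000000000000000000000000000000000000000000000000000000000000000000000000000000000000000000000000000000000000000000000000000000000000000000000000000000000000000000000000000000000000000000000000000000000000000000000000000000000000000000000000000000000000000000000000000000000000000000000000000000000000000000000000000000000000000000000000000000000000000000000000000000000000000000000000000000000000000000000000000000000000000000000000000000000000000000000000000000000000000000000000000000000000000000000000000000000000000000000000000000000000000000000000000000000000000000000000000000000000000000000000000000000000000000000000000000000000000000000000000000000000000000000000000000000000000000000000000000000000000000000000000000000000000000000000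0000000000000000000000000000000000000000000000000000000000000000000000000000000000000000000000000000000000000000000000000000000000000000000000000000000000000000000000000000000000002000000000000000000000000000000000000000000000000000000000000000000000000000000000000000000000000000000000000000000000000400000000000000000000000000000000000000000000000000000000000000000000000000000000000000000000000800000000000000000000000000000000000000000000000000000000000000000000000000000000000000000000000000000000000000000000000000000000000000000000000000000000000000000000000000000000000000000000000000000000000000000000000000000000000000000000000000000000000000000000000000000000000000000000000000000000000000000000000000000000000000000000000000000000000000000000000000000000000000000000000200000000000000000000000000000000000000000000000000000000000000000000000000000000000000000000000000000000000000000000000000000000000000000000000000000000000000000000000000000000000000000000000000000000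0000020000000000000000000000000000000000000000000000000000000000000000000000000000000000000000000000000000000000000000000000000000000000000000000000000000000000000010000000000000000000000000000000000000000000000000000000000010000000000000000000000000000000000000000000000000000000000000000000000000000000000000000000000000000000000000000000000000000000000000000000000000000000000000000000000000000000000000000000000000000000000000000000000000000000000000000000000000000000000000000000000000000000000000000000000000000000000000000000000000000000000000000000000000000000000000000000000000000000000000000000000000000000000000000000000000100000000000000000000000000000000000000000000000000000000000000000000000000000000000000000000000000000000000000000000000000000000000000000000000000000000000000000000000000000000000000000000000000000000000000000000000000000000000000000000000000000000000000000000000000000000000000000000000000000000000000000000000000000000000000000000000000000000000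0000000000000000000000000000000000000000000000000000000000000000000000000000000000000000000000000000000000000000000000000000000000000000000000000000000000000000000000000000000000000000000000000000000000000000000000000000000000000000000000000001000000000000000000000000000000000000000000000000000000000100000000000000000000000000000000000000000000000000000000000000000000000000200000000000000000000000000000000000000000000000000000000000000000000000000000000000000000000000000000000000000000000000000000000000000000000000000000000000000000000000000000000000000000000000000000000000000000000000000000000000000000000001000000000000000000000000000000000000000000000000000000000000000000000000000000000000000000000000000000000000000000000000000000000000000000000000000000000000000000000000000000000000000000000000000000000000000000000000000000000000000000000000000000000000000000000000000000000000000000000000000000000000000000000000000000000000000000000000000000000000000000000000000000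0000200000000000000000000000000000000000000000000000000000000000000000000000000000000000000000000000000000000000000000000000000000000000000000000000000000000000000000000000000000000000000000000000000000000000000000000000000000000000000000000000000000000000000000000000000000000000000000000000000000000000000000000000000000000000000000000000000000000000000000000000000000000000000000000000000000000000000000000000000000000000000000000000000000000000000000000000000000000000000000000000000000000000000000000000000000000000000000000000000000000000000000000000000000000000000000000000000000000000000000000000000000000000000000000000000000000000000000004000000000000000000000000000000000000000000000000000000000000000000000000000000000000000000000000000000000000000000000000000000000000000000000000000000000000000000000000000000000000000000000000000000000000000000000000000000000000000000000000000000000000000000000000000000000000000000000000000000000000000000000000000000000000000000000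0000000000000000000000000000000000000000000000000000000000000000000000000000000000000000000000000000000000000000000000000000000000000000000000000000000000000000000000000000000000000000000000000000000000000000000000000000000000000000000000000000000000000000000000000000000000000000000000000000000000000000000000000000000000000000000000000000000000000000000000000000000000000004000000000000000000000000000000000000000000000000000000000000000000000000000000000000000000000000000000000000000000080000000000000000000000000000000000000000000000000000000000000000000000000000000000000000000000000000000000000000000000000000000000000000000000000000000000000020000000000000000000400000000000000040000000000000000000000000000000000000000000000000000000000000000000000000000000000000000000000000000000000040000000000000000000000000000000000000000000000000000000000000000000000000000000000000000000000000000000000000000000000000000000000000000000000000000000000000000000000000000000000000000000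0000000000000000000000000000000000000000000000000000000000000000000000000000000000000000000000000000000000000000000000000000000000000000004000000000000000000000000000000000000000000000000000000000000000000000000000000000000000000000000000400000000000000000000000000000000000000000000000000000000000000000000000000000000000000000000000000000000000000000000000000000000000000000000000000000000000000000000000000000000000000000000000000000000000000000000000000000000000000000000000000000000000000000000000000000000000000000000000000000000000000000000000000000000000000000000000000000000000000000000000000000000000000000000000000000000000000000000000200000000000000000000000000000000000000000000000000000000000000000000000000000000000000000000000000000000000000000000000000000000000000000000000000000000000000000000000000000000000000000000000000000000000000000000000000000000000000000000000000000000000000000000000000000000000000000000000000000000000000000000000000000000000000000000000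0000000000000000000000008000000000000000000000000000000000000000000000000000000000000000000000000000000000000000000000000000000000000000000000000000000000000000000000000000000000000000000000000000000000000000000000010000000000000000000000000000000000000000000000000000000004000000000000000000000000000000000000000000000000000000000000000000000000000000000000000000000000000000000000000000000000000000000000000000000000000000000000000000000000000000000000000000000000000000000000000000000000000000000000000000000000000000000000000000000000000000000000000000000000080000000000000000000000000000000000000000000000000000000000000000000000000000000000000000000000000000000000000000000000000000000000000000000000000000000008000000000000000000000000000000000000000000000000000000000000000000000000000000000000000000000000000000000000000000000000000000000000000000200000000000000000000000000000000000000000000000200000000000000000000000000000000000000000000000000000000000000000000000000000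0000000000000000000000000000000000000000000000000000000000000400000000000000000000000000000000000000000000000000000000000000000000000000000000000000000000000000000000000000000000000000000000000000000000000000000000000000000000000000000000000000000000000000000000000000000000000000000000000000000000000000000000000000000000000000000000000000000000000000000000000000000000000000000000000000000000000000000000000000000000000000000000000000000000000000000000000000000000000000000000000000000000000000000000000000000000000000000000000000000000000000000000000000000000000000000000000000000000000000000000000000000000000000000000100000000000000000000000000000000000000000000000000000000000000000000000000000000000000000000000000000000000000000000000000000000000000000000000000000000000000000000000000000000000000000000000000000000000000000000000000000000000000000000000000000000000008000000000000000000000000000004000000000000000000000000000000000000000000000000000000000000000000000000000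0000000000000000000000000000000000000000000000000000000000000000000000000000000000000000000000000000000000000000000000000000000000000000000000000000000000000000000000000000000000000000000000000000000000000000000000000000000000000000000000000000000000000000000000000000000000000000000000000000000000000000000000000000000000000000000000000000000000000000000000000000000000000000000000000000000000000000000000000000000000000080000000000000000000000000000000000000000000000000000000000000000000000000000000000000000000000000000000000000000000000000000000000000000000000000000000000000000000000000000000000000000000000000000000000000000000000000000000000000000000000000000000000000000000000000000000000000000000000000000000000000000000000000000000000000000000000000000000000000000000000000000000000000000000000000000000000000000000000000000000000000000000000000000000000000000000000000000000000000000000000000000000000000000000000000000000000000000000000000000000000000000000000000000000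0000000000000000000000000000000000000000000000000000000000000000000000000000000000000000000000000000000000000000000000000000000000000000000000000000000000000000000000000000000000000000000000000000000000000000000000000000000000000000000000000000000000000000000000000000000000000000000000000000000000000000000000000000000000000000000000000000000000000000000000000000000000000000000000000000000000000000000000000000000000000000000000000000000000000000000000000000000000000000000000000000010000000000010000000000000000000000000000000000000000000000000000000000000000000000000000000000000000000000000000000000000000000000000000000000000000000200000000000000000000000000000000000000000000000000000000000000000000000000000000000000000000000000000000000000000000000000000000000000000000000000000000000000000000000000000000000000000000000000000000000000000000000000000000000000000000000000000000000000000000000000000000000000000000000000000000000000000000000000000000000000000000000000000000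0000000000000000000000000000000000000000000000000000000000000000000000000000000000000000000000000000000000000000000000000000000000000000000000000000000000000000000000000000000000000000000000000000000000000000000000000000000000000000000000000000000000000000000000000000000000000000000000000000000000000000000000000000000000000000000000000000000000000000000000000000000000000000000000000000000000000000000000000000000000000000000000000000000000010000000000000000000000000000000000000000000000000000000000000000000000000000000000000000000000000000000000000000000000000000000000000000000000000000000000000000000000000000000000000000000000000000000000000000000000000000000000000000000000000000000000000000000000000000000000000000000000000000000000000000000000000000000000000000000000000000000000000000000000000000000000000000000000000000000000004000000000000000000000000000000000000000000000000000000000000000000000000000000000000000000000000000000000000000000000000000000000000000000000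0000000000000000000000000000000000000000000000000000000000000000000000000000000000000000000000000000000000000000000000000000000000000000000000000000000000000000000000000000000000000000000000000000000000000000000000000000000000000000000000000000000000000000000000000000000000000000000000000000000000000000000000000000000000000000000000000000000000000000100000000000000000010000000000000000000000000000000000000000000000000000000000000000000000000000000000000000000000000000000000000000000000000000000000000000000000000000000000000000000000000000000000000000000000000000000000000000000000000000000000000000000000000000000000000000000000000000000000000000000000000000000000000000000000000000000000000000000000000000000000000000000000000000000000000000000000000000000000000000000000000000000000040000000000000000000000000000000000000000000000000000000000000000000000000000000000000000000000000000000000000000000000000000000000000000000000000000000000000000000000000000000000000000000000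0000000000000800000000000000000000000000000000000000000000000000000000000000000000000000000000000000000000000000000000000000000000000000000000000000000000000000000000000000000000000000000000000000000000000000000000000000000000000000000000000000000000000000000000000000000000000000000000000000000000000000000000000000000000000000000000000000000000000000000000000000000000000000000000000000000000000000000000000000000000000000000000000000000000000000000000000000000000000000000000000000000000000000000000000000000000000000000000000000000000000000000000000000000000000000000000000000000000000000000000000000000000000000000000000000000000000000000800000000000000000000000000000000000000000000000000000000000000000000000000000000000000000000000000200000000000000000000000000000000000000000000000000000000000000000000000000000000000000000000000000000000000000000000000000000000000000000000000000000000000000000000000000000000000000000000000000000000000400000000000000000000000000000000000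0000000000000000000000000000000000000000000000000000000000000000000000000000000000000000000000000000000000000000000000000000000000000000000000000000000000000000000000000000000000000000000000000000000000000000000000000000000000000000000000000000000000000000000000000000000000000000000000000000000000000000000000000000000000000000000000000000000000000000000000000000000000000000000000000000000000000000000000000000000000000000000000000000000000000000000000000000000000000000000000000000000000000000000000000000000000000000000000000000000000000000000000000000000000000000000000000000000000000000000000000000000000000000000000000000000000000000000000000000000000000000000000000000000000000000000000000000000000000000000000000000000000000000000000000000000000000000000000000000000000000000000000000000000000000000000000000000000000000000000000000000000000000000000000000000000000000000000000000000000000000000000000000000000000000000000000000000000000000000000000000000000000000000000000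0000000000000000010000000000000000000000000000000000000000000000000000000000000000000000000000000000000000000000000000000000000000000000000000000000000000000000000000000000000000000000000000000000000000000000000000000000000000000000000000000000000000000000000000000000000000000000000000000000000000000000000000000000000000000000000000000000000000000000000000000000000000000000000000000000000000000000000000000000000000000000000000000000000000000000000000000000000000000000000000000000000000000000000000000000000000000000000000000000000000000000000000000000000000000000000000000000000000000000000000000000000000000000000000000000000000000000000000000000000000000000000000000000000000000000000000000000000000000000000000000000000000000000000000000000000000000000000000000000000100000000000000000000000000000000000000000000000000000000000000000000000000000000000000000000000000000000000000000000000000000000000000000000000000000000000000000000000000000000000000000000000000000000000000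0000000000000000000000000000000000020000000000000000000000000000000000000000000000000000000000000000000000000000000000000000000000000000000000000000000000000000000000000080000000000000000000000000000000000000000000000000000000000000000000000000000000400002000000000000000000000000000000000000000000000000000000000000000000000000000000000000000000000000000000000000000000000000000000000000000000000000000000000000000000000000000000000000000000000000000000000000000000000000000000000000000000000000000000000000000000000000000000000000000000000000000000000000000000000000000000000000000000000000000000000000000000000000000000000000000000000000000000000000000000000000000000000000000000000000000000000000000000000000000000000000000000000000000000000000000000000000000000000000000000000000000000000000000000080000000000000000000000000000000000000000000000000000000000000000000000000000000000200000000000000000000000000000000000000000000000000000000000000000000000000000000000000000000000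0000000000000000000000000000000000000000000000000000000000000000000000000000000000000000000000000000000000000000000000000000000000000000000000000000000000000000000000000000000000000000000002000000000000000000000000010000000000000000000000000000000000000000001000000000000000000000000000000000000000000000000000000000000000000000000000000000000000000000000000000000000000000000000000000000000000000000000000000000000000000000000000000000000000000000004000000000000000000000000000000000000000000000000000000000000000000000000000000000000000000000000000000000000000000000000000000000000000000000000000000000000000000000000000000000000000000000000000000000000000000000000000000000000000000000000002000000000000000000000000000000000000000000000000000000000000000000000000000000000000000000000000000000000000000000000000000000000000000000000000000000000000000000000000000000000000000000000000000000000000000000000000000000000000000000000000000000000000000000000000000000000000000000000000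0000000000000000000000000000000000000000000000000000000000800000000000000000000000000000000000000000000000000000000000000000000000000000000000000000000000000000000000000000000000000000000000000000000000000000000000000000000000000000000000000000000000000000000040000000000000000000000000000000000000000000000000000000000000000000000000000000000000000000000000000000000000000000000000000000000000000000000000000000000000000000000000000000000000000000000000000000000000000000000000000000000000000000000000000000000000000000000000000000000000000000000000000000000000000000000000000000000000000000000000000000000000000000000000000000000000000000000000000000000000000000000000000000000000000000000000000000000000000000000000000010000000000000000000000000000000000000000000000000000000000000000000000000000000000000000000000000000000000000000000000000000000000000000000000000000000000000000000000000000000000000000000000000000000000000000000000000000000000000000000000000000000000000000000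0000000000000000000000080000000000000000000000000000000000000000000000000000000000000000000000000000000000000000080000000000000000000000000000000000000000000000000000000000000000000020000000000000000000000000000004000000000000000000000000000000000000000000000000000000000000000000000000000000000000000000000000000000000000000000000000000000000000000000000000000000000000000000000000000000000000000000000000000000000000000000000000000000000000000000000000000000000000000000000000000000000000000000000000000000000000000000000000000000000000800000000000000000000000000000000000000000000000000000000000000000000000000000000000000000000000000000000000000000000000000000000000000000000000000000000000000000000000000000000000000000000000000000000000000000000000000000000000000000000000000000000000000000000000004000000000000000000010000000000000000000000000000000000000000000000000000000000000000000000000000000002000000000000000000000000000000000000000000000000000000000000000000000000000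0000000000000000000000000000000000000000000000000000000000000000000000000000000000000000000000000000000000000000000000000000000000000000000000000000000000000000000000000000000000000000000000000000000000000000000000000000000000000000000000000000000000000000000000000000000000000000800000000000000000000000000000000000000000000000000000000000000000000000000000000000000000000000000000000000000000000000000000000000000000000000000000000000000000000000000000000000000000000000000000000000000000000000000000000000000000000000000000000000000000000000000000000000000000000000000000000000000000000000000000000000000000000000000000000000000000000000000000000000000000002000000000000000000000000000000000000000000000000000000000000000000000000000000000000000000000000000000000000000000000000000000000000000000000000000000000000000000000000000000000000000000000000000000000000000000000000000000000000000000000000000000000000000000000000000000000000000000000000000000000000000000000000000002000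0000000000000000000000000000000000000000000000000000000000000000000000000000000000000000000000000000000000000000000000000000000000000000000000000000000000000000000000000000000000000000000000000000000000000000000000000000000000000000000000000000000000000000000000400000000000000000000000000000000000000000000000000000000000000000000000000000000000000000000000000000000000000000000000000000000000000000000000000000000000000000000000000000000000000000000000000000000000000000000000000000000000000000000000000000000000000000000000000000000000000000000000000000000000000000000000000000000000000000000000000000000000000000000000000000000000000000000000000000000000000000200000000000000000000000000000000000000000000000000000000000000000000000000000000000000000000000000000000000000000000000000000000000000000000000000000000000000000000000000000000000000000000000000000000000000000000000000000000000000000000000000000000000000000000000000000000000000000000000000000000000000000000000000000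0000000000000000000000000000000000000000000000000000000000000000000000000000000000000000000000000000000000000000000000000000000000000000000000000000000000000000000000000000000000000000000000000000000000000000000000000000000000000000000000000000000000000000000000000000000000000000000000000000000000000000000000000000000000000000000000000000000000000000000000000000000000000000000000000000000000000000000000000000000000000000000000000000000000000000000000000000000000000000000000000000000000000000000000000000000000000000000000000000000000000000000000000000000000000000000000000000000000000000000000000000000000000000000000000000000000000000000000000000000000000000000000000000000000000000000000000000000000000000000000000000000000000000000000000000000000000000000000000000000000000000000000000000000000000000000000000000000000000000000000000000100000000000000000000000000000000000000000000000000000000000000000000000000000000000000000003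

/-- first search: the points which come from powers of the element -/
def gensC : List (Nat × Nat) := [(0, 0), (1, 1), (262, 10), (1172, 3), (27931, 8), (63882, 7), (68702, 5), (103946, 6), (104782, 4), (116381, 2), (118393, 9)]

/-- second search: the points which come from powers of the element of order 20 -/
def gensU : List (Nat × Nat) := [(0, 0), (1, 2), (11905, 5), (12232, 3), (18418, 18), (20613, 17), (53123, 15), (67346, 7), (67921, 19), (76873, 11), (85030, 1), (96228, 9), (98566, 13), (109546, 10), (111658, 12), (113809, 8), (116381, 4), (116481, 16), (118082, 6), (118655, 14)]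

/-- first search: the other exempt points with the words of the elements which map the base as
required -/
def spsC : List (Nat × List Nat) :=
  [(1141, [nat_lit 2, nat_lit 3, nat_lit 2, nat_lit 3, nat_lit 4, nat_lit 3, nat_lit 1, nat_lit 2, nat_lit 0, nat_lit 1, nat_lit 6, nat_lit 3, nat_lit 4, nat_lit 5, nat_lit 2, nat_lit 3, nat_lit 4, nat_lit 1, nat_lit 2, nat_lit 3, nat_lit 2, nat_lit 3, nat_lit 4, nat_lit 5, nat_lit 3, nat_lit 1, nat_lit 2, nat_lit 3, nat_lit 4, nat_lit 1, nat_lit 2, nat_lit 1, nat_lit 0, nat_lit 4, nat_lit 3, nat_lit 2, nat_lit 1, nat_lit 3, nat_lit 2, nat_lit 1, nat_lit 0, nat_lit 3, nat_lit 4, nat_lit 3, nat_lit 2, nat_lit 1, nat_lit 3, nat_lit 2, nat_lit 3, nat_lit 4, nat_lit 3, nat_lit 0, nat_lit 1, nat_lit 2, nat_lit 3, nat_lit 1, nat_lit 2, nat_lit 3, nat_lit 4, nat_lit 0]), (7839, [nat_lit 5, nat_lit 4, nat_lit 6, nat_lit 2, nat_lit 3, nat_lit 6, nat_lit 4, nat_lit 6, nat_lit 2, nat_lit 3, nat_lit 2, nat_lit 1, nat_lit 6, nat_lit 5, nat_lit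 4, nat_lit 3, nat_lit 2, nat_lit 3, nat_lit 4, nat_lit 2, nat_lit 3, nat_lit 0, nat_lit 1, nat_lit 2, nat_lit 3, nat_lit 0, nat_lit 1, nat_lit 2, nat_lit 3, nat_lit 4, nat_lit 3, nat_lit 2, nat_lit 3, nat_lit 2, nat_lit 3, nat_lit 4, nat_lit 3, nat_lit 2, nat_lit 1, nat_lit 3, nat_lit 2, nat_lit 1, nat_lit 0, nat_lit 3, nat_lit 4, nat_lit 3, nat_lit 2, nat_lit 1, nat_lit 3, nat_lit 2, nat_lit 3, nat_lit 4, nat_lit 3, nat_lit 0, nat_lit 1, nat_lit 2, nat_lit 3, nat_lit 1, nat_lit 2, nat_lit 3, nat_lit 4, nat_lit 0, nat_lit 4, nat_lit 3, nat_lit 2, nat_lit 1, nat_lit 3, nat_lit 2, nat_lit 1, nat_lit 0, nat_lit 3, nat_lit 4, nat_lit 3, nat_lit 2, nat_lit 1, nat_lit 3, nat_lit 2, nat_lit 3, nat_lit 4, nat_lit 3, nat_lit 0, nat_lit 1, nat_lit 2, nat_lit 3, nat_lit 1, nat_lit 2, nat_lit 3, nat_lit 4]), (12018, [nat_lit 1, nat_lit 6, nat_lit 4, nat_lit 3, nat_lit 6, nat_lit 4, nat_lit 2, nat_lit 1, nat_lit 7, nat_lit 3, nat_lit 2, nat_lit 3, nat_lit 4, nat_lit 6, nat_lit 3,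 nat_lit 4, nat_lit 5, nat_lit 1, nat_lit 2, nat_lit 3, nat_lit 4, nat_lit 2, nat_lit 3, nat_lit 2, nat_lit 3, nat_lit 1, nat_lit 5, nat_lit 4, nat_lit 3, nat_lit 2, nat_lit 1, nat_lit 3, nat_lit 2, nat_lit 1, nat_lit 0, nat_lit 3, nat_lit 4, nat_lit 3, nat_lit 2, nat_lit 1, nat_lit 3, nat_lit 2, nat_lit 3, nat_lit 4, nat_lit 3, nat_lit 0, nat_lit 1, nat_lit 2, nat_lit 3, nat_lit 1, nat_lit 2, nat_lit 3, nat_lit 4, nat_lit 0, nat_lit 4, nat_lit 3, nat_lit 2, nat_lit 1, nat_lit 3, nat_lit 2, nat_lit 1, nat_lit 0, nat_lit 3, nat_lit 4, nat_lit 3, nat_lit 2, nat_lit 1, nat_lit 3, nat_lit 2, nat_lit 3, nat_lit 4, nat_lit 3, nat_lit 0, nat_lit 1, nat_lit 2, nat_lit 3, nat_lit 1, nat_lit 2, nat_lit 3, nat_lit 4]), (13126, [nat_lit 4, nat_lit 7, nat_lit 1, nat_lit 7, nat_lit 1, nat_lit 2, nat_lit 3, nat_lit 6, nat_lit 4, nat_lit 6, nat_lit 2, nat_lit 3, nat_lit 2, nat_lit 1, nat_lit 6, nat_lit 4, nat_lit 5, nat_lit 3, nat_lit 4, nat_lit 2, nat_lit 3, nat_lit 2, nat_lit 3, nat_lit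 1, nat_lit 2, nat_lit 3, nat_lit 4, nat_lit 5, nat_lit 3, nat_lit 2, nat_lit 3, nat_lit 4, nat_lit 1, nat_lit 0, nat_lit 4, nat_lit 3, nat_lit 2, nat_lit 1, nat_lit 3, nat_lit 2, nat_lit 1, nat_lit 0, nat_lit 3, nat_lit 4, nat_lit 3, nat_lit 2, nat_lit 1, nat_lit 3, nat_lit 2, nat_lit 3, nat_lit 4, nat_lit 3, nat_lit 0, nat_lit 1, nat_lit 2, nat_lit 3, nat_lit 1, nat_lit 2, nat_lit 3, nat_lit 4]), (14431, [nat_lit 2, nat_lit 0, nat_lit 1, nat_lit 6, nat_lit 3, nat_lit 4, nat_lit 5, nat_lit 3, nat_lit 2, nat_lit 3, nat_lit 4, nat_lit 1, nat_lit 6, nat_lit 5, nat_lit 3, nat_lit 4, nat_lit 2, nat_lit 3, nat_lit 1, nat_lit 2, nat_lit 3, nat_lit 4, nat_lit 0, nat_lit 1, nat_lit 2, nat_lit 3, nat_lit 2, nat_lit 3, nat_lit 1, nat_lit 2, nat_lit 3, nat_lit 4, nat_lit 2, nat_lit 1, nat_lit 4, nat_lit 3, nat_lit 2, nat_lit 1, nat_lit 3, nat_lit 2, nat_lit 1, nat_lit 0, nat_lit 3, nat_lit 4, nat_lit 3, nat_lit 2, nat_lit 1, nat_lit 3, nat_lit 2, nat_lit 3, nat_lit 4, nat_lit 3,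 nat_lit 0, nat_lit 1, nat_lit 2, nat_lit 3, nat_lit 1, nat_lit 2, nat_lit 3, nat_lit 4, nat_lit 3, nat_lit 2, nat_lit 3, nat_lit 2, nat_lit 4, nat_lit 3, nat_lit 2, nat_lit 1, nat_lit 3, nat_lit 2, nat_lit 1, nat_lit 0, nat_lit 3, nat_lit 4, nat_lit 3, nat_lit 2, nat_lit 1, nat_lit 3, nat_lit 2, nat_lit 3, nat_lit 4, nat_lit 3, nat_lit 0, nat_lit 1, nat_lit 2, nat_lit 3, nat_lit 1, nat_lit 2, nat_lit 3, nat_lit 4, nat_lit 0, nat_lit 4, nat_lit 3, nat_lit 2, nat_lit 1, nat_lit 3, nat_lit 2, nat_lit 1, nat_lit 0, nat_lit 3, nat_lit 4, nat_lit 3, nat_lit 2, nat_lit 1, nat_lit 3, nat_lit 2, nat_lit 3, nat_lit 4, nat_lit 3, nat_lit 0, nat_lit 1, nat_lit 2, nat_lit 3, nat_lit 1, nat_lit 2, nat_lit 3, nat_lit 4]), (14508, [nat_lit 6, nat_lit 1, nat_lit 2, nat_lit 3, nat_lit 2, nat_lit 6, nat_lit 4, nat_lit 3, nat_lit 2, nat_lit 3, nat_lit 1, nat_lit 6, nat_lit 4, nat_lit 3, nat_lit 2, nat_lit 3, nat_lit 4, nat_lit 3, nat_lit 2, nat_lit 3, nat_lit 0, nat_lit 1, nat_lit 2, nat_lit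 3, nat_lit 0, nat_lit 1, nat_lit 2, nat_lit 3, nat_lit 4, nat_lit 3, nat_lit 2, nat_lit 3, nat_lit 2, nat_lit 3, nat_lit 4, nat_lit 3, nat_lit 2, nat_lit 1, nat_lit 3, nat_lit 2, nat_lit 1, nat_lit 0, nat_lit 3, nat_lit 4, nat_lit 3, nat_lit 2, nat_lit 1, nat_lit 3, nat_lit 2, nat_lit 3, nat_lit 4, nat_lit 3, nat_lit 0, nat_lit 1, nat_lit 2, nat_lit 3, nat_lit 1, nat_lit 2, nat_lit 3, nat_lit 4, nat_lit 0, nat_lit 4, nat_lit 3, nat_lit 2, nat_lit 1, nat_lit 3, nat_lit 2, nat_lit 1, nat_lit 0, nat_lit 3, nat_lit 4, nat_lit 3, nat_lit 2, nat_lit 1, nat_lit 3, nat_lit 2, nat_lit 3, nat_lit 4, nat_lit 3, nat_lit 0, nat_lit 1, nat_lit 2, nat_lit 3, nat_lit 1, nat_lit 2, nat_lit 3, nat_lit 4]), (19617, [nat_lit 1, nat_lit 7, nat_lit 1, nat_lit 2, nat_lit 3, nat_lit 4, nat_lit 5, nat_lit 2, nat_lit 3, nat_lit 1, nat_lit 2, nat_lit 3, nat_lit 4, nat_lit 6, nat_lit 3, nat_lit 1, nat_lit 2, nat_lit 3, nat_lit 4, nat_lit 0, nat_lit 1, nat_lit 2, nat_lit 3, nat_lit 0, nat_lit 1,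 nat_lit 2, nat_lit 3, nat_lit 4, nat_lit 5, nat_lit 3, nat_lit 1, nat_lit 2, nat_lit 3, nat_lit 4, nat_lit 1, nat_lit 0, nat_lit 4, nat_lit 3, nat_lit 2, nat_lit 1, nat_lit 3, nat_lit 2, nat_lit 1, nat_lit 0, nat_lit 3, nat_lit 4, nat_lit 3, nat_lit 2, nat_lit 1, nat_lit 3, nat_lit 2, nat_lit 3, nat_lit 4, nat_lit 3, nat_lit 0, nat_lit 1, nat_lit 2, nat_lit 3, nat_lit 1, nat_lit 2, nat_lit 3, nat_lit 4]), (22707, [nat_lit 3, nat_lit 0, nat_lit 1, nat_lit 2, nat_lit 7, nat_lit 1, nat_lit 7, nat_lit 4, nat_lit 3, nat_lit 2, nat_lit 3, nat_lit 4, nat_lit 1, nat_lit 6, nat_lit 2, nat_lit 3, nat_lit 4, nat_lit 5, nat_lit 1, nat_lit 2, nat_lit 3, nat_lit 4, nat_lit 2, nat_lit 3, nat_lit 1, nat_lit 2, nat_lit 3, nat_lit 4, nat_lit 3, nat_lit 2, nat_lit 3, nat_lit 0, nat_lit 1, nat_lit 2, nat_lit 0, nat_lit 1, nat_lit 2, nat_lit 3, nat_lit 2, nat_lit 3, nat_lit 4, nat_lit 3, nat_lit 2, nat_lit 1, nat_lit 3, nat_lit 2, nat_lit 1, nat_lit 0, nat_lit 3, nat_lit 4, nat_lit 3, nat_lit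 2, nat_lit 1, nat_lit 3, nat_lit 2, nat_lit 3, nat_lit 4, nat_lit 3, nat_lit 0, nat_lit 1, nat_lit 2, nat_lit 3, nat_lit 1, nat_lit 2, nat_lit 3, nat_lit 4]), (26627, [nat_lit 1, nat_lit 2, nat_lit 3, nat_lit 4, nat_lit 0, nat_lit 1, nat_lit 2, nat_lit 6, nat_lit 4, nat_lit 3, nat_lit 2, nat_lit 1, nat_lit 6, nat_lit 5, nat_lit 4, nat_lit 3, nat_lit 0, nat_lit 1, nat_lit 2, nat_lit 3, nat_lit 4, nat_lit 5, nat_lit 2, nat_lit 3, nat_lit 1, nat_lit 2, nat_lit 3, nat_lit 4, nat_lit 2, nat_lit 3, nat_lit 2, nat_lit 3, nat_lit 0]), (31149, [nat_lit 6, nat_lit 4, nat_lit 2, nat_lit 7, nat_lit 3, nat_lit 4, nat_lit 2, nat_lit 3, nat_lit 1, nat_lit 2, nat_lit 6, nat_lit 1, nat_lit 6, nat_lit 5, nat_lit 3, nat_lit 4, nat_lit 2, nat_lit 3, nat_lit 2, nat_lit 3, nat_lit 1, nat_lit 2, nat_lit 3, nat_lit 4, nat_lit 5, nat_lit 2, nat_lit 3, nat_lit 4, nat_lit 2, nat_lit 3, nat_lit 1, nat_lit 2, nat_lit 1, nat_lit 2, nat_lit 3, nat_lit 2, nat_lit 3, nat_lit 4, nat_lit 3, nat_lit 2,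 nat_lit 1, nat_lit 3, nat_lit 2, nat_lit 1, nat_lit 0, nat_lit 3, nat_lit 4, nat_lit 3, nat_lit 2, nat_lit 1, nat_lit 3, nat_lit 2, nat_lit 3, nat_lit 4, nat_lit 3, nat_lit 0, nat_lit 1, nat_lit 2, nat_lit 3, nat_lit 1, nat_lit 2, nat_lit 3, nat_lit 4, nat_lit 0, nat_lit 4, nat_lit 3, nat_lit 2, nat_lit 1, nat_lit 3, nat_lit 2, nat_lit 1, nat_lit 0, nat_lit 3, nat_lit 4, nat_lit 3, nat_lit 2, nat_lit 1, nat_lit 3, nat_lit 2, nat_lit 3, nat_lit 4, nat_lit 3, nat_lit 0, nat_lit 1, nat_lit 2, nat_lit 3, nat_lit 1, nat_lit 2, nat_lit 3, nat_lit 4, nat_lit 0, nat_lit 4, nat_lit 3, nat_lit 2, nat_lit 1, nat_lit 3, nat_lit 2, nat_lit 1, nat_lit 0, nat_lit 3, nat_lit 4, nat_lit 3, nat_lit 2, nat_lit 1, nat_lit 3, nat_lit 2, nat_lit 3, nat_lit 4, nat_lit 3, nat_lit 0, nat_lit 1, nat_lit 2, nat_lit 3, nat_lit 1, nat_lit 2, nat_lit 3, nat_lit 4, nat_lit 0]), (31821, [nat_lit 4, nat_lit 1, nat_lit 7, nat_lit 4, nat_lit 3, nat_lit 2, nat_lit 1, nat_lit 7, nat_lit 3, nat_lit 2, nat_lit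 3, nat_lit 4, nat_lit 6, nat_lit 4, nat_lit 2, nat_lit 3, nat_lit 2, nat_lit 3, nat_lit 4, nat_lit 1, nat_lit 2, nat_lit 3, nat_lit 1, nat_lit 2, nat_lit 3, nat_lit 4, nat_lit 3, nat_lit 0, nat_lit 1, nat_lit 0, nat_lit 4, nat_lit 3, nat_lit 2, nat_lit 1, nat_lit 3, nat_lit 2, nat_lit 1, nat_lit 0, nat_lit 3, nat_lit 4, nat_lit 3, nat_lit 2, nat_lit 1, nat_lit 3, nat_lit 2, nat_lit 3, nat_lit 4, nat_lit 3, nat_lit 0, nat_lit 1, nat_lit 2, nat_lit 3, nat_lit 1, nat_lit 2, nat_lit 3, nat_lit 4, nat_lit 0, nat_lit 4, nat_lit 3, nat_lit 2, nat_lit 1, nat_lit 3, nat_lit 2, nat_lit 1, nat_lit 0, nat_lit 3, nat_lit 4, nat_lit 3, nat_lit 2, nat_lit 1, nat_lit 3, nat_lit 2, nat_lit 3, nat_lit 4, nat_lit 3, nat_lit 0, nat_lit 1, nat_lit 2, nat_lit 3, nat_lit 1, nat_lit 2, nat_lit 3, nat_lit 4, nat_lit 0, nat_lit 4, nat_lit 3, nat_lit 2, nat_lit 1, nat_lit 3, nat_lit 2, nat_lit 1, nat_lit 0, nat_lit 3, nat_lit 4, nat_lit 3, nat_lit 2, nat_lit 1, nat_lit 3, nat_lit 2, nat_lit 3,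 nat_lit 4, nat_lit 3, nat_lit 0, nat_lit 1, nat_lit 2, nat_lit 3, nat_lit 1, nat_lit 2, nat_lit 3, nat_lit 4]), (32680, [nat_lit 6, nat_lit 4, nat_lit 1, nat_lit 2, nat_lit 1, nat_lit 7, nat_lit 4, nat_lit 3, nat_lit 1, nat_lit 2, nat_lit 3, nat_lit 4, nat_lit 2, nat_lit 6, nat_lit 2, nat_lit 3, nat_lit 4, nat_lit 1, nat_lit 2, nat_lit 3, nat_lit 0, nat_lit 1, nat_lit 2, nat_lit 3, nat_lit 4, nat_lit 2, nat_lit 3, nat_lit 1, nat_lit 0, nat_lit 3, nat_lit 4, nat_lit 3, nat_lit 2, nat_lit 1, nat_lit 3, nat_lit 2, nat_lit 3, nat_lit 4, nat_lit 3, nat_lit 0, nat_lit 1, nat_lit 2, nat_lit 3, nat_lit 1, nat_lit 2, nat_lit 3, nat_lit 4, nat_lit 2, nat_lit 3, nat_lit 2, nat_lit 3, nat_lit 4, nat_lit 3, nat_lit 2, nat_lit 1, nat_lit 3, nat_lit 2, nat_lit 1, nat_lit 0, nat_lit 3, nat_lit 4, nat_lit 3, nat_lit 2, nat_lit 1, nat_lit 3, nat_lit 2, nat_lit 3, nat_lit 4, nat_lit 3, nat_lit 0, nat_lit 1, nat_lit 2, nat_lit 3, nat_lit 1, nat_lit 2, nat_lit 3, nat_lit 4]), (36344, [nat_lit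 3, nat_lit 4, nat_lit 7, nat_lit 3, nat_lit 4, nat_lit 2, nat_lit 3, nat_lit 1, nat_lit 2, nat_lit 3, nat_lit 4, nat_lit 2, nat_lit 6, nat_lit 0, nat_lit 1, nat_lit 2, nat_lit 3, nat_lit 1, nat_lit 2, nat_lit 3, nat_lit 4, nat_lit 5, nat_lit 3, nat_lit 1, nat_lit 2, nat_lit 3, nat_lit 4, nat_lit 1, nat_lit 2, nat_lit 1, nat_lit 4, nat_lit 3, nat_lit 2, nat_lit 1, nat_lit 3, nat_lit 2, nat_lit 1, nat_lit 0, nat_lit 3, nat_lit 4, nat_lit 3, nat_lit 2, nat_lit 1, nat_lit 3, nat_lit 2, nat_lit 3, nat_lit 4, nat_lit 3, nat_lit 0, nat_lit 1, nat_lit 2, nat_lit 3, nat_lit 1, nat_lit 2, nat_lit 3, nat_lit 4, nat_lit 5, nat_lit 4, nat_lit 3, nat_lit 2, nat_lit 1, nat_lit 3, nat_lit 2, nat_lit 1, nat_lit 0, nat_lit 3, nat_lit 4, nat_lit 3, nat_lit 2, nat_lit 1, nat_lit 3, nat_lit 2, nat_lit 3, nat_lit 4, nat_lit 3, nat_lit 0, nat_lit 1, nat_lit 2, nat_lit 3, nat_lit 1, nat_lit 2, nat_lit 3, nat_lit 4, nat_lit 0, nat_lit 4, nat_lit 3, nat_lit 2, nat_lit 1, nat_lit 3, nat_lit 2,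 nat_lit 1, nat_lit 0, nat_lit 3, nat_lit 4, nat_lit 3, nat_lit 2, nat_lit 1, nat_lit 3, nat_lit 2, nat_lit 3, nat_lit 4, nat_lit 3, nat_lit 0, nat_lit 1, nat_lit 2, nat_lit 3, nat_lit 1, nat_lit 2, nat_lit 3, nat_lit 4, nat_lit 0]), (36377, [nat_lit 6, nat_lit 2, nat_lit 6, nat_lit 4, nat_lit 3, nat_lit 0, nat_lit 1, nat_lit 2, nat_lit 3, nat_lit 4, nat_lit 3, nat_lit 2, nat_lit 0, nat_lit 1, nat_lit 6, nat_lit 3, nat_lit 4, nat_lit 2, nat_lit 3, nat_lit 1, nat_lit 2, nat_lit 3, nat_lit 4, nat_lit 5, nat_lit 1, nat_lit 2, nat_lit 3, nat_lit 4, nat_lit 3, nat_lit 2, nat_lit 3, nat_lit 1, nat_lit 2, nat_lit 3, nat_lit 4, nat_lit 3, nat_lit 4, nat_lit 3, nat_lit 2, nat_lit 1, nat_lit 3, nat_lit 2, nat_lit 1, nat_lit 0, nat_lit 3, nat_lit 4, nat_lit 3, nat_lit 2, nat_lit 1, nat_lit 3, nat_lit 2, nat_lit 3, nat_lit 4, nat_lit 3, nat_lit 0, nat_lit 1, nat_lit 2, nat_lit 3, nat_lit 1, nat_lit 2, nat_lit 3, nat_lit 4, nat_lit 2, nat_lit 3, nat_lit 2, nat_lit 3]), (36407, [nat_lit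 4, nat_lit 6, nat_lit 1, nat_lit 2, nat_lit 3, nat_lit 4, nat_lit 2, nat_lit 7, nat_lit 3, nat_lit 1, nat_lit 2, nat_lit 0, nat_lit 1, nat_lit 6, nat_lit 3, nat_lit 2, nat_lit 3, nat_lit 4, nat_lit 5, nat_lit 3, nat_lit 1, nat_lit 2, nat_lit 3, nat_lit 4, nat_lit 1, nat_lit 2, nat_lit 3, nat_lit 1, nat_lit 2, nat_lit 3, nat_lit 4, nat_lit 3, nat_lit 0, nat_lit 1, nat_lit 2, nat_lit 0, nat_lit 1, nat_lit 0]), (37096, [nat_lit 7, nat_lit 4, nat_lit 6, nat_lit 4, nat_lit 3, nat_lit 2, nat_lit 6, nat_lit 3, nat_lit 1, nat_lit 6, nat_lit 2, nat_lit 3, nat_lit 4, nat_lit 6, nat_lit 3, nat_lit 2, nat_lit 3, nat_lit 4, nat_lit 2, nat_lit 3, nat_lit 1, nat_lit 2, nat_lit 3, nat_lit 4, nat_lit 5, nat_lit 4, nat_lit 3, nat_lit 0, nat_lit 1, nat_lit 2, nat_lit 3, nat_lit 4, nat_lit 1, nat_lit 2, nat_lit 5]), (45545, [nat_lit 1, nat_lit 7, nat_lit 3, nat_lit 1, nat_lit 2, nat_lit 3, nat_lit 4, nat_lit 6, nat_lit 4, nat_lit 3, nat_lit 2, nat_lit 1, nat_lit 6, nat_lit 3, nat_lit 1,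 nat_lit 2, nat_lit 3, nat_lit 1, nat_lit 2, nat_lit 3, nat_lit 4, nat_lit 1, nat_lit 4, nat_lit 3, nat_lit 2, nat_lit 1, nat_lit 3, nat_lit 2, nat_lit 1, nat_lit 0, nat_lit 3, nat_lit 4, nat_lit 3, nat_lit 2, nat_lit 1, nat_lit 3, nat_lit 2, nat_lit 3, nat_lit 4, nat_lit 3, nat_lit 0, nat_lit 1, nat_lit 2, nat_lit 3, nat_lit 1, nat_lit 2, nat_lit 3, nat_lit 4, nat_lit 3, nat_lit 2, nat_lit 3, nat_lit 2, nat_lit 4, nat_lit 3, nat_lit 2, nat_lit 1, nat_lit 3, nat_lit 2, nat_lit 1, nat_lit 0, nat_lit 3, nat_lit 4, nat_lit 3, nat_lit 2, nat_lit 1, nat_lit 3, nat_lit 2, nat_lit 3, nat_lit 4, nat_lit 3, nat_lit 0, nat_lit 1, nat_lit 2, nat_lit 3, nat_lit 1, nat_lit 2, nat_lit 3, nat_lit 4, nat_lit 0]), (50276, [nat_lit 2, nat_lit 7, nat_lit 4, nat_lit 1, nat_lit 6, nat_lit 3, nat_lit 4, nat_lit 1, nat_lit 2, nat_lit 3, nat_lit 2, nat_lit 0, nat_lit 1, nat_lit 6, nat_lit 4, nat_lit 5, nat_lit 3, nat_lit 4, nat_lit 2, nat_lit 3, nat_lit 1, nat_lit 2, nat_lit 3, nat_lit 1, nat_lit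 2, nat_lit 3, nat_lit 4, nat_lit 3, nat_lit 2, nat_lit 3, nat_lit 0, nat_lit 1, nat_lit 3, nat_lit 2, nat_lit 3, nat_lit 2, nat_lit 0]), (51513, [nat_lit 1, nat_lit 6, nat_lit 4, nat_lit 2, nat_lit 6, nat_lit 3, nat_lit 6, nat_lit 4, nat_lit 6, nat_lit 2, nat_lit 3, nat_lit 2, nat_lit 1, nat_lit 6, nat_lit 3, nat_lit 0, nat_lit 1, nat_lit 2, nat_lit 3, nat_lit 4, nat_lit 5, nat_lit 3, nat_lit 0, nat_lit 1, nat_lit 2, nat_lit 3, nat_lit 4, nat_lit 0, nat_lit 1, nat_lit 4, nat_lit 3, nat_lit 2, nat_lit 1, nat_lit 3, nat_lit 2, nat_lit 1, nat_lit 0, nat_lit 3, nat_lit 4, nat_lit 3, nat_lit 2, nat_lit 1, nat_lit 3, nat_lit 2, nat_lit 3, nat_lit 4, nat_lit 3, nat_lit 0, nat_lit 1, nat_lit 2, nat_lit 3, nat_lit 1, nat_lit 2, nat_lit 3, nat_lit 4, nat_lit 0, nat_lit 4, nat_lit 3, nat_lit 2, nat_lit 1, nat_lit 3, nat_lit 2, nat_lit 1, nat_lit 0, nat_lit 3, nat_lit 4, nat_lit 3, nat_lit 2, nat_lit 1, nat_lit 3, nat_lit 2, nat_lit 3, nat_lit 4, nat_lit 3, nat_lit 0, nat_lit 1,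 nat_lit 2, nat_lit 3, nat_lit 1, nat_lit 2, nat_lit 3, nat_lit 4, nat_lit 0, nat_lit 4, nat_lit 3, nat_lit 2, nat_lit 1, nat_lit 3, nat_lit 2, nat_lit 1, nat_lit 0, nat_lit 3, nat_lit 4, nat_lit 3, nat_lit 2, nat_lit 1, nat_lit 3, nat_lit 2, nat_lit 3, nat_lit 4, nat_lit 3, nat_lit 0, nat_lit 1, nat_lit 2, nat_lit 3, nat_lit 1, nat_lit 2, nat_lit 3, nat_lit 4]), (53717, [nat_lit 3, nat_lit 1, nat_lit 7, nat_lit 4, nat_lit 3, nat_lit 1, nat_lit 2, nat_lit 3, nat_lit 4, nat_lit 3, nat_lit 6, nat_lit 4, nat_lit 5, nat_lit 3, nat_lit 4, nat_lit 2, nat_lit 3, nat_lit 1, nat_lit 2, nat_lit 3, nat_lit 4, nat_lit 5, nat_lit 1, nat_lit 2, nat_lit 3, nat_lit 4, nat_lit 3, nat_lit 2, nat_lit 3, nat_lit 1, nat_lit 2, nat_lit 3, nat_lit 0, nat_lit 1, nat_lit 2, nat_lit 3, nat_lit 2, nat_lit 3]), (58462, [nat_lit 0, nat_lit 1, nat_lit 2, nat_lit 6, nat_lit 3, nat_lit 1, nat_lit 2, nat_lit 7, nat_lit 4, nat_lit 3, nat_lit 2, nat_lit 1, nat_lit 6, nat_lit 5, nat_lit 4, nat_lit 3, nat_lit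 0, nat_lit 1, nat_lit 2, nat_lit 3, nat_lit 4, nat_lit 3, nat_lit 1, nat_lit 2, nat_lit 3, nat_lit 1, nat_lit 2, nat_lit 3, nat_lit 4, nat_lit 3, nat_lit 0, nat_lit 1, nat_lit 4, nat_lit 3, nat_lit 2, nat_lit 1, nat_lit 3, nat_lit 2, nat_lit 1, nat_lit 0, nat_lit 3, nat_lit 4, nat_lit 3, nat_lit 2, nat_lit 1, nat_lit 3, nat_lit 2, nat_lit 3, nat_lit 4, nat_lit 3, nat_lit 0, nat_lit 1, nat_lit 2, nat_lit 3, nat_lit 1, nat_lit 2, nat_lit 3, nat_lit 4, nat_lit 2, nat_lit 3, nat_lit 2, nat_lit 3, nat_lit 0]), (58637, [nat_lit 5, nat_lit 4, nat_lit 6, nat_lit 3, nat_lit 4, nat_lit 1, nat_lit 2, nat_lit 3, nat_lit 2, nat_lit 6, nat_lit 4, nat_lit 1, nat_lit 6, nat_lit 4, nat_lit 5, nat_lit 2, nat_lit 3, nat_lit 4, nat_lit 1, nat_lit 2, nat_lit 3, nat_lit 0, nat_lit 1, nat_lit 2, nat_lit 3, nat_lit 4, nat_lit 3, nat_lit 2, nat_lit 3, nat_lit 1, nat_lit 2, nat_lit 3, nat_lit 4, nat_lit 2, nat_lit 3, nat_lit 1, nat_lit 2, nat_lit 1, nat_lit 2, nat_lit 3, nat_lit 2, nat_lit 3,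 nat_lit 4, nat_lit 3, nat_lit 2, nat_lit 1, nat_lit 3, nat_lit 2, nat_lit 1, nat_lit 0, nat_lit 3, nat_lit 4, nat_lit 3, nat_lit 2, nat_lit 1, nat_lit 3, nat_lit 2, nat_lit 3, nat_lit 4, nat_lit 3, nat_lit 0, nat_lit 1, nat_lit 2, nat_lit 3, nat_lit 1, nat_lit 2, nat_lit 3, nat_lit 4, nat_lit 0, nat_lit 4, nat_lit 3, nat_lit 2, nat_lit 1, nat_lit 3, nat_lit 2, nat_lit 1, nat_lit 0, nat_lit 3, nat_lit 4, nat_lit 3, nat_lit 2, nat_lit 1, nat_lit 3, nat_lit 2, nat_lit 3, nat_lit 4, nat_lit 3, nat_lit 0, nat_lit 1, nat_lit 2, nat_lit 3, nat_lit 1, nat_lit 2, nat_lit 3, nat_lit 4]), (64801, [nat_lit 2, nat_lit 3, nat_lit 1, nat_lit 7, nat_lit 2, nat_lit 3, nat_lit 4, nat_lit 6, nat_lit 1, nat_lit 2, nat_lit 6, nat_lit 3, nat_lit 4, nat_lit 2, nat_lit 1, nat_lit 6, nat_lit 3, nat_lit 4, nat_lit 5, nat_lit 2, nat_lit 3, nat_lit 1, nat_lit 2, nat_lit 3, nat_lit 4, nat_lit 1, nat_lit 2, nat_lit 3, nat_lit 2, nat_lit 3, nat_lit 1, nat_lit 2, nat_lit 3, nat_lit 4, nat_lit 3, nat_lit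 2, nat_lit 0, nat_lit 1, nat_lit 4, nat_lit 3, nat_lit 2, nat_lit 1, nat_lit 3, nat_lit 2, nat_lit 1, nat_lit 0, nat_lit 3, nat_lit 4, nat_lit 3, nat_lit 2, nat_lit 1, nat_lit 3, nat_lit 2, nat_lit 3, nat_lit 4, nat_lit 3, nat_lit 0, nat_lit 1, nat_lit 2, nat_lit 3, nat_lit 1, nat_lit 2, nat_lit 3, nat_lit 4, nat_lit 0, nat_lit 4, nat_lit 3, nat_lit 2, nat_lit 1, nat_lit 3, nat_lit 2, nat_lit 1, nat_lit 0, nat_lit 3, nat_lit 4, nat_lit 3, nat_lit 2, nat_lit 1, nat_lit 3, nat_lit 2, nat_lit 3, nat_lit 4, nat_lit 3, nat_lit 0, nat_lit 1, nat_lit 2, nat_lit 3, nat_lit 1, nat_lit 2, nat_lit 3, nat_lit 4, nat_lit 0, nat_lit 4, nat_lit 3, nat_lit 2, nat_lit 1, nat_lit 3, nat_lit 2, nat_lit 1, nat_lit 0, nat_lit 3, nat_lit 4, nat_lit 3, nat_lit 2, nat_lit 1, nat_lit 3, nat_lit 2, nat_lit 3, nat_lit 4, nat_lit 3, nat_lit 0, nat_lit 1, nat_lit 2, nat_lit 3, nat_lit 1, nat_lit 2, nat_lit 3, nat_lit 4, nat_lit 0]), (66090, [nat_lit 2, nat_lit 6, nat_lit 1, nat_lit 6, nat_lit 3,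 nat_lit 1, nat_lit 2, nat_lit 3, nat_lit 4, nat_lit 1, nat_lit 2, nat_lit 3, nat_lit 2, nat_lit 1, nat_lit 6, nat_lit 5, nat_lit 4, nat_lit 3, nat_lit 0, nat_lit 1, nat_lit 2, nat_lit 3, nat_lit 4, nat_lit 5, nat_lit 3, nat_lit 2, nat_lit 3, nat_lit 1, nat_lit 2, nat_lit 3, nat_lit 4, nat_lit 2, nat_lit 3, nat_lit 2, nat_lit 3, nat_lit 0]), (67158, [nat_lit 4, nat_lit 2, nat_lit 7, nat_lit 4, nat_lit 5, nat_lit 3, nat_lit 4, nat_lit 2, nat_lit 7, nat_lit 3, nat_lit 1, nat_lit 2, nat_lit 3, nat_lit 4, nat_lit 6, nat_lit 3, nat_lit 4, nat_lit 2, nat_lit 3, nat_lit 2, nat_lit 3, nat_lit 1, nat_lit 2, nat_lit 3, nat_lit 4, nat_lit 2, nat_lit 3, nat_lit 0, nat_lit 1, nat_lit 2, nat_lit 3, nat_lit 0, nat_lit 1, nat_lit 4, nat_lit 3, nat_lit 2, nat_lit 1, nat_lit 3, nat_lit 2, nat_lit 1, nat_lit 0, nat_lit 3, nat_lit 4, nat_lit 3, nat_lit 2, nat_lit 1, nat_lit 3, nat_lit 2, nat_lit 3, nat_lit 4, nat_lit 3, nat_lit 0, nat_lit 1, nat_lit 2, nat_lit 3, nat_lit 1, nat_lit 2, nat_lit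 3, nat_lit 4, nat_lit 5, nat_lit 0]), (67202, [nat_lit 7, nat_lit 3, nat_lit 4, nat_lit 2, nat_lit 3, nat_lit 0, nat_lit 1, nat_lit 2, nat_lit 7, nat_lit 4, nat_lit 3, nat_lit 2, nat_lit 1, nat_lit 6, nat_lit 4, nat_lit 5, nat_lit 3, nat_lit 4, nat_lit 2, nat_lit 3, nat_lit 1, nat_lit 2, nat_lit 3, nat_lit 4, nat_lit 2, nat_lit 3, nat_lit 1, nat_lit 2, nat_lit 3, nat_lit 4, nat_lit 1, nat_lit 2, nat_lit 0, nat_lit 1, nat_lit 4, nat_lit 3, nat_lit 2, nat_lit 1, nat_lit 3, nat_lit 2, nat_lit 1, nat_lit 0, nat_lit 3, nat_lit 4, nat_lit 3, nat_lit 2, nat_lit 1, nat_lit 3, nat_lit 2, nat_lit 3, nat_lit 4, nat_lit 3, nat_lit 0, nat_lit 1, nat_lit 2, nat_lit 3, nat_lit 1, nat_lit 2, nat_lit 3, nat_lit 4, nat_lit 0, nat_lit 4, nat_lit 3, nat_lit 2, nat_lit 1, nat_lit 3, nat_lit 2, nat_lit 1, nat_lit 0, nat_lit 3, nat_lit 4, nat_lit 3, nat_lit 2, nat_lit 1, nat_lit 3, nat_lit 2, nat_lit 3, nat_lit 4, nat_lit 3, nat_lit 0, nat_lit 1, nat_lit 2, nat_lit 3, nat_lit 1, nat_lit 2,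 nat_lit 3, nat_lit 4, nat_lit 0]), (67922, [nat_lit 6, nat_lit 1, nat_lit 7, nat_lit 1, nat_lit 2, nat_lit 3, nat_lit 2, nat_lit 1, nat_lit 6, nat_lit 4, nat_lit 2, nat_lit 3, nat_lit 2, nat_lit 1, nat_lit 6, nat_lit 3, nat_lit 1, nat_lit 2, nat_lit 3, nat_lit 4, nat_lit 5, nat_lit 0, nat_lit 1, nat_lit 2, nat_lit 3, nat_lit 4, nat_lit 0, nat_lit 1, nat_lit 2, nat_lit 3, nat_lit 0, nat_lit 1, nat_lit 3, nat_lit 2, nat_lit 3, nat_lit 2, nat_lit 4, nat_lit 3, nat_lit 2, nat_lit 1, nat_lit 3, nat_lit 2, nat_lit 1, nat_lit 0, nat_lit 3, nat_lit 4, nat_lit 3, nat_lit 2, nat_lit 1, nat_lit 3, nat_lit 2, nat_lit 3, nat_lit 4, nat_lit 3, nat_lit 0, nat_lit 1, nat_lit 2, nat_lit 3, nat_lit 1, nat_lit 2, nat_lit 3, nat_lit 4]), (70126, [nat_lit 6, nat_lit 4, nat_lit 3, nat_lit 2, nat_lit 7, nat_lit 1, nat_lit 6, nat_lit 4, nat_lit 3, nat_lit 2, nat_lit 3, nat_lit 4, nat_lit 6, nat_lit 5, nat_lit 4, nat_lit 1, nat_lit 2, nat_lit 3, nat_lit 1, nat_lit 2, nat_lit 3, nat_lit 4, nat_lit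 3, nat_lit 1, nat_lit 2, nat_lit 3, nat_lit 0, nat_lit 1, nat_lit 2, nat_lit 3, nat_lit 4, nat_lit 2, nat_lit 4, nat_lit 3, nat_lit 2, nat_lit 1, nat_lit 3, nat_lit 2, nat_lit 1, nat_lit 0, nat_lit 3, nat_lit 4, nat_lit 3, nat_lit 2, nat_lit 1, nat_lit 3, nat_lit 2, nat_lit 3, nat_lit 4, nat_lit 3, nat_lit 0, nat_lit 1, nat_lit 2, nat_lit 3, nat_lit 1, nat_lit 2, nat_lit 3, nat_lit 4, nat_lit 5, nat_lit 4, nat_lit 3, nat_lit 2, nat_lit 1, nat_lit 3, nat_lit 2, nat_lit 1, nat_lit 0, nat_lit 3, nat_lit 4, nat_lit 3, nat_lit 2, nat_lit 1, nat_lit 3, nat_lit 2, nat_lit 3, nat_lit 4, nat_lit 3, nat_lit 0, nat_lit 1, nat_lit 2, nat_lit 3, nat_lit 1, nat_lit 2, nat_lit 3, nat_lit 4, nat_lit 0, nat_lit 4, nat_lit 3, nat_lit 2, nat_lit 1, nat_lit 3, nat_lit 2, nat_lit 1, nat_lit 0, nat_lit 3, nat_lit 4, nat_lit 3, nat_lit 2, nat_lit 1, nat_lit 3, nat_lit 2, nat_lit 3, nat_lit 4, nat_lit 3, nat_lit 0, nat_lit 1, nat_lit 2, nat_lit 3, nat_lit 1, nat_lit 2, nat_lit 3, nat_lit 4]),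 (73721, [nat_lit 3, nat_lit 6, nat_lit 2, nat_lit 3, nat_lit 1, nat_lit 7, nat_lit 4, nat_lit 2, nat_lit 3, nat_lit 6, nat_lit 4, nat_lit 1, nat_lit 6, nat_lit 5, nat_lit 3, nat_lit 4, nat_lit 2, nat_lit 3, nat_lit 2, nat_lit 3, nat_lit 4, nat_lit 5, nat_lit 1, nat_lit 2, nat_lit 3, nat_lit 4, nat_lit 0, nat_lit 1, nat_lit 2, nat_lit 3, nat_lit 1, nat_lit 2, nat_lit 3, nat_lit 2, nat_lit 3, nat_lit 0]), (74538, [nat_lit 2, nat_lit 6, nat_lit 3, nat_lit 1, nat_lit 6, nat_lit 2, nat_lit 6, nat_lit 3, nat_lit 1, nat_lit 2, nat_lit 3, nat_lit 4, nat_lit 6, nat_lit 4, nat_lit 5, nat_lit 2, nat_lit 3, nat_lit 4, nat_lit 1, nat_lit 2, nat_lit 3, nat_lit 1, nat_lit 2, nat_lit 3, nat_lit 4, nat_lit 1, nat_lit 2, nat_lit 3, nat_lit 0, nat_lit 1, nat_lit 2, nat_lit 3, nat_lit 4, nat_lit 2, nat_lit 1, nat_lit 4, nat_lit 3, nat_lit 2, nat_lit 1, nat_lit 3, nat_lit 2, nat_lit 1, nat_lit 0, nat_lit 3, nat_lit 4, nat_lit 3, nat_lit 2, nat_lit 1, nat_lit 3, nat_lit 2, nat_lit 3, nat_lit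 4, nat_lit 3, nat_lit 0, nat_lit 1, nat_lit 2, nat_lit 3, nat_lit 1, nat_lit 2, nat_lit 3, nat_lit 4, nat_lit 5, nat_lit 4, nat_lit 3, nat_lit 2, nat_lit 1, nat_lit 3, nat_lit 2, nat_lit 1, nat_lit 0, nat_lit 3, nat_lit 4, nat_lit 3, nat_lit 2, nat_lit 1, nat_lit 3, nat_lit 2, nat_lit 3, nat_lit 4, nat_lit 3, nat_lit 0, nat_lit 1, nat_lit 2, nat_lit 3, nat_lit 1, nat_lit 2, nat_lit 3, nat_lit 4, nat_lit 0, nat_lit 4, nat_lit 3, nat_lit 2, nat_lit 1, nat_lit 3, nat_lit 2, nat_lit 1, nat_lit 0, nat_lit 3, nat_lit 4, nat_lit 3, nat_lit 2, nat_lit 1, nat_lit 3, nat_lit 2, nat_lit 3, nat_lit 4, nat_lit 3, nat_lit 0, nat_lit 1, nat_lit 2, nat_lit 3, nat_lit 1, nat_lit 2, nat_lit 3, nat_lit 4, nat_lit 0, nat_lit 4, nat_lit 3, nat_lit 2, nat_lit 1, nat_lit 3, nat_lit 2, nat_lit 1, nat_lit 0, nat_lit 3, nat_lit 4, nat_lit 3, nat_lit 2, nat_lit 1, nat_lit 3, nat_lit 2, nat_lit 3, nat_lit 4, nat_lit 3, nat_lit 0, nat_lit 1, nat_lit 2, nat_lit 3, nat_lit 1, nat_lit 2, nat_lit 3,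 nat_lit 4]), (74912, [nat_lit 1, nat_lit 6, nat_lit 1, nat_lit 7, nat_lit 2, nat_lit 3, nat_lit 4, nat_lit 2, nat_lit 3, nat_lit 1, nat_lit 2, nat_lit 6, nat_lit 1, nat_lit 6, nat_lit 4, nat_lit 3, nat_lit 0, nat_lit 1, nat_lit 2, nat_lit 3, nat_lit 4, nat_lit 3, nat_lit 1, nat_lit 2, nat_lit 3, nat_lit 0, nat_lit 1, nat_lit 2, nat_lit 3, nat_lit 4, nat_lit 3, nat_lit 2, nat_lit 3, nat_lit 2, nat_lit 3]), (75691, [nat_lit 0, nat_lit 1, nat_lit 7, nat_lit 4, nat_lit 2, nat_lit 3, nat_lit 1, nat_lit 2, nat_lit 6, nat_lit 3, nat_lit 4, nat_lit 6, nat_lit 4, nat_lit 2, nat_lit 3, nat_lit 2, nat_lit 3, nat_lit 4, nat_lit 1, nat_lit 2, nat_lit 3, nat_lit 2, nat_lit 3, nat_lit 4, nat_lit 5, nat_lit 3, nat_lit 0, nat_lit 1, nat_lit 2, nat_lit 3, nat_lit 4, nat_lit 1, nat_lit 2, nat_lit 0, nat_lit 1, nat_lit 5, nat_lit 4, nat_lit 3, nat_lit 2, nat_lit 1, nat_lit 3, nat_lit 2, nat_lit 1, nat_lit 0, nat_lit 3, nat_lit 4, nat_lit 3, nat_lit 2, nat_lit 1, nat_lit 3, nat_lit 2, nat_lit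 3, nat_lit 4, nat_lit 3, nat_lit 0, nat_lit 1, nat_lit 2, nat_lit 3, nat_lit 1, nat_lit 2, nat_lit 3, nat_lit 4, nat_lit 0, nat_lit 4, nat_lit 3, nat_lit 2, nat_lit 1, nat_lit 3, nat_lit 2, nat_lit 1, nat_lit 0, nat_lit 3, nat_lit 4, nat_lit 3, nat_lit 2, nat_lit 1, nat_lit 3, nat_lit 2, nat_lit 3, nat_lit 4, nat_lit 3, nat_lit 0, nat_lit 1, nat_lit 2, nat_lit 3, nat_lit 1, nat_lit 2, nat_lit 3, nat_lit 4, nat_lit 0, nat_lit 4, nat_lit 3, nat_lit 2, nat_lit 1, nat_lit 3, nat_lit 2, nat_lit 1, nat_lit 0, nat_lit 3, nat_lit 4, nat_lit 3, nat_lit 2, nat_lit 1, nat_lit 3, nat_lit 2, nat_lit 3, nat_lit 4, nat_lit 3, nat_lit 0, nat_lit 1, nat_lit 2, nat_lit 3, nat_lit 1, nat_lit 2, nat_lit 3, nat_lit 4]), (75869, [nat_lit 3, nat_lit 4, nat_lit 2, nat_lit 6, nat_lit 3, nat_lit 1, nat_lit 2, nat_lit 3, nat_lit 4, nat_lit 1, nat_lit 2, nat_lit 1, nat_lit 6, nat_lit 3, nat_lit 4, nat_lit 2, nat_lit 3, nat_lit 1, nat_lit 2, nat_lit 3, nat_lit 4, nat_lit 5, nat_lit 4, nat_lit 3,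 nat_lit 0, nat_lit 1, nat_lit 2, nat_lit 3, nat_lit 4, nat_lit 1, nat_lit 4, nat_lit 3, nat_lit 2, nat_lit 1, nat_lit 3, nat_lit 2, nat_lit 1, nat_lit 0, nat_lit 3, nat_lit 4, nat_lit 3, nat_lit 2, nat_lit 1, nat_lit 3, nat_lit 2, nat_lit 3, nat_lit 4, nat_lit 3, nat_lit 0, nat_lit 1, nat_lit 2, nat_lit 3, nat_lit 1, nat_lit 2, nat_lit 3, nat_lit 4, nat_lit 3, nat_lit 2, nat_lit 3, nat_lit 2, nat_lit 4, nat_lit 3, nat_lit 2, nat_lit 1, nat_lit 3, nat_lit 2, nat_lit 1, nat_lit 0, nat_lit 3, nat_lit 4, nat_lit 3, nat_lit 2, nat_lit 1, nat_lit 3, nat_lit 2, nat_lit 3, nat_lit 4, nat_lit 3, nat_lit 0, nat_lit 1, nat_lit 2, nat_lit 3, nat_lit 1, nat_lit 2, nat_lit 3, nat_lit 4, nat_lit 0, nat_lit 4, nat_lit 3, nat_lit 2, nat_lit 1, nat_lit 3, nat_lit 2, nat_lit 1, nat_lit 0, nat_lit 3, nat_lit 4, nat_lit 3, nat_lit 2, nat_lit 1, nat_lit 3, nat_lit 2, nat_lit 3, nat_lit 4, nat_lit 3, nat_lit 0, nat_lit 1, nat_lit 2, nat_lit 3, nat_lit 1, nat_lit 2, nat_lit 3, nat_lit 4, nat_lit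 0, nat_lit 4, nat_lit 3, nat_lit 2, nat_lit 1, nat_lit 3, nat_lit 2, nat_lit 1, nat_lit 0, nat_lit 3, nat_lit 4, nat_lit 3, nat_lit 2, nat_lit 1, nat_lit 3, nat_lit 2, nat_lit 3, nat_lit 4, nat_lit 3, nat_lit 0, nat_lit 1, nat_lit 2, nat_lit 3, nat_lit 1, nat_lit 2, nat_lit 3, nat_lit 4, nat_lit 0]), (78082, [nat_lit 1, nat_lit 6, nat_lit 2, nat_lit 3, nat_lit 4, nat_lit 2, nat_lit 3, nat_lit 6, nat_lit 1, nat_lit 2, nat_lit 6, nat_lit 4, nat_lit 1, nat_lit 6, nat_lit 3, nat_lit 2, nat_lit 3, nat_lit 4, nat_lit 5, nat_lit 3, nat_lit 1, nat_lit 2, nat_lit 3, nat_lit 4, nat_lit 3, nat_lit 1, nat_lit 2, nat_lit 5, nat_lit 0]), (78394, [nat_lit 3, nat_lit 7, nat_lit 4, nat_lit 3, nat_lit 2, nat_lit 3, nat_lit 1, nat_lit 2, nat_lit 3, nat_lit 7, nat_lit 4, nat_lit 6, nat_lit 2, nat_lit 3, nat_lit 4, nat_lit 5, nat_lit 3, nat_lit 4, nat_lit 3, nat_lit 2, nat_lit 3, nat_lit 1, nat_lit 2, nat_lit 3, nat_lit 4, nat_lit 3, nat_lit 2, nat_lit 3, nat_lit 0, nat_lit 1, nat_lit 4,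 nat_lit 3, nat_lit 2, nat_lit 1, nat_lit 3, nat_lit 2, nat_lit 1, nat_lit 0, nat_lit 3, nat_lit 4, nat_lit 3, nat_lit 2, nat_lit 1, nat_lit 3, nat_lit 2, nat_lit 3, nat_lit 4, nat_lit 3, nat_lit 0, nat_lit 1, nat_lit 2, nat_lit 3, nat_lit 1, nat_lit 2, nat_lit 3, nat_lit 4, nat_lit 3, nat_lit 2, nat_lit 3, nat_lit 2, nat_lit 4, nat_lit 3, nat_lit 2, nat_lit 1, nat_lit 3, nat_lit 2, nat_lit 1, nat_lit 0, nat_lit 3, nat_lit 4, nat_lit 3, nat_lit 2, nat_lit 1, nat_lit 3, nat_lit 2, nat_lit 3, nat_lit 4, nat_lit 3, nat_lit 0, nat_lit 1, nat_lit 2, nat_lit 3, nat_lit 1, nat_lit 2, nat_lit 3, nat_lit 4, nat_lit 0, nat_lit 4, nat_lit 3, nat_lit 2, nat_lit 1, nat_lit 3, nat_lit 2, nat_lit 1, nat_lit 0, nat_lit 3, nat_lit 4, nat_lit 3, nat_lit 2, nat_lit 1, nat_lit 3, nat_lit 2, nat_lit 3, nat_lit 4, nat_lit 3, nat_lit 0, nat_lit 1, nat_lit 2, nat_lit 3, nat_lit 1, nat_lit 2, nat_lit 3, nat_lit 4, nat_lit 0, nat_lit 4, nat_lit 3, nat_lit 2, nat_lit 1, nat_lit 3, nat_lit 2, nat_lit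 1, nat_lit 0, nat_lit 3, nat_lit 4, nat_lit 3, nat_lit 2, nat_lit 1, nat_lit 3, nat_lit 2, nat_lit 3, nat_lit 4, nat_lit 3, nat_lit 0, nat_lit 1, nat_lit 2, nat_lit 3, nat_lit 1, nat_lit 2, nat_lit 3, nat_lit 4, nat_lit 0]), (80724, [nat_lit 4, nat_lit 2, nat_lit 6, nat_lit 3, nat_lit 2, nat_lit 6, nat_lit 4, nat_lit 3, nat_lit 2, nat_lit 3, nat_lit 1, nat_lit 2, nat_lit 3, nat_lit 4, nat_lit 6, nat_lit 3, nat_lit 4, nat_lit 3, nat_lit 2, nat_lit 3, nat_lit 1, nat_lit 2, nat_lit 3, nat_lit 4, nat_lit 5, nat_lit 1, nat_lit 2, nat_lit 3, nat_lit 4, nat_lit 2, nat_lit 3, nat_lit 1, nat_lit 2, nat_lit 3, nat_lit 0, nat_lit 1, nat_lit 4, nat_lit 3, nat_lit 2, nat_lit 1, nat_lit 3, nat_lit 2, nat_lit 1, nat_lit 0, nat_lit 3, nat_lit 4, nat_lit 3, nat_lit 2, nat_lit 1, nat_lit 3, nat_lit 2, nat_lit 3, nat_lit 4, nat_lit 3, nat_lit 0, nat_lit 1, nat_lit 2, nat_lit 3, nat_lit 1, nat_lit 2, nat_lit 3, nat_lit 4, nat_lit 5, nat_lit 4, nat_lit 3, nat_lit 2, nat_lit 1, nat_lit 3,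 nat_lit 2, nat_lit 1, nat_lit 0, nat_lit 3, nat_lit 4, nat_lit 3, nat_lit 2, nat_lit 1, nat_lit 3, nat_lit 2, nat_lit 3, nat_lit 4, nat_lit 3, nat_lit 0, nat_lit 1, nat_lit 2, nat_lit 3, nat_lit 1, nat_lit 2, nat_lit 3, nat_lit 4]), (84152, [nat_lit 6, nat_lit 1, nat_lit 2, nat_lit 3, nat_lit 2, nat_lit 3, nat_lit 4, nat_lit 1, nat_lit 2, nat_lit 3, nat_lit 2, nat_lit 0, nat_lit 1, nat_lit 6, nat_lit 5, nat_lit 2, nat_lit 3, nat_lit 4, nat_lit 0, nat_lit 1, nat_lit 2, nat_lit 3, nat_lit 2, nat_lit 3, nat_lit 4, nat_lit 1, nat_lit 2, nat_lit 0, nat_lit 1, nat_lit 4, nat_lit 3, nat_lit 2, nat_lit 1, nat_lit 3, nat_lit 2, nat_lit 1, nat_lit 0, nat_lit 3, nat_lit 4, nat_lit 3, nat_lit 2, nat_lit 1, nat_lit 3, nat_lit 2, nat_lit 3, nat_lit 4, nat_lit 3, nat_lit 0, nat_lit 1, nat_lit 2, nat_lit 3, nat_lit 1, nat_lit 2, nat_lit 3, nat_lit 4, nat_lit 2, nat_lit 3, nat_lit 2, nat_lit 3, nat_lit 4, nat_lit 3, nat_lit 2, nat_lit 1, nat_lit 3, nat_lit 2, nat_lit 1, nat_lit 0, nat_lit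 3, nat_lit 4, nat_lit 3, nat_lit 2, nat_lit 1, nat_lit 3, nat_lit 2, nat_lit 3, nat_lit 4, nat_lit 3, nat_lit 0, nat_lit 1, nat_lit 2, nat_lit 3, nat_lit 1, nat_lit 2, nat_lit 3, nat_lit 4, nat_lit 0]), (85984, [nat_lit 4, nat_lit 6, nat_lit 2, nat_lit 3, nat_lit 1, nat_lit 2, nat_lit 7, nat_lit 3, nat_lit 4, nat_lit 2, nat_lit 1, nat_lit 6, nat_lit 5, nat_lit 3, nat_lit 4, nat_lit 2, nat_lit 3, nat_lit 1, nat_lit 2, nat_lit 3, nat_lit 4, nat_lit 0, nat_lit 1, nat_lit 2, nat_lit 3, nat_lit 2, nat_lit 3, nat_lit 1, nat_lit 2, nat_lit 3, nat_lit 4, nat_lit 2, nat_lit 1, nat_lit 4, nat_lit 3, nat_lit 2, nat_lit 1, nat_lit 3, nat_lit 2, nat_lit 1, nat_lit 0, nat_lit 3, nat_lit 4, nat_lit 3, nat_lit 2, nat_lit 1, nat_lit 3, nat_lit 2, nat_lit 3, nat_lit 4, nat_lit 3, nat_lit 0, nat_lit 1, nat_lit 2, nat_lit 3, nat_lit 1, nat_lit 2, nat_lit 3, nat_lit 4, nat_lit 3, nat_lit 2, nat_lit 3, nat_lit 2, nat_lit 4, nat_lit 3, nat_lit 2, nat_lit 1, nat_lit 3, nat_lit 2, nat_lit 1,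 nat_lit 0, nat_lit 3, nat_lit 4, nat_lit 3, nat_lit 2, nat_lit 1, nat_lit 3, nat_lit 2, nat_lit 3, nat_lit 4, nat_lit 3, nat_lit 0, nat_lit 1, nat_lit 2, nat_lit 3, nat_lit 1, nat_lit 2, nat_lit 3, nat_lit 4, nat_lit 0, nat_lit 4, nat_lit 3, nat_lit 2, nat_lit 1, nat_lit 3, nat_lit 2, nat_lit 1, nat_lit 0, nat_lit 3, nat_lit 4, nat_lit 3, nat_lit 2, nat_lit 1, nat_lit 3, nat_lit 2, nat_lit 3, nat_lit 4, nat_lit 3, nat_lit 0, nat_lit 1, nat_lit 2, nat_lit 3, nat_lit 1, nat_lit 2, nat_lit 3, nat_lit 4]), (86305, [nat_lit 3, nat_lit 2, nat_lit 3, nat_lit 6, nat_lit 4, nat_lit 1, nat_lit 2, nat_lit 3, nat_lit 2, nat_lit 3, nat_lit 4, nat_lit 3, nat_lit 6, nat_lit 0, nat_lit 1, nat_lit 2, nat_lit 3, nat_lit 4, nat_lit 2, nat_lit 3, nat_lit 1, nat_lit 2, nat_lit 3, nat_lit 4, nat_lit 3, nat_lit 0, nat_lit 1, nat_lit 2, nat_lit 3, nat_lit 0, nat_lit 1, nat_lit 2, nat_lit 3, nat_lit 4, nat_lit 0, nat_lit 1, nat_lit 4, nat_lit 3, nat_lit 2, nat_lit 1, nat_lit 3, nat_lit 2, nat_lit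 1, nat_lit 0, nat_lit 3, nat_lit 4, nat_lit 3, nat_lit 2, nat_lit 1, nat_lit 3, nat_lit 2, nat_lit 3, nat_lit 4, nat_lit 3, nat_lit 0, nat_lit 1, nat_lit 2, nat_lit 3, nat_lit 1, nat_lit 2, nat_lit 3, nat_lit 4, nat_lit 0, nat_lit 4, nat_lit 3, nat_lit 2, nat_lit 1, nat_lit 3, nat_lit 2, nat_lit 1, nat_lit 0, nat_lit 3, nat_lit 4, nat_lit 3, nat_lit 2, nat_lit 1, nat_lit 3, nat_lit 2, nat_lit 3, nat_lit 4, nat_lit 3, nat_lit 0, nat_lit 1, nat_lit 2, nat_lit 3, nat_lit 1, nat_lit 2, nat_lit 3, nat_lit 4, nat_lit 0, nat_lit 4, nat_lit 3, nat_lit 2, nat_lit 1, nat_lit 3, nat_lit 2, nat_lit 1, nat_lit 0, nat_lit 3, nat_lit 4, nat_lit 3, nat_lit 2, nat_lit 1, nat_lit 3, nat_lit 2, nat_lit 3, nat_lit 4, nat_lit 3, nat_lit 0, nat_lit 1, nat_lit 2, nat_lit 3, nat_lit 1, nat_lit 2, nat_lit 3, nat_lit 4, nat_lit 0]), (86661, [nat_lit 7, nat_lit 1, nat_lit 2, nat_lit 3, nat_lit 7, nat_lit 4, nat_lit 3, nat_lit 2, nat_lit 3, nat_lit 6, nat_lit 4, nat_lit 1, nat_lit 6, nat_lit 5,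 nat_lit 4, nat_lit 1, nat_lit 2, nat_lit 3, nat_lit 1, nat_lit 2, nat_lit 3, nat_lit 4, nat_lit 1, nat_lit 2, nat_lit 3, nat_lit 2, nat_lit 3, nat_lit 1, nat_lit 2, nat_lit 3, nat_lit 4, nat_lit 2, nat_lit 4, nat_lit 3, nat_lit 2, nat_lit 1, nat_lit 3, nat_lit 2, nat_lit 1, nat_lit 0, nat_lit 3, nat_lit 4, nat_lit 3, nat_lit 2, nat_lit 1, nat_lit 3, nat_lit 2, nat_lit 3, nat_lit 4, nat_lit 3, nat_lit 0, nat_lit 1, nat_lit 2, nat_lit 3, nat_lit 1, nat_lit 2, nat_lit 3, nat_lit 4, nat_lit 0, nat_lit 4, nat_lit 3, nat_lit 2, nat_lit 1, nat_lit 3, nat_lit 2, nat_lit 1, nat_lit 0, nat_lit 3, nat_lit 4, nat_lit 3, nat_lit 2, nat_lit 1, nat_lit 3, nat_lit 2, nat_lit 3, nat_lit 4, nat_lit 3, nat_lit 0, nat_lit 1, nat_lit 2, nat_lit 3, nat_lit 1, nat_lit 2, nat_lit 3, nat_lit 4, nat_lit 0, nat_lit 4, nat_lit 3, nat_lit 2, nat_lit 1, nat_lit 3, nat_lit 2, nat_lit 1, nat_lit 0, nat_lit 3, nat_lit 4, nat_lit 3, nat_lit 2, nat_lit 1, nat_lit 3, nat_lit 2, nat_lit 3, nat_lit 4, nat_lit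 3, nat_lit 0, nat_lit 1, nat_lit 2, nat_lit 3, nat_lit 1, nat_lit 2, nat_lit 3, nat_lit 4]), (87300, [nat_lit 5, nat_lit 4, nat_lit 3, nat_lit 2, nat_lit 6, nat_lit 4, nat_lit 5, nat_lit 3, nat_lit 4, nat_lit 1, nat_lit 2, nat_lit 0, nat_lit 1, nat_lit 6, nat_lit 5, nat_lit 3, nat_lit 2, nat_lit 3, nat_lit 4, nat_lit 3, nat_lit 2, nat_lit 3, nat_lit 1, nat_lit 2, nat_lit 3, nat_lit 4, nat_lit 2, nat_lit 3, nat_lit 1, nat_lit 2, nat_lit 3, nat_lit 4, nat_lit 0, nat_lit 1, nat_lit 2, nat_lit 1, nat_lit 0, nat_lit 4, nat_lit 3, nat_lit 2, nat_lit 1, nat_lit 3, nat_lit 2, nat_lit 1, nat_lit 0, nat_lit 3, nat_lit 4, nat_lit 3, nat_lit 2, nat_lit 1, nat_lit 3, nat_lit 2, nat_lit 3, nat_lit 4, nat_lit 3, nat_lit 0, nat_lit 1, nat_lit 2, nat_lit 3, nat_lit 1, nat_lit 2, nat_lit 3, nat_lit 4, nat_lit 0, nat_lit 4, nat_lit 3, nat_lit 2, nat_lit 1, nat_lit 3, nat_lit 2, nat_lit 1, nat_lit 0, nat_lit 3, nat_lit 4, nat_lit 3, nat_lit 2, nat_lit 1, nat_lit 3, nat_lit 2, nat_lit 3,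 nat_lit 4, nat_lit 3, nat_lit 0, nat_lit 1, nat_lit 2, nat_lit 3, nat_lit 1, nat_lit 2, nat_lit 3, nat_lit 4]), (88245, [nat_lit 4, nat_lit 3, nat_lit 2, nat_lit 3, nat_lit 6, nat_lit 4, nat_lit 3, nat_lit 6, nat_lit 2, nat_lit 3, nat_lit 1, nat_lit 2, nat_lit 3, nat_lit 4, nat_lit 6, nat_lit 5, nat_lit 4, nat_lit 2, nat_lit 3, nat_lit 2, nat_lit 3, nat_lit 4, nat_lit 1, nat_lit 2, nat_lit 3, nat_lit 0, nat_lit 1, nat_lit 2, nat_lit 3, nat_lit 4, nat_lit 2, nat_lit 3, nat_lit 1, nat_lit 2, nat_lit 0, nat_lit 1, nat_lit 0, nat_lit 4, nat_lit 3, nat_lit 2, nat_lit 1, nat_lit 3, nat_lit 2, nat_lit 1, nat_lit 0, nat_lit 3, nat_lit 4, nat_lit 3, nat_lit 2, nat_lit 1, nat_lit 3, nat_lit 2, nat_lit 3, nat_lit 4, nat_lit 3, nat_lit 0, nat_lit 1, nat_lit 2, nat_lit 3, nat_lit 1, nat_lit 2, nat_lit 3, nat_lit 4]), (95843, [nat_lit 2, nat_lit 3, nat_lit 7, nat_lit 4, nat_lit 3, nat_lit 2, nat_lit 1, nat_lit 6, nat_lit 2, nat_lit 3, nat_lit 4, nat_lit 2, nat_lit 1, nat_lit 6, nat_lit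 3, nat_lit 1, nat_lit 2, nat_lit 3, nat_lit 4, nat_lit 0, nat_lit 1, nat_lit 2, nat_lit 3, nat_lit 1, nat_lit 2, nat_lit 3, nat_lit 4, nat_lit 3, nat_lit 1, nat_lit 2, nat_lit 3, nat_lit 2, nat_lit 3, nat_lit 2, nat_lit 4, nat_lit 3, nat_lit 2, nat_lit 1, nat_lit 3, nat_lit 2, nat_lit 1, nat_lit 0, nat_lit 3, nat_lit 4, nat_lit 3, nat_lit 2, nat_lit 1, nat_lit 3, nat_lit 2, nat_lit 3, nat_lit 4, nat_lit 3, nat_lit 0, nat_lit 1, nat_lit 2, nat_lit 3, nat_lit 1, nat_lit 2, nat_lit 3, nat_lit 4, nat_lit 0, nat_lit 4, nat_lit 3, nat_lit 2, nat_lit 1, nat_lit 3, nat_lit 2, nat_lit 1, nat_lit 0, nat_lit 3, nat_lit 4, nat_lit 3, nat_lit 2, nat_lit 1, nat_lit 3, nat_lit 2, nat_lit 3, nat_lit 4, nat_lit 3, nat_lit 0, nat_lit 1, nat_lit 2, nat_lit 3, nat_lit 1, nat_lit 2, nat_lit 3, nat_lit 4, nat_lit 0, nat_lit 4, nat_lit 3, nat_lit 2, nat_lit 1, nat_lit 3, nat_lit 2, nat_lit 1, nat_lit 0, nat_lit 3, nat_lit 4, nat_lit 3, nat_lit 2, nat_lit 1, nat_lit 3, nat_lit 2, nat_lit 3,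 nat_lit 4, nat_lit 3, nat_lit 0, nat_lit 1, nat_lit 2, nat_lit 3, nat_lit 1, nat_lit 2, nat_lit 3, nat_lit 4]), (96495, [nat_lit 2, nat_lit 3, nat_lit 1, nat_lit 6, nat_lit 4, nat_lit 3, nat_lit 2, nat_lit 3, nat_lit 7, nat_lit 4, nat_lit 1, nat_lit 6, nat_lit 0, nat_lit 1, nat_lit 2, nat_lit 3, nat_lit 4, nat_lit 5, nat_lit 3, nat_lit 2, nat_lit 3, nat_lit 1, nat_lit 2, nat_lit 3, nat_lit 4, nat_lit 1, nat_lit 2, nat_lit 3, nat_lit 2, nat_lit 3, nat_lit 4, nat_lit 1, nat_lit 5, nat_lit 4, nat_lit 3, nat_lit 2, nat_lit 1, nat_lit 3, nat_lit 2, nat_lit 1, nat_lit 0, nat_lit 3, nat_lit 4, nat_lit 3, nat_lit 2, nat_lit 1, nat_lit 3, nat_lit 2, nat_lit 3, nat_lit 4, nat_lit 3, nat_lit 0, nat_lit 1, nat_lit 2, nat_lit 3, nat_lit 1, nat_lit 2, nat_lit 3, nat_lit 4, nat_lit 0, nat_lit 4, nat_lit 3, nat_lit 2, nat_lit 1, nat_lit 3, nat_lit 2, nat_lit 1, nat_lit 0, nat_lit 3, nat_lit 4, nat_lit 3, nat_lit 2, nat_lit 1, nat_lit 3, nat_lit 2, nat_lit 3, nat_lit 4, nat_lit 3, nat_lit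 0, nat_lit 1, nat_lit 2, nat_lit 3, nat_lit 1, nat_lit 2, nat_lit 3, nat_lit 4, nat_lit 0, nat_lit 4, nat_lit 3, nat_lit 2, nat_lit 1, nat_lit 3, nat_lit 2, nat_lit 1, nat_lit 0, nat_lit 3, nat_lit 4, nat_lit 3, nat_lit 2, nat_lit 1, nat_lit 3, nat_lit 2, nat_lit 3, nat_lit 4, nat_lit 3, nat_lit 0, nat_lit 1, nat_lit 2, nat_lit 3, nat_lit 1, nat_lit 2, nat_lit 3, nat_lit 4, nat_lit 0]), (98077, [nat_lit 7, nat_lit 2, nat_lit 1, nat_lit 6, nat_lit 3, nat_lit 2, nat_lit 3, nat_lit 1, nat_lit 2, nat_lit 3, nat_lit 4, nat_lit 6, nat_lit 4, nat_lit 0, nat_lit 1, nat_lit 2, nat_lit 3, nat_lit 1, nat_lit 2, nat_lit 3, nat_lit 4, nat_lit 5, nat_lit 1, nat_lit 2, nat_lit 3, nat_lit 4, nat_lit 1, nat_lit 2, nat_lit 3, nat_lit 1, nat_lit 2, nat_lit 3, nat_lit 4, nat_lit 3, nat_lit 4, nat_lit 3, nat_lit 2, nat_lit 1, nat_lit 3, nat_lit 2, nat_lit 1, nat_lit 0, nat_lit 3, nat_lit 4, nat_lit 3, nat_lit 2, nat_lit 1, nat_lit 3, nat_lit 2, nat_lit 3, nat_lit 4, nat_lit 3, nat_lit 0,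 nat_lit 1, nat_lit 2, nat_lit 3, nat_lit 1, nat_lit 2, nat_lit 3, nat_lit 4, nat_lit 2, nat_lit 3, nat_lit 2, nat_lit 3, nat_lit 4, nat_lit 3, nat_lit 2, nat_lit 1, nat_lit 3, nat_lit 2, nat_lit 1, nat_lit 0, nat_lit 3, nat_lit 4, nat_lit 3, nat_lit 2, nat_lit 1, nat_lit 3, nat_lit 2, nat_lit 3, nat_lit 4, nat_lit 3, nat_lit 0, nat_lit 1, nat_lit 2, nat_lit 3, nat_lit 1, nat_lit 2, nat_lit 3, nat_lit 4]), (100317, [nat_lit 6, nat_lit 4, nat_lit 3, nat_lit 6, nat_lit 2, nat_lit 6, nat_lit 4, nat_lit 1, nat_lit 6, nat_lit 4, nat_lit 5, nat_lit 3, nat_lit 4, nat_lit 2, nat_lit 3, nat_lit 1, nat_lit 2, nat_lit 3, nat_lit 0, nat_lit 1, nat_lit 2, nat_lit 3, nat_lit 4, nat_lit 2, nat_lit 3, nat_lit 2, nat_lit 3, nat_lit 1, nat_lit 2, nat_lit 3, nat_lit 4, nat_lit 2, nat_lit 0]), (100934, [nat_lit 7, nat_lit 3, nat_lit 4, nat_lit 2, nat_lit 1, nat_lit 7, nat_lit 3, nat_lit 2, nat_lit 3, nat_lit 4, nat_lit 1, nat_lit 2, nat_lit 3, nat_lit 2, nat_lit 1, nat_lit 6, nat_lit 4, nat_lit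 3, nat_lit 2, nat_lit 3, nat_lit 4, nat_lit 5, nat_lit 1, nat_lit 2, nat_lit 3, nat_lit 0, nat_lit 1, nat_lit 2, nat_lit 3, nat_lit 4, nat_lit 1, nat_lit 2, nat_lit 3, nat_lit 2, nat_lit 0, nat_lit 1, nat_lit 2, nat_lit 3, nat_lit 2, nat_lit 3, nat_lit 4, nat_lit 3, nat_lit 2, nat_lit 1, nat_lit 3, nat_lit 2, nat_lit 1, nat_lit 0, nat_lit 3, nat_lit 4, nat_lit 3, nat_lit 2, nat_lit 1, nat_lit 3, nat_lit 2, nat_lit 3, nat_lit 4, nat_lit 3, nat_lit 0, nat_lit 1, nat_lit 2, nat_lit 3, nat_lit 1, nat_lit 2, nat_lit 3, nat_lit 4, nat_lit 0, nat_lit 4, nat_lit 3, nat_lit 2, nat_lit 1, nat_lit 3, nat_lit 2, nat_lit 1, nat_lit 0, nat_lit 3, nat_lit 4, nat_lit 3, nat_lit 2, nat_lit 1, nat_lit 3, nat_lit 2, nat_lit 3, nat_lit 4, nat_lit 3, nat_lit 0, nat_lit 1, nat_lit 2, nat_lit 3, nat_lit 1, nat_lit 2, nat_lit 3, nat_lit 4, nat_lit 0]), (103035, [nat_lit 3, nat_lit 7, nat_lit 4, nat_lit 2, nat_lit 6, nat_lit 3, nat_lit 0, nat_lit 1, nat_lit 2, nat_lit 3, nat_lit 4, nat_lit 1,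 nat_lit 6, nat_lit 5, nat_lit 2, nat_lit 3, nat_lit 4, nat_lit 3, nat_lit 0, nat_lit 1, nat_lit 2, nat_lit 3, nat_lit 1, nat_lit 2, nat_lit 3, nat_lit 4, nat_lit 3, nat_lit 2, nat_lit 3, nat_lit 0, nat_lit 1, nat_lit 5, nat_lit 4, nat_lit 3, nat_lit 2, nat_lit 1, nat_lit 3, nat_lit 2, nat_lit 1, nat_lit 0, nat_lit 3, nat_lit 4, nat_lit 3, nat_lit 2, nat_lit 1, nat_lit 3, nat_lit 2, nat_lit 3, nat_lit 4, nat_lit 3, nat_lit 0, nat_lit 1, nat_lit 2, nat_lit 3, nat_lit 1, nat_lit 2, nat_lit 3, nat_lit 4, nat_lit 0, nat_lit 4, nat_lit 3, nat_lit 2, nat_lit 1, nat_lit 3, nat_lit 2, nat_lit 1, nat_lit 0, nat_lit 3, nat_lit 4, nat_lit 3, nat_lit 2, nat_lit 1, nat_lit 3, nat_lit 2, nat_lit 3, nat_lit 4, nat_lit 3, nat_lit 0, nat_lit 1, nat_lit 2, nat_lit 3, nat_lit 1, nat_lit 2, nat_lit 3, nat_lit 4, nat_lit 0]), (104560, [nat_lit 7, nat_lit 4, nat_lit 7, nat_lit 3, nat_lit 2, nat_lit 3, nat_lit 4, nat_lit 6, nat_lit 1, nat_lit 2, nat_lit 3, nat_lit 2, nat_lit 1, nat_lit 6, nat_lit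 3, nat_lit 2, nat_lit 3, nat_lit 1, nat_lit 2, nat_lit 3, nat_lit 4, nat_lit 3, nat_lit 1, nat_lit 2, nat_lit 3, nat_lit 2, nat_lit 1, nat_lit 2, nat_lit 3, nat_lit 2, nat_lit 3, nat_lit 0]), (106191, [nat_lit 6, nat_lit 1, nat_lit 2, nat_lit 6, nat_lit 3, nat_lit 2, nat_lit 6, nat_lit 4, nat_lit 1, nat_lit 7, nat_lit 3, nat_lit 2, nat_lit 3, nat_lit 4, nat_lit 6, nat_lit 2, nat_lit 3, nat_lit 4, nat_lit 3, nat_lit 2, nat_lit 3, nat_lit 1, nat_lit 2, nat_lit 3, nat_lit 4, nat_lit 1, nat_lit 2, nat_lit 3, nat_lit 2, nat_lit 3, nat_lit 1, nat_lit 2, nat_lit 3, nat_lit 4, nat_lit 2, nat_lit 1, nat_lit 5, nat_lit 4, nat_lit 3, nat_lit 2, nat_lit 1, nat_lit 3, nat_lit 2, nat_lit 1, nat_lit 0, nat_lit 3, nat_lit 4, nat_lit 3, nat_lit 2, nat_lit 1, nat_lit 3, nat_lit 2, nat_lit 3, nat_lit 4, nat_lit 3, nat_lit 0, nat_lit 1, nat_lit 2, nat_lit 3, nat_lit 1, nat_lit 2, nat_lit 3, nat_lit 4]), (107443, [nat_lit 1, nat_lit 7, nat_lit 2, nat_lit 3, nat_lit 4, nat_lit 1, nat_lit 2,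 nat_lit 3, nat_lit 2, nat_lit 6, nat_lit 1, nat_lit 6, nat_lit 5, nat_lit 3, nat_lit 4, nat_lit 3, nat_lit 2, nat_lit 3, nat_lit 1, nat_lit 2, nat_lit 3, nat_lit 4, nat_lit 5, nat_lit 0, nat_lit 1, nat_lit 2, nat_lit 3, nat_lit 4, nat_lit 2, nat_lit 3, nat_lit 1, nat_lit 4, nat_lit 3, nat_lit 2, nat_lit 1, nat_lit 3, nat_lit 2, nat_lit 1, nat_lit 0, nat_lit 3, nat_lit 4, nat_lit 3, nat_lit 2, nat_lit 1, nat_lit 3, nat_lit 2, nat_lit 3, nat_lit 4, nat_lit 3, nat_lit 0, nat_lit 1, nat_lit 2, nat_lit 3, nat_lit 1, nat_lit 2, nat_lit 3, nat_lit 4, nat_lit 5, nat_lit 4, nat_lit 3, nat_lit 2, nat_lit 1, nat_lit 3, nat_lit 2, nat_lit 1, nat_lit 0, nat_lit 3, nat_lit 4, nat_lit 3, nat_lit 2, nat_lit 1, nat_lit 3, nat_lit 2, nat_lit 3, nat_lit 4, nat_lit 3, nat_lit 0, nat_lit 1, nat_lit 2, nat_lit 3, nat_lit 1, nat_lit 2, nat_lit 3, nat_lit 4, nat_lit 0, nat_lit 4, nat_lit 3, nat_lit 2, nat_lit 1, nat_lit 3, nat_lit 2, nat_lit 1, nat_lit 0, nat_lit 3, nat_lit 4, nat_lit 3, nat_lit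 2, nat_lit 1, nat_lit 3, nat_lit 2, nat_lit 3, nat_lit 4, nat_lit 3, nat_lit 0, nat_lit 1, nat_lit 2, nat_lit 3, nat_lit 1, nat_lit 2, nat_lit 3, nat_lit 4, nat_lit 0]), (111686, [nat_lit 5, nat_lit 3, nat_lit 2, nat_lit 3, nat_lit 4, nat_lit 1, nat_lit 6, nat_lit 3, nat_lit 4, nat_lit 1, nat_lit 2, nat_lit 3, nat_lit 2, nat_lit 1, nat_lit 6, nat_lit 4, nat_lit 5, nat_lit 3, nat_lit 4, nat_lit 1, nat_lit 2, nat_lit 3, nat_lit 0, nat_lit 1, nat_lit 2, nat_lit 3, nat_lit 4, nat_lit 3, nat_lit 2, nat_lit 3, nat_lit 1, nat_lit 3, nat_lit 2, nat_lit 3, nat_lit 2, nat_lit 4, nat_lit 3, nat_lit 2, nat_lit 1, nat_lit 3, nat_lit 2, nat_lit 1, nat_lit 0, nat_lit 3, nat_lit 4, nat_lit 3, nat_lit 2, nat_lit 1, nat_lit 3, nat_lit 2, nat_lit 3, nat_lit 4, nat_lit 3, nat_lit 0, nat_lit 1, nat_lit 2, nat_lit 3, nat_lit 1, nat_lit 2, nat_lit 3, nat_lit 4, nat_lit 0, nat_lit 4, nat_lit 3, nat_lit 2, nat_lit 1, nat_lit 3, nat_lit 2, nat_lit 1, nat_lit 0, nat_lit 3, nat_lit 4, nat_lit 3,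 nat_lit 2, nat_lit 1, nat_lit 3, nat_lit 2, nat_lit 3, nat_lit 4, nat_lit 3, nat_lit 0, nat_lit 1, nat_lit 2, nat_lit 3, nat_lit 1, nat_lit 2, nat_lit 3, nat_lit 4]), (113574, [nat_lit 3, nat_lit 2, nat_lit 3, nat_lit 6, nat_lit 4, nat_lit 5, nat_lit 3, nat_lit 1, nat_lit 2, nat_lit 3, nat_lit 4, nat_lit 3, nat_lit 1, nat_lit 6, nat_lit 5, nat_lit 4, nat_lit 3, nat_lit 2, nat_lit 3, nat_lit 0, nat_lit 1, nat_lit 2, nat_lit 3, nat_lit 4, nat_lit 0, nat_lit 1, nat_lit 2, nat_lit 3, nat_lit 1, nat_lit 4, nat_lit 3, nat_lit 2, nat_lit 1, nat_lit 3, nat_lit 2, nat_lit 1, nat_lit 0, nat_lit 3, nat_lit 4, nat_lit 3, nat_lit 2, nat_lit 1, nat_lit 3, nat_lit 2, nat_lit 3, nat_lit 4, nat_lit 3, nat_lit 0, nat_lit 1, nat_lit 2, nat_lit 3, nat_lit 1, nat_lit 2, nat_lit 3, nat_lit 4, nat_lit 5, nat_lit 4, nat_lit 3, nat_lit 2, nat_lit 1, nat_lit 3, nat_lit 2, nat_lit 1, nat_lit 0, nat_lit 3, nat_lit 4, nat_lit 3, nat_lit 2, nat_lit 1, nat_lit 3, nat_lit 2, nat_lit 3, nat_lit 4, nat_lit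 3, nat_lit 0, nat_lit 1, nat_lit 2, nat_lit 3, nat_lit 1, nat_lit 2, nat_lit 3, nat_lit 4, nat_lit 0, nat_lit 4, nat_lit 3, nat_lit 2, nat_lit 1, nat_lit 3, nat_lit 2, nat_lit 1, nat_lit 0, nat_lit 3, nat_lit 4, nat_lit 3, nat_lit 2, nat_lit 1, nat_lit 3, nat_lit 2, nat_lit 3, nat_lit 4, nat_lit 3, nat_lit 0, nat_lit 1, nat_lit 2, nat_lit 3, nat_lit 1, nat_lit 2, nat_lit 3, nat_lit 4, nat_lit 0, nat_lit 4, nat_lit 3, nat_lit 2, nat_lit 1, nat_lit 3, nat_lit 2, nat_lit 1, nat_lit 0, nat_lit 3, nat_lit 4, nat_lit 3, nat_lit 2, nat_lit 1, nat_lit 3, nat_lit 2, nat_lit 3, nat_lit 4, nat_lit 3, nat_lit 0, nat_lit 1, nat_lit 2, nat_lit 3, nat_lit 1, nat_lit 2, nat_lit 3, nat_lit 4, nat_lit 0]), (115763, [nat_lit 7, nat_lit 2, nat_lit 6, nat_lit 1, nat_lit 7, nat_lit 4, nat_lit 3, nat_lit 2, nat_lit 3, nat_lit 4, nat_lit 6, nat_lit 4, nat_lit 0, nat_lit 1, nat_lit 2, nat_lit 3, nat_lit 2, nat_lit 3, nat_lit 4, nat_lit 5, nat_lit 1, nat_lit 2, nat_lit 3, nat_lit 4, nat_lit 1,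 nat_lit 2, nat_lit 3, nat_lit 1, nat_lit 2, nat_lit 3, nat_lit 4, nat_lit 3, nat_lit 4, nat_lit 3, nat_lit 2, nat_lit 1, nat_lit 3, nat_lit 2, nat_lit 1, nat_lit 0, nat_lit 3, nat_lit 4, nat_lit 3, nat_lit 2, nat_lit 1, nat_lit 3, nat_lit 2, nat_lit 3, nat_lit 4, nat_lit 3, nat_lit 0, nat_lit 1, nat_lit 2, nat_lit 3, nat_lit 1, nat_lit 2, nat_lit 3, nat_lit 4, nat_lit 2, nat_lit 3, nat_lit 2, nat_lit 3, nat_lit 4, nat_lit 3, nat_lit 2, nat_lit 1, nat_lit 3, nat_lit 2, nat_lit 1, nat_lit 0, nat_lit 3, nat_lit 4, nat_lit 3, nat_lit 2, nat_lit 1, nat_lit 3, nat_lit 2, nat_lit 3, nat_lit 4, nat_lit 3, nat_lit 0, nat_lit 1, nat_lit 2, nat_lit 3, nat_lit 1, nat_lit 2, nat_lit 3, nat_lit 4]), (119869, [nat_lit 7, nat_lit 3, nat_lit 4, nat_lit 0, nat_lit 1, nat_lit 6, nat_lit 2, nat_lit 3, nat_lit 6, nat_lit 4, nat_lit 1, nat_lit 2, nat_lit 3, nat_lit 2, nat_lit 1, nat_lit 6, nat_lit 4, nat_lit 3, nat_lit 1, nat_lit 2, nat_lit 3, nat_lit 4, nat_lit 1, nat_lit 2, nat_lit 3, nat_lit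 2, nat_lit 3, nat_lit 4, nat_lit 3, nat_lit 1, nat_lit 2, nat_lit 3, nat_lit 1, nat_lit 4, nat_lit 3, nat_lit 2, nat_lit 1, nat_lit 3, nat_lit 2, nat_lit 1, nat_lit 0, nat_lit 3, nat_lit 4, nat_lit 3, nat_lit 2, nat_lit 1, nat_lit 3, nat_lit 2, nat_lit 3, nat_lit 4, nat_lit 3, nat_lit 0, nat_lit 1, nat_lit 2, nat_lit 3, nat_lit 1, nat_lit 2, nat_lit 3, nat_lit 4, nat_lit 0, nat_lit 4, nat_lit 3, nat_lit 2, nat_lit 1, nat_lit 3, nat_lit 2, nat_lit 1, nat_lit 0, nat_lit 3, nat_lit 4, nat_lit 3, nat_lit 2, nat_lit 1, nat_lit 3, nat_lit 2, nat_lit 3, nat_lit 4, nat_lit 3, nat_lit 0, nat_lit 1, nat_lit 2, nat_lit 3, nat_lit 1, nat_lit 2, nat_lit 3, nat_lit 4, nat_lit 0])]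

/-- second search: the other exempt points -/
def spsU : List (Nat × List Nat) :=
  [(368, [nat_lit 4, nat_lit 5, nat_lit 3, nat_lit 4, nat_lit 3, nat_lit 1, nat_lit 2, nat_lit 6, nat_lit 3, nat_lit 1, nat_lit 2, nat_lit 3, nat_lit 4, nat_lit 1, nat_lit 2, nat_lit 3, nat_lit 0, nat_lit 1, nat_lit 2, nat_lit 3, nat_lit 4, nat_lit 0, nat_lit 1, nat_lit 2, nat_lit 3, nat_lit 2, nat_lit 1, nat_lit 4, nat_lit 3, nat_lit 2, nat_lit 1, nat_lit 3, nat_lit 2, nat_lit 1, nat_lit 0, nat_lit 3, nat_lit 4, nat_lit 3, nat_lit 2, nat_lit 1, nat_lit 3, nat_lit 2, nat_lit 3, nat_lit 4, nat_lit 3, nat_lit 0, nat_lit 1, nat_lit 2, nat_lit 3, nat_lit 1, nat_lit 2, nat_lit 3, nat_lit 4, nat_lit 3, nat_lit 2, nat_lit 3, nat_lit 2, nat_lit 4, nat_lit 3, nat_lit 2, nat_lit 1, nat_lit 3, nat_lit 2, nat_lit 1, nat_lit 0, nat_lit 3, nat_lit 4, nat_lit 3, nat_lit 2, nat_lit 1, nat_lit 3, nat_lit 2, nat_lit 3, nat_lit 4, nat_lit 3, nat_lit 0, nat_lit 1, nat_lit 2, nat_lit 3, nat_lit 1, nat_lit 2,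 nat_lit 3, nat_lit 4, nat_lit 0, nat_lit 4, nat_lit 3, nat_lit 2, nat_lit 1, nat_lit 3, nat_lit 2, nat_lit 1, nat_lit 0, nat_lit 3, nat_lit 4, nat_lit 3, nat_lit 2, nat_lit 1, nat_lit 3, nat_lit 2, nat_lit 3, nat_lit 4, nat_lit 3, nat_lit 0, nat_lit 1, nat_lit 2, nat_lit 3, nat_lit 1, nat_lit 2, nat_lit 3, nat_lit 4, nat_lit 0, nat_lit 4, nat_lit 3, nat_lit 2, nat_lit 1, nat_lit 3, nat_lit 2, nat_lit 1, nat_lit 0, nat_lit 3, nat_lit 4, nat_lit 3, nat_lit 2, nat_lit 1, nat_lit 3, nat_lit 2, nat_lit 3, nat_lit 4, nat_lit 3, nat_lit 0, nat_lit 1, nat_lit 2, nat_lit 3, nat_lit 1, nat_lit 2, nat_lit 3, nat_lit 4, nat_lit 0]), (5017, [nat_lit 4, nat_lit 7, nat_lit 4, nat_lit 6, nat_lit 3, nat_lit 6, nat_lit 1, nat_lit 2, nat_lit 3, nat_lit 4, nat_lit 2, nat_lit 0, nat_lit 1, nat_lit 6, nat_lit 1, nat_lit 2, nat_lit 3, nat_lit 1, nat_lit 2, nat_lit 3, nat_lit 4, nat_lit 3, nat_lit 1, nat_lit 2, nat_lit 3, nat_lit 1, nat_lit 2, nat_lit 3, nat_lit 4, nat_lit 5, nat_lit 2, nat_lit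 1, nat_lit 0, nat_lit 3, nat_lit 4, nat_lit 3, nat_lit 2, nat_lit 1, nat_lit 3, nat_lit 2, nat_lit 3, nat_lit 4, nat_lit 3, nat_lit 0, nat_lit 1, nat_lit 2, nat_lit 3, nat_lit 1, nat_lit 2, nat_lit 3, nat_lit 4, nat_lit 2, nat_lit 3, nat_lit 2, nat_lit 3]), (6626, [nat_lit 4, nat_lit 2, nat_lit 3, nat_lit 1, nat_lit 2, nat_lit 3, nat_lit 4, nat_lit 0, nat_lit 1, nat_lit 2, nat_lit 3, nat_lit 1, nat_lit 2, nat_lit 1, nat_lit 6, nat_lit 3, nat_lit 4, nat_lit 5, nat_lit 2, nat_lit 3, nat_lit 4, nat_lit 2, nat_lit 3, nat_lit 1, nat_lit 2, nat_lit 3, nat_lit 4, nat_lit 0, nat_lit 1, nat_lit 2, nat_lit 3, nat_lit 0, nat_lit 1, nat_lit 2, nat_lit 1, nat_lit 3, nat_lit 2, nat_lit 3, nat_lit 2, nat_lit 4, nat_lit 3, nat_lit 2, nat_lit 1, nat_lit 3, nat_lit 2, nat_lit 1, nat_lit 0, nat_lit 3, nat_lit 4, nat_lit 3, nat_lit 2, nat_lit 1, nat_lit 3, nat_lit 2, nat_lit 3, nat_lit 4, nat_lit 3, nat_lit 0, nat_lit 1, nat_lit 2, nat_lit 3, nat_lit 1, nat_lit 2, nat_lit 3, nat_lit 4]),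 (7689, [nat_lit 6, nat_lit 1, nat_lit 2, nat_lit 3, nat_lit 7, nat_lit 4, nat_lit 2, nat_lit 6, nat_lit 3, nat_lit 2, nat_lit 1, nat_lit 6, nat_lit 5, nat_lit 4, nat_lit 2, nat_lit 3, nat_lit 1, nat_lit 2, nat_lit 3, nat_lit 4, nat_lit 5, nat_lit 2, nat_lit 3, nat_lit 1, nat_lit 2, nat_lit 3, nat_lit 4, nat_lit 3, nat_lit 2, nat_lit 1, nat_lit 4, nat_lit 3, nat_lit 2, nat_lit 1, nat_lit 3, nat_lit 2, nat_lit 1, nat_lit 0, nat_lit 3, nat_lit 4, nat_lit 3, nat_lit 2, nat_lit 1, nat_lit 3, nat_lit 2, nat_lit 3, nat_lit 4, nat_lit 3, nat_lit 0, nat_lit 1, nat_lit 2, nat_lit 3, nat_lit 1, nat_lit 2, nat_lit 3, nat_lit 4, nat_lit 3, nat_lit 2, nat_lit 3, nat_lit 2]), (8961, [nat_lit 4, nat_lit 6, nat_lit 1, nat_lit 2, nat_lit 6, nat_lit 3, nat_lit 1, nat_lit 7, nat_lit 4, nat_lit 7, nat_lit 2, nat_lit 3, nat_lit 2, nat_lit 1, nat_lit 6, nat_lit 4, nat_lit 2, nat_lit 3, nat_lit 0, nat_lit 1, nat_lit 2, nat_lit 3, nat_lit 4, nat_lit 1, nat_lit 2, nat_lit 3, nat_lit 2, nat_lit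 3, nat_lit 4, nat_lit 1, nat_lit 3, nat_lit 2, nat_lit 3, nat_lit 2, nat_lit 4, nat_lit 3, nat_lit 2, nat_lit 1, nat_lit 3, nat_lit 2, nat_lit 1, nat_lit 0, nat_lit 3, nat_lit 4, nat_lit 3, nat_lit 2, nat_lit 1, nat_lit 3, nat_lit 2, nat_lit 3, nat_lit 4, nat_lit 3, nat_lit 0, nat_lit 1, nat_lit 2, nat_lit 3, nat_lit 1, nat_lit 2, nat_lit 3, nat_lit 4]), (10483, [nat_lit 6, nat_lit 1, nat_lit 2, nat_lit 3, nat_lit 4, nat_lit 2, nat_lit 7, nat_lit 3, nat_lit 1, nat_lit 2, nat_lit 6, nat_lit 3, nat_lit 4, nat_lit 6, nat_lit 5, nat_lit 3, nat_lit 2, nat_lit 3, nat_lit 4, nat_lit 1, nat_lit 2, nat_lit 3, nat_lit 0, nat_lit 1, nat_lit 2, nat_lit 3, nat_lit 4, nat_lit 3, nat_lit 1, nat_lit 2, nat_lit 0, nat_lit 1, nat_lit 4, nat_lit 3, nat_lit 2, nat_lit 1, nat_lit 3, nat_lit 2, nat_lit 1, nat_lit 0, nat_lit 3, nat_lit 4, nat_lit 3, nat_lit 2, nat_lit 1, nat_lit 3, nat_lit 2, nat_lit 3, nat_lit 4, nat_lit 3, nat_lit 0, nat_lit 1, nat_lit 2, nat_lit 3, nat_lit 1, nat_lit 2,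 nat_lit 3, nat_lit 4, nat_lit 5, nat_lit 4, nat_lit 3, nat_lit 2, nat_lit 1, nat_lit 3, nat_lit 2, nat_lit 1, nat_lit 0, nat_lit 3, nat_lit 4, nat_lit 3, nat_lit 2, nat_lit 1, nat_lit 3, nat_lit 2, nat_lit 3, nat_lit 4, nat_lit 3, nat_lit 0, nat_lit 1, nat_lit 2, nat_lit 3, nat_lit 1, nat_lit 2, nat_lit 3, nat_lit 4, nat_lit 0, nat_lit 4, nat_lit 3, nat_lit 2, nat_lit 1, nat_lit 3, nat_lit 2, nat_lit 1, nat_lit 0, nat_lit 3, nat_lit 4, nat_lit 3, nat_lit 2, nat_lit 1, nat_lit 3, nat_lit 2, nat_lit 3, nat_lit 4, nat_lit 3, nat_lit 0, nat_lit 1, nat_lit 2, nat_lit 3, nat_lit 1, nat_lit 2, nat_lit 3, nat_lit 4, nat_lit 0, nat_lit 4, nat_lit 3, nat_lit 2, nat_lit 1, nat_lit 3, nat_lit 2, nat_lit 1, nat_lit 0, nat_lit 3, nat_lit 4, nat_lit 3, nat_lit 2, nat_lit 1, nat_lit 3, nat_lit 2, nat_lit 3, nat_lit 4, nat_lit 3, nat_lit 0, nat_lit 1, nat_lit 2, nat_lit 3, nat_lit 1, nat_lit 2, nat_lit 3, nat_lit 4, nat_lit 0]), (12314, [nat_lit 5, nat_lit 4, nat_lit 2, nat_lit 3, nat_lit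 7, nat_lit 4, nat_lit 1, nat_lit 2, nat_lit 3, nat_lit 2, nat_lit 6, nat_lit 1, nat_lit 6, nat_lit 3, nat_lit 4, nat_lit 1, nat_lit 2, nat_lit 3, nat_lit 0, nat_lit 1, nat_lit 2, nat_lit 3, nat_lit 4, nat_lit 2, nat_lit 3, nat_lit 1, nat_lit 2, nat_lit 3, nat_lit 0, nat_lit 1, nat_lit 4, nat_lit 3, nat_lit 2, nat_lit 1, nat_lit 3, nat_lit 2, nat_lit 1, nat_lit 0, nat_lit 3, nat_lit 4, nat_lit 3, nat_lit 2, nat_lit 1, nat_lit 3, nat_lit 2, nat_lit 3, nat_lit 4, nat_lit 3, nat_lit 0, nat_lit 1, nat_lit 2, nat_lit 3, nat_lit 1, nat_lit 2, nat_lit 3, nat_lit 4, nat_lit 3, nat_lit 2, nat_lit 3, nat_lit 2, nat_lit 4, nat_lit 3, nat_lit 2, nat_lit 1, nat_lit 3, nat_lit 2, nat_lit 1, nat_lit 0, nat_lit 3, nat_lit 4, nat_lit 3, nat_lit 2, nat_lit 1, nat_lit 3, nat_lit 2, nat_lit 3, nat_lit 4, nat_lit 3, nat_lit 0, nat_lit 1, nat_lit 2, nat_lit 3, nat_lit 1, nat_lit 2, nat_lit 3, nat_lit 4, nat_lit 0, nat_lit 4, nat_lit 3, nat_lit 2, nat_lit 1, nat_lit 3, nat_lit 2, nat_lit 1,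 nat_lit 0, nat_lit 3, nat_lit 4, nat_lit 3, nat_lit 2, nat_lit 1, nat_lit 3, nat_lit 2, nat_lit 3, nat_lit 4, nat_lit 3, nat_lit 0, nat_lit 1, nat_lit 2, nat_lit 3, nat_lit 1, nat_lit 2, nat_lit 3, nat_lit 4, nat_lit 0, nat_lit 4, nat_lit 3, nat_lit 2, nat_lit 1, nat_lit 3, nat_lit 2, nat_lit 1, nat_lit 0, nat_lit 3, nat_lit 4, nat_lit 3, nat_lit 2, nat_lit 1, nat_lit 3, nat_lit 2, nat_lit 3, nat_lit 4, nat_lit 3, nat_lit 0, nat_lit 1, nat_lit 2, nat_lit 3, nat_lit 1, nat_lit 2, nat_lit 3, nat_lit 4, nat_lit 0]), (13379, [nat_lit 7, nat_lit 4, nat_lit 7, nat_lit 3, nat_lit 1, nat_lit 7, nat_lit 4, nat_lit 2, nat_lit 3, nat_lit 2, nat_lit 0, nat_lit 1, nat_lit 6, nat_lit 4, nat_lit 2, nat_lit 3, nat_lit 1, nat_lit 2, nat_lit 3, nat_lit 4, nat_lit 0, nat_lit 1, nat_lit 2, nat_lit 0, nat_lit 1, nat_lit 4, nat_lit 3, nat_lit 2, nat_lit 1, nat_lit 3, nat_lit 2, nat_lit 1, nat_lit 0, nat_lit 3, nat_lit 4, nat_lit 3, nat_lit 2, nat_lit 1, nat_lit 3, nat_lit 2, nat_lit 3, nat_lit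 4, nat_lit 3, nat_lit 0, nat_lit 1, nat_lit 2, nat_lit 3, nat_lit 1, nat_lit 2, nat_lit 3, nat_lit 4, nat_lit 3, nat_lit 2, nat_lit 3, nat_lit 2, nat_lit 4, nat_lit 3, nat_lit 2, nat_lit 1, nat_lit 3, nat_lit 2, nat_lit 1, nat_lit 0, nat_lit 3, nat_lit 4, nat_lit 3, nat_lit 2, nat_lit 1, nat_lit 3, nat_lit 2, nat_lit 3, nat_lit 4, nat_lit 3, nat_lit 0, nat_lit 1, nat_lit 2, nat_lit 3, nat_lit 1, nat_lit 2, nat_lit 3, nat_lit 4, nat_lit 0, nat_lit 4, nat_lit 3, nat_lit 2, nat_lit 1, nat_lit 3, nat_lit 2, nat_lit 1, nat_lit 0, nat_lit 3, nat_lit 4, nat_lit 3, nat_lit 2, nat_lit 1, nat_lit 3, nat_lit 2, nat_lit 3, nat_lit 4, nat_lit 3, nat_lit 0, nat_lit 1, nat_lit 2, nat_lit 3, nat_lit 1, nat_lit 2, nat_lit 3, nat_lit 4, nat_lit 0, nat_lit 4, nat_lit 3, nat_lit 2, nat_lit 1, nat_lit 3, nat_lit 2, nat_lit 1, nat_lit 0, nat_lit 3, nat_lit 4, nat_lit 3, nat_lit 2, nat_lit 1, nat_lit 3, nat_lit 2, nat_lit 3, nat_lit 4, nat_lit 3, nat_lit 0, nat_lit 1, nat_lit 2, nat_lit 3,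 nat_lit 1, nat_lit 2, nat_lit 3, nat_lit 4, nat_lit 0]), (14678, [nat_lit 4, nat_lit 3, nat_lit 7, nat_lit 4, nat_lit 3, nat_lit 2, nat_lit 7, nat_lit 3, nat_lit 1, nat_lit 2, nat_lit 6, nat_lit 4, nat_lit 1, nat_lit 6, nat_lit 4, nat_lit 3, nat_lit 1, nat_lit 2, nat_lit 3, nat_lit 4, nat_lit 5, nat_lit 0, nat_lit 1, nat_lit 2, nat_lit 3, nat_lit 4, nat_lit 2, nat_lit 3, nat_lit 2, nat_lit 0, nat_lit 1, nat_lit 5, nat_lit 4, nat_lit 3, nat_lit 2, nat_lit 1, nat_lit 3, nat_lit 2, nat_lit 1, nat_lit 0, nat_lit 3, nat_lit 4, nat_lit 3, nat_lit 2, nat_lit 1, nat_lit 3, nat_lit 2, nat_lit 3, nat_lit 4, nat_lit 3, nat_lit 0, nat_lit 1, nat_lit 2, nat_lit 3, nat_lit 1, nat_lit 2, nat_lit 3, nat_lit 4]), (14801, [nat_lit 2, nat_lit 6, nat_lit 3, nat_lit 1, nat_lit 6, nat_lit 4, nat_lit 5, nat_lit 2, nat_lit 3, nat_lit 1, nat_lit 2, nat_lit 3, nat_lit 4, nat_lit 6, nat_lit 3, nat_lit 4, nat_lit 3, nat_lit 2, nat_lit 3, nat_lit 1, nat_lit 2, nat_lit 3, nat_lit 4, nat_lit 0, nat_lit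 1, nat_lit 2, nat_lit 3, nat_lit 1, nat_lit 2, nat_lit 3, nat_lit 1, nat_lit 2, nat_lit 3, nat_lit 2, nat_lit 3, nat_lit 4, nat_lit 3, nat_lit 2, nat_lit 1, nat_lit 3, nat_lit 2, nat_lit 1, nat_lit 0, nat_lit 3, nat_lit 4, nat_lit 3, nat_lit 2, nat_lit 1, nat_lit 3, nat_lit 2, nat_lit 3, nat_lit 4, nat_lit 3, nat_lit 0, nat_lit 1, nat_lit 2, nat_lit 3, nat_lit 1, nat_lit 2, nat_lit 3, nat_lit 4]), (15079, [nat_lit 7, nat_lit 4, nat_lit 2, nat_lit 1, nat_lit 6, nat_lit 3, nat_lit 4, nat_lit 2, nat_lit 3, nat_lit 2, nat_lit 7, nat_lit 1, nat_lit 6, nat_lit 3, nat_lit 2, nat_lit 3, nat_lit 4, nat_lit 5, nat_lit 3, nat_lit 4, nat_lit 1, nat_lit 2, nat_lit 3, nat_lit 0, nat_lit 1, nat_lit 2, nat_lit 3, nat_lit 4, nat_lit 1, nat_lit 2, nat_lit 3, nat_lit 2, nat_lit 3, nat_lit 4, nat_lit 1, nat_lit 2, nat_lit 4, nat_lit 3, nat_lit 2, nat_lit 1, nat_lit 3, nat_lit 2, nat_lit 1, nat_lit 0, nat_lit 3, nat_lit 4, nat_lit 3, nat_lit 2, nat_lit 1, nat_lit 3, nat_lit 2, nat_lit 3,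 nat_lit 4, nat_lit 3, nat_lit 0, nat_lit 1, nat_lit 2, nat_lit 3, nat_lit 1, nat_lit 2, nat_lit 3, nat_lit 4, nat_lit 3, nat_lit 2, nat_lit 3, nat_lit 2, nat_lit 4, nat_lit 3, nat_lit 2, nat_lit 1, nat_lit 3, nat_lit 2, nat_lit 1, nat_lit 0, nat_lit 3, nat_lit 4, nat_lit 3, nat_lit 2, nat_lit 1, nat_lit 3, nat_lit 2, nat_lit 3, nat_lit 4, nat_lit 3, nat_lit 0, nat_lit 1, nat_lit 2, nat_lit 3, nat_lit 1, nat_lit 2, nat_lit 3, nat_lit 4, nat_lit 0, nat_lit 4, nat_lit 3, nat_lit 2, nat_lit 1, nat_lit 3, nat_lit 2, nat_lit 1, nat_lit 0, nat_lit 3, nat_lit 4, nat_lit 3, nat_lit 2, nat_lit 1, nat_lit 3, nat_lit 2, nat_lit 3, nat_lit 4, nat_lit 3, nat_lit 0, nat_lit 1, nat_lit 2, nat_lit 3, nat_lit 1, nat_lit 2, nat_lit 3, nat_lit 4, nat_lit 0]), (15439, [nat_lit 2, nat_lit 3, nat_lit 7, nat_lit 4, nat_lit 5, nat_lit 1, nat_lit 2, nat_lit 3, nat_lit 4, nat_lit 1, nat_lit 2, nat_lit 0, nat_lit 1, nat_lit 6, nat_lit 2, nat_lit 3, nat_lit 4, nat_lit 2, nat_lit 3, nat_lit 0, nat_lit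 1, nat_lit 2, nat_lit 3, nat_lit 4, nat_lit 1, nat_lit 2, nat_lit 3, nat_lit 2, nat_lit 3, nat_lit 4, nat_lit 1, nat_lit 2, nat_lit 3, nat_lit 2, nat_lit 1, nat_lit 2, nat_lit 3, nat_lit 2, nat_lit 3, nat_lit 4, nat_lit 3, nat_lit 2, nat_lit 1, nat_lit 3, nat_lit 2, nat_lit 1, nat_lit 0, nat_lit 3, nat_lit 4, nat_lit 3, nat_lit 2, nat_lit 1, nat_lit 3, nat_lit 2, nat_lit 3, nat_lit 4, nat_lit 3, nat_lit 0, nat_lit 1, nat_lit 2, nat_lit 3, nat_lit 1, nat_lit 2, nat_lit 3, nat_lit 4, nat_lit 0, nat_lit 4, nat_lit 3, nat_lit 2, nat_lit 1, nat_lit 3, nat_lit 2, nat_lit 1, nat_lit 0, nat_lit 3, nat_lit 4, nat_lit 3, nat_lit 2, nat_lit 1, nat_lit 3, nat_lit 2, nat_lit 3, nat_lit 4, nat_lit 3, nat_lit 0, nat_lit 1, nat_lit 2, nat_lit 3, nat_lit 1, nat_lit 2, nat_lit 3, nat_lit 4, nat_lit 0]), (16568, [nat_lit 4, nat_lit 7, nat_lit 4, nat_lit 2, nat_lit 6, nat_lit 3, nat_lit 4, nat_lit 0, nat_lit 1, nat_lit 2, nat_lit 3, nat_lit 2, nat_lit 0, nat_lit 1, nat_lit 6, nat_lit 1,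 nat_lit 2, nat_lit 3, nat_lit 4, nat_lit 3, nat_lit 2, nat_lit 3, nat_lit 0, nat_lit 1, nat_lit 2, nat_lit 3, nat_lit 4, nat_lit 3, nat_lit 4, nat_lit 3, nat_lit 2, nat_lit 1, nat_lit 3, nat_lit 2, nat_lit 1, nat_lit 0, nat_lit 3, nat_lit 4, nat_lit 3, nat_lit 2, nat_lit 1, nat_lit 3, nat_lit 2, nat_lit 3, nat_lit 4, nat_lit 3, nat_lit 0, nat_lit 1, nat_lit 2, nat_lit 3, nat_lit 1, nat_lit 2, nat_lit 3, nat_lit 4, nat_lit 3, nat_lit 2, nat_lit 3, nat_lit 2, nat_lit 0]), (19227, [nat_lit 4, nat_lit 6, nat_lit 2, nat_lit 6, nat_lit 1, nat_lit 6, nat_lit 4, nat_lit 2, nat_lit 3, nat_lit 1, nat_lit 2, nat_lit 3, nat_lit 4, nat_lit 1, nat_lit 6, nat_lit 2, nat_lit 3, nat_lit 4, nat_lit 5, nat_lit 2, nat_lit 3, nat_lit 4, nat_lit 3, nat_lit 1, nat_lit 2, nat_lit 3, nat_lit 0, nat_lit 1, nat_lit 2, nat_lit 3, nat_lit 4, nat_lit 3, nat_lit 5, nat_lit 4, nat_lit 3, nat_lit 2, nat_lit 1, nat_lit 3, nat_lit 2, nat_lit 1, nat_lit 0, nat_lit 3, nat_lit 4, nat_lit 3, nat_lit 2, nat_lit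 1, nat_lit 3, nat_lit 2, nat_lit 3, nat_lit 4, nat_lit 3, nat_lit 0, nat_lit 1, nat_lit 2, nat_lit 3, nat_lit 1, nat_lit 2, nat_lit 3, nat_lit 4, nat_lit 0, nat_lit 4, nat_lit 3, nat_lit 2, nat_lit 1, nat_lit 3, nat_lit 2, nat_lit 1, nat_lit 0, nat_lit 3, nat_lit 4, nat_lit 3, nat_lit 2, nat_lit 1, nat_lit 3, nat_lit 2, nat_lit 3, nat_lit 4, nat_lit 3, nat_lit 0, nat_lit 1, nat_lit 2, nat_lit 3, nat_lit 1, nat_lit 2, nat_lit 3, nat_lit 4, nat_lit 0, nat_lit 4, nat_lit 3, nat_lit 2, nat_lit 1, nat_lit 3, nat_lit 2, nat_lit 1, nat_lit 0, nat_lit 3, nat_lit 4, nat_lit 3, nat_lit 2, nat_lit 1, nat_lit 3, nat_lit 2, nat_lit 3, nat_lit 4, nat_lit 3, nat_lit 0, nat_lit 1, nat_lit 2, nat_lit 3, nat_lit 1, nat_lit 2, nat_lit 3, nat_lit 4, nat_lit 0]), (21586, [nat_lit 7, nat_lit 4, nat_lit 3, nat_lit 7, nat_lit 4, nat_lit 2, nat_lit 6, nat_lit 1, nat_lit 2, nat_lit 3, nat_lit 4, nat_lit 2, nat_lit 0, nat_lit 1, nat_lit 6, nat_lit 2, nat_lit 3, nat_lit 1, nat_lit 2, nat_lit 3,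 nat_lit 4, nat_lit 1, nat_lit 2, nat_lit 0, nat_lit 1, nat_lit 3, nat_lit 2, nat_lit 3, nat_lit 2, nat_lit 4, nat_lit 3, nat_lit 2, nat_lit 1, nat_lit 3, nat_lit 2, nat_lit 1, nat_lit 0, nat_lit 3, nat_lit 4, nat_lit 3, nat_lit 2, nat_lit 1, nat_lit 3, nat_lit 2, nat_lit 3, nat_lit 4, nat_lit 3, nat_lit 0, nat_lit 1, nat_lit 2, nat_lit 3, nat_lit 1, nat_lit 2, nat_lit 3, nat_lit 4, nat_lit 0]), (22352, [nat_lit 5, nat_lit 2, nat_lit 3, nat_lit 4, nat_lit 7, nat_lit 2, nat_lit 3, nat_lit 4, nat_lit 3, nat_lit 1, nat_lit 2, nat_lit 3, nat_lit 2, nat_lit 1, nat_lit 6, nat_lit 5, nat_lit 3, nat_lit 2, nat_lit 3, nat_lit 1, nat_lit 2, nat_lit 3, nat_lit 4, nat_lit 1, nat_lit 2, nat_lit 3, nat_lit 2, nat_lit 0, nat_lit 1, nat_lit 4, nat_lit 3, nat_lit 2, nat_lit 1, nat_lit 3, nat_lit 2, nat_lit 1, nat_lit 0, nat_lit 3, nat_lit 4, nat_lit 3, nat_lit 2, nat_lit 1, nat_lit 3, nat_lit 2, nat_lit 3, nat_lit 4, nat_lit 3, nat_lit 0, nat_lit 1, nat_lit 2, nat_lit 3, nat_lit 1, nat_lit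 2, nat_lit 3, nat_lit 4, nat_lit 0, nat_lit 4, nat_lit 3, nat_lit 2, nat_lit 1, nat_lit 3, nat_lit 2, nat_lit 1, nat_lit 0, nat_lit 3, nat_lit 4, nat_lit 3, nat_lit 2, nat_lit 1, nat_lit 3, nat_lit 2, nat_lit 3, nat_lit 4, nat_lit 3, nat_lit 0, nat_lit 1, nat_lit 2, nat_lit 3, nat_lit 1, nat_lit 2, nat_lit 3, nat_lit 4, nat_lit 0]), (22524, [nat_lit 3, nat_lit 6, nat_lit 4, nat_lit 1, nat_lit 2, nat_lit 7, nat_lit 3, nat_lit 4, nat_lit 7, nat_lit 1, nat_lit 2, nat_lit 3, nat_lit 2, nat_lit 1, nat_lit 6, nat_lit 3, nat_lit 1, nat_lit 2, nat_lit 3, nat_lit 4, nat_lit 5, nat_lit 1, nat_lit 2, nat_lit 3, nat_lit 4, nat_lit 1, nat_lit 2, nat_lit 3, nat_lit 1, nat_lit 2, nat_lit 3, nat_lit 4, nat_lit 3, nat_lit 1, nat_lit 2, nat_lit 0, nat_lit 1, nat_lit 4, nat_lit 3, nat_lit 2, nat_lit 1, nat_lit 3, nat_lit 2, nat_lit 1, nat_lit 0, nat_lit 3, nat_lit 4, nat_lit 3, nat_lit 2, nat_lit 1, nat_lit 3, nat_lit 2, nat_lit 3, nat_lit 4, nat_lit 3, nat_lit 0, nat_lit 1, nat_lit 2,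 nat_lit 3, nat_lit 1, nat_lit 2, nat_lit 3, nat_lit 4, nat_lit 2, nat_lit 3, nat_lit 2, nat_lit 3, nat_lit 4, nat_lit 3, nat_lit 2, nat_lit 1, nat_lit 3, nat_lit 2, nat_lit 1, nat_lit 0, nat_lit 3, nat_lit 4, nat_lit 3, nat_lit 2, nat_lit 1, nat_lit 3, nat_lit 2, nat_lit 3, nat_lit 4, nat_lit 3, nat_lit 0, nat_lit 1, nat_lit 2, nat_lit 3, nat_lit 1, nat_lit 2, nat_lit 3, nat_lit 4, nat_lit 0]), (22629, [nat_lit 0, nat_lit 1, nat_lit 6, nat_lit 2, nat_lit 6, nat_lit 4, nat_lit 3, nat_lit 1, nat_lit 6, nat_lit 2, nat_lit 3, nat_lit 4, nat_lit 6, nat_lit 4, nat_lit 1, nat_lit 2, nat_lit 3, nat_lit 2, nat_lit 3, nat_lit 1, nat_lit 2, nat_lit 3, nat_lit 4, nat_lit 3, nat_lit 0, nat_lit 1, nat_lit 2, nat_lit 3, nat_lit 1, nat_lit 2, nat_lit 3, nat_lit 4, nat_lit 1, nat_lit 3, nat_lit 2, nat_lit 3, nat_lit 2, nat_lit 0]), (23769, [nat_lit 6, nat_lit 3, nat_lit 6, nat_lit 4, nat_lit 3, nat_lit 2, nat_lit 3, nat_lit 4, nat_lit 1, nat_lit 6, nat_lit 5, nat_lit 4, nat_lit 3, nat_lit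 2, nat_lit 3, nat_lit 0, nat_lit 1, nat_lit 2, nat_lit 3, nat_lit 4, nat_lit 5, nat_lit 3, nat_lit 2, nat_lit 3, nat_lit 4, nat_lit 1, nat_lit 2, nat_lit 1, nat_lit 4, nat_lit 3, nat_lit 2, nat_lit 1, nat_lit 3, nat_lit 2, nat_lit 1, nat_lit 0, nat_lit 3, nat_lit 4, nat_lit 3, nat_lit 2, nat_lit 1, nat_lit 3, nat_lit 2, nat_lit 3, nat_lit 4, nat_lit 3, nat_lit 0, nat_lit 1, nat_lit 2, nat_lit 3, nat_lit 1, nat_lit 2, nat_lit 3, nat_lit 4, nat_lit 0, nat_lit 4, nat_lit 3, nat_lit 2, nat_lit 1, nat_lit 3, nat_lit 2, nat_lit 1, nat_lit 0, nat_lit 3, nat_lit 4, nat_lit 3, nat_lit 2, nat_lit 1, nat_lit 3, nat_lit 2, nat_lit 3, nat_lit 4, nat_lit 3, nat_lit 0, nat_lit 1, nat_lit 2, nat_lit 3, nat_lit 1, nat_lit 2, nat_lit 3, nat_lit 4, nat_lit 0, nat_lit 4, nat_lit 3, nat_lit 2, nat_lit 1, nat_lit 3, nat_lit 2, nat_lit 1, nat_lit 0, nat_lit 3, nat_lit 4, nat_lit 3, nat_lit 2, nat_lit 1, nat_lit 3, nat_lit 2, nat_lit 3, nat_lit 4, nat_lit 3, nat_lit 0, nat_lit 1, nat_lit 2,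 nat_lit 3, nat_lit 1, nat_lit 2, nat_lit 3, nat_lit 4, nat_lit 0]), (24103, [nat_lit 4, nat_lit 2, nat_lit 3, nat_lit 6, nat_lit 1, nat_lit 2, nat_lit 7, nat_lit 3, nat_lit 4, nat_lit 3, nat_lit 2, nat_lit 0, nat_lit 1, nat_lit 6, nat_lit 0, nat_lit 1, nat_lit 2, nat_lit 3, nat_lit 0, nat_lit 1, nat_lit 2, nat_lit 3, nat_lit 4, nat_lit 3, nat_lit 2, nat_lit 3, nat_lit 0, nat_lit 1, nat_lit 2, nat_lit 3, nat_lit 4, nat_lit 2, nat_lit 3, nat_lit 1, nat_lit 2, nat_lit 1, nat_lit 5, nat_lit 4, nat_lit 3, nat_lit 2, nat_lit 1, nat_lit 3, nat_lit 2, nat_lit 1, nat_lit 0, nat_lit 3, nat_lit 4, nat_lit 3, nat_lit 2, nat_lit 1, nat_lit 3, nat_lit 2, nat_lit 3, nat_lit 4, nat_lit 3, nat_lit 0, nat_lit 1, nat_lit 2, nat_lit 3, nat_lit 1, nat_lit 2, nat_lit 3, nat_lit 4, nat_lit 0, nat_lit 4, nat_lit 3, nat_lit 2, nat_lit 1, nat_lit 3, nat_lit 2, nat_lit 1, nat_lit 0, nat_lit 3, nat_lit 4, nat_lit 3, nat_lit 2, nat_lit 1, nat_lit 3, nat_lit 2, nat_lit 3, nat_lit 4, nat_lit 3, nat_lit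 0, nat_lit 1, nat_lit 2, nat_lit 3, nat_lit 1, nat_lit 2, nat_lit 3, nat_lit 4, nat_lit 0, nat_lit 4, nat_lit 3, nat_lit 2, nat_lit 1, nat_lit 3, nat_lit 2, nat_lit 1, nat_lit 0, nat_lit 3, nat_lit 4, nat_lit 3, nat_lit 2, nat_lit 1, nat_lit 3, nat_lit 2, nat_lit 3, nat_lit 4, nat_lit 3, nat_lit 0, nat_lit 1, nat_lit 2, nat_lit 3, nat_lit 1, nat_lit 2, nat_lit 3, nat_lit 4, nat_lit 0]), (26293, [nat_lit 7, nat_lit 3, nat_lit 4, nat_lit 3, nat_lit 2, nat_lit 3, nat_lit 1, nat_lit 6, nat_lit 2, nat_lit 3, nat_lit 4, nat_lit 6, nat_lit 5, nat_lit 1, nat_lit 2, nat_lit 3, nat_lit 4, nat_lit 3, nat_lit 1, nat_lit 2, nat_lit 3, nat_lit 1, nat_lit 2, nat_lit 3, nat_lit 4, nat_lit 3, nat_lit 0, nat_lit 1, nat_lit 2, nat_lit 3, nat_lit 1, nat_lit 2, nat_lit 3, nat_lit 4, nat_lit 0, nat_lit 1, nat_lit 4, nat_lit 3, nat_lit 2, nat_lit 1, nat_lit 3, nat_lit 2, nat_lit 1, nat_lit 0, nat_lit 3, nat_lit 4, nat_lit 3, nat_lit 2, nat_lit 1, nat_lit 3, nat_lit 2, nat_lit 3, nat_lit 4,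 nat_lit 3, nat_lit 0, nat_lit 1, nat_lit 2, nat_lit 3, nat_lit 1, nat_lit 2, nat_lit 3, nat_lit 4, nat_lit 3, nat_lit 2, nat_lit 3, nat_lit 2]), (26314, [nat_lit 1, nat_lit 7, nat_lit 3, nat_lit 4, nat_lit 7, nat_lit 2, nat_lit 3, nat_lit 1, nat_lit 2, nat_lit 7, nat_lit 4, nat_lit 3, nat_lit 2, nat_lit 1, nat_lit 6, nat_lit 3, nat_lit 1, nat_lit 2, nat_lit 3, nat_lit 1, nat_lit 2, nat_lit 3, nat_lit 4, nat_lit 5, nat_lit 1, nat_lit 2, nat_lit 3, nat_lit 4, nat_lit 1, nat_lit 5, nat_lit 4, nat_lit 3, nat_lit 2, nat_lit 1, nat_lit 3, nat_lit 2, nat_lit 1, nat_lit 0, nat_lit 3, nat_lit 4, nat_lit 3, nat_lit 2, nat_lit 1, nat_lit 3, nat_lit 2, nat_lit 3, nat_lit 4, nat_lit 3, nat_lit 0, nat_lit 1, nat_lit 2, nat_lit 3, nat_lit 1, nat_lit 2, nat_lit 3, nat_lit 4, nat_lit 0]), (26635, [nat_lit 3, nat_lit 2, nat_lit 3, nat_lit 4, nat_lit 1, nat_lit 6, nat_lit 3, nat_lit 1, nat_lit 2, nat_lit 3, nat_lit 4, nat_lit 6, nat_lit 2, nat_lit 3, nat_lit 4, nat_lit 5, nat_lit 3, nat_lit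 4, nat_lit 3, nat_lit 2, nat_lit 3, nat_lit 1, nat_lit 2, nat_lit 3, nat_lit 4, nat_lit 3, nat_lit 2, nat_lit 3, nat_lit 0, nat_lit 1, nat_lit 5, nat_lit 4, nat_lit 3, nat_lit 2, nat_lit 1, nat_lit 3, nat_lit 2, nat_lit 1, nat_lit 0, nat_lit 3, nat_lit 4, nat_lit 3, nat_lit 2, nat_lit 1, nat_lit 3, nat_lit 2, nat_lit 3, nat_lit 4, nat_lit 3, nat_lit 0, nat_lit 1, nat_lit 2, nat_lit 3, nat_lit 1, nat_lit 2, nat_lit 3, nat_lit 4, nat_lit 0]), (27173, [nat_lit 2, nat_lit 1, nat_lit 6, nat_lit 3, nat_lit 2, nat_lit 3, nat_lit 4, nat_lit 2, nat_lit 3, nat_lit 2, nat_lit 1, nat_lit 6, nat_lit 4, nat_lit 3, nat_lit 2, nat_lit 3, nat_lit 0, nat_lit 1, nat_lit 2, nat_lit 3, nat_lit 4, nat_lit 5, nat_lit 2, nat_lit 3, nat_lit 1, nat_lit 2, nat_lit 3, nat_lit 4, nat_lit 1, nat_lit 0, nat_lit 4, nat_lit 3, nat_lit 2, nat_lit 1, nat_lit 3, nat_lit 2, nat_lit 1, nat_lit 0, nat_lit 3, nat_lit 4, nat_lit 3, nat_lit 2, nat_lit 1, nat_lit 3, nat_lit 2, nat_lit 3, nat_lit 4, nat_lit 3,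 nat_lit 0, nat_lit 1, nat_lit 2, nat_lit 3, nat_lit 1, nat_lit 2, nat_lit 3, nat_lit 4, nat_lit 0, nat_lit 4, nat_lit 3, nat_lit 2, nat_lit 1, nat_lit 3, nat_lit 2, nat_lit 1, nat_lit 0, nat_lit 3, nat_lit 4, nat_lit 3, nat_lit 2, nat_lit 1, nat_lit 3, nat_lit 2, nat_lit 3, nat_lit 4, nat_lit 3, nat_lit 0, nat_lit 1, nat_lit 2, nat_lit 3, nat_lit 1, nat_lit 2, nat_lit 3, nat_lit 4]), (28140, [nat_lit 1, nat_lit 7, nat_lit 1, nat_lit 2, nat_lit 3, nat_lit 2, nat_lit 3, nat_lit 4, nat_lit 3, nat_lit 6, nat_lit 1, nat_lit 2, nat_lit 6, nat_lit 1, nat_lit 6, nat_lit 4, nat_lit 5, nat_lit 3, nat_lit 2, nat_lit 3, nat_lit 4, nat_lit 1, nat_lit 2, nat_lit 3, nat_lit 2, nat_lit 3, nat_lit 4, nat_lit 5, nat_lit 3, nat_lit 1, nat_lit 2, nat_lit 3, nat_lit 4, nat_lit 0, nat_lit 1, nat_lit 4, nat_lit 3, nat_lit 2, nat_lit 1, nat_lit 3, nat_lit 2, nat_lit 1, nat_lit 0, nat_lit 3, nat_lit 4, nat_lit 3, nat_lit 2, nat_lit 1, nat_lit 3, nat_lit 2, nat_lit 3, nat_lit 4, nat_lit 3, nat_lit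 0, nat_lit 1, nat_lit 2, nat_lit 3, nat_lit 1, nat_lit 2, nat_lit 3, nat_lit 4, nat_lit 5, nat_lit 4, nat_lit 3, nat_lit 2, nat_lit 1, nat_lit 3, nat_lit 2, nat_lit 1, nat_lit 0, nat_lit 3, nat_lit 4, nat_lit 3, nat_lit 2, nat_lit 1, nat_lit 3, nat_lit 2, nat_lit 3, nat_lit 4, nat_lit 3, nat_lit 0, nat_lit 1, nat_lit 2, nat_lit 3, nat_lit 1, nat_lit 2, nat_lit 3, nat_lit 4, nat_lit 0, nat_lit 4, nat_lit 3, nat_lit 2, nat_lit 1, nat_lit 3, nat_lit 2, nat_lit 1, nat_lit 0, nat_lit 3, nat_lit 4, nat_lit 3, nat_lit 2, nat_lit 1, nat_lit 3, nat_lit 2, nat_lit 3, nat_lit 4, nat_lit 3, nat_lit 0, nat_lit 1, nat_lit 2, nat_lit 3, nat_lit 1, nat_lit 2, nat_lit 3, nat_lit 4, nat_lit 0, nat_lit 4, nat_lit 3, nat_lit 2, nat_lit 1, nat_lit 3, nat_lit 2, nat_lit 1, nat_lit 0, nat_lit 3, nat_lit 4, nat_lit 3, nat_lit 2, nat_lit 1, nat_lit 3, nat_lit 2, nat_lit 3, nat_lit 4, nat_lit 3, nat_lit 0, nat_lit 1, nat_lit 2, nat_lit 3, nat_lit 1, nat_lit 2, nat_lit 3, nat_lit 4]), (31172, [nat_lit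 2, nat_lit 6, nat_lit 1, nat_lit 2, nat_lit 7, nat_lit 3, nat_lit 2, nat_lit 6, nat_lit 4, nat_lit 1, nat_lit 2, nat_lit 3, nat_lit 2, nat_lit 1, nat_lit 6, nat_lit 5, nat_lit 4, nat_lit 1, nat_lit 2, nat_lit 3, nat_lit 2, nat_lit 3, nat_lit 1, nat_lit 2, nat_lit 3, nat_lit 4, nat_lit 5, nat_lit 2, nat_lit 3, nat_lit 4, nat_lit 1, nat_lit 2, nat_lit 3, nat_lit 1, nat_lit 2, nat_lit 1, nat_lit 4, nat_lit 3, nat_lit 2, nat_lit 1, nat_lit 3, nat_lit 2, nat_lit 1, nat_lit 0, nat_lit 3, nat_lit 4, nat_lit 3, nat_lit 2, nat_lit 1, nat_lit 3, nat_lit 2, nat_lit 3, nat_lit 4, nat_lit 3, nat_lit 0, nat_lit 1, nat_lit 2, nat_lit 3, nat_lit 1, nat_lit 2, nat_lit 3, nat_lit 4, nat_lit 5, nat_lit 4, nat_lit 3, nat_lit 2, nat_lit 1, nat_lit 3, nat_lit 2, nat_lit 1, nat_lit 0, nat_lit 3, nat_lit 4, nat_lit 3, nat_lit 2, nat_lit 1, nat_lit 3, nat_lit 2, nat_lit 3, nat_lit 4, nat_lit 3, nat_lit 0, nat_lit 1, nat_lit 2, nat_lit 3, nat_lit 1, nat_lit 2, nat_lit 3, nat_lit 4, nat_lit 0,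 nat_lit 4, nat_lit 3, nat_lit 2, nat_lit 1, nat_lit 3, nat_lit 2, nat_lit 1, nat_lit 0, nat_lit 3, nat_lit 4, nat_lit 3, nat_lit 2, nat_lit 1, nat_lit 3, nat_lit 2, nat_lit 3, nat_lit 4, nat_lit 3, nat_lit 0, nat_lit 1, nat_lit 2, nat_lit 3, nat_lit 1, nat_lit 2, nat_lit 3, nat_lit 4, nat_lit 0, nat_lit 4, nat_lit 3, nat_lit 2, nat_lit 1, nat_lit 3, nat_lit 2, nat_lit 1, nat_lit 0, nat_lit 3, nat_lit 4, nat_lit 3, nat_lit 2, nat_lit 1, nat_lit 3, nat_lit 2, nat_lit 3, nat_lit 4, nat_lit 3, nat_lit 0, nat_lit 1, nat_lit 2, nat_lit 3, nat_lit 1, nat_lit 2, nat_lit 3, nat_lit 4, nat_lit 0]), (35314, [nat_lit 2, nat_lit 1, nat_lit 7, nat_lit 3, nat_lit 1, nat_lit 2, nat_lit 6, nat_lit 4, nat_lit 3, nat_lit 1, nat_lit 2, nat_lit 3, nat_lit 6, nat_lit 4, nat_lit 6, nat_lit 3, nat_lit 4, nat_lit 0, nat_lit 1, nat_lit 2, nat_lit 3, nat_lit 2, nat_lit 3, nat_lit 4, nat_lit 1, nat_lit 2, nat_lit 3, nat_lit 1, nat_lit 2, nat_lit 3, nat_lit 1, nat_lit 2, nat_lit 3, nat_lit 4, nat_lit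 3, nat_lit 2, nat_lit 0, nat_lit 1, nat_lit 2, nat_lit 3, nat_lit 2, nat_lit 3, nat_lit 4, nat_lit 3, nat_lit 2, nat_lit 1, nat_lit 3, nat_lit 2, nat_lit 1, nat_lit 0, nat_lit 3, nat_lit 4, nat_lit 3, nat_lit 2, nat_lit 1, nat_lit 3, nat_lit 2, nat_lit 3, nat_lit 4, nat_lit 3, nat_lit 0, nat_lit 1, nat_lit 2, nat_lit 3, nat_lit 1, nat_lit 2, nat_lit 3, nat_lit 4, nat_lit 0, nat_lit 4, nat_lit 3, nat_lit 2, nat_lit 1, nat_lit 3, nat_lit 2, nat_lit 1, nat_lit 0, nat_lit 3, nat_lit 4, nat_lit 3, nat_lit 2, nat_lit 1, nat_lit 3, nat_lit 2, nat_lit 3, nat_lit 4, nat_lit 3, nat_lit 0, nat_lit 1, nat_lit 2, nat_lit 3, nat_lit 1, nat_lit 2, nat_lit 3, nat_lit 4, nat_lit 0, nat_lit 4, nat_lit 3, nat_lit 2, nat_lit 1, nat_lit 3, nat_lit 2, nat_lit 1, nat_lit 0, nat_lit 3, nat_lit 4, nat_lit 3, nat_lit 2, nat_lit 1, nat_lit 3, nat_lit 2, nat_lit 3, nat_lit 4, nat_lit 3, nat_lit 0, nat_lit 1, nat_lit 2, nat_lit 3, nat_lit 1, nat_lit 2, nat_lit 3, nat_lit 4, nat_lit 0]), (36129, [nat_lit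 6, nat_lit 4, nat_lit 7, nat_lit 3, nat_lit 2, nat_lit 1, nat_lit 7, nat_lit 4, nat_lit 2, nat_lit 3, nat_lit 2, nat_lit 3, nat_lit 4, nat_lit 6, nat_lit 4, nat_lit 3, nat_lit 0, nat_lit 1, nat_lit 2, nat_lit 3, nat_lit 4, nat_lit 2, nat_lit 3, nat_lit 2, nat_lit 3, nat_lit 4, nat_lit 1, nat_lit 2, nat_lit 3, nat_lit 2, nat_lit 3, nat_lit 4, nat_lit 1]), (36527, [nat_lit 6, nat_lit 2, nat_lit 1, nat_lit 6, nat_lit 4, nat_lit 2, nat_lit 3, nat_lit 2, nat_lit 3, nat_lit 4, nat_lit 1, nat_lit 6, nat_lit 4, nat_lit 1, nat_lit 2, nat_lit 3, nat_lit 1, nat_lit 2, nat_lit 3, nat_lit 4, nat_lit 5, nat_lit 3, nat_lit 0, nat_lit 1, nat_lit 2, nat_lit 3, nat_lit 4, nat_lit 1, nat_lit 2, nat_lit 3, nat_lit 1, nat_lit 2, nat_lit 3, nat_lit 2, nat_lit 3, nat_lit 0]), (39047, [nat_lit 6, nat_lit 2, nat_lit 3, nat_lit 6, nat_lit 1, nat_lit 2, nat_lit 3, nat_lit 4, nat_lit 3, nat_lit 2, nat_lit 3, nat_lit 0, nat_lit 1, nat_lit 6, nat_lit 3, nat_lit 0, nat_lit 1, nat_lit 2, nat_lit 3,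 nat_lit 4, nat_lit 5, nat_lit 1, nat_lit 2, nat_lit 3, nat_lit 4, nat_lit 3, nat_lit 1, nat_lit 4, nat_lit 3, nat_lit 2, nat_lit 1, nat_lit 3, nat_lit 2, nat_lit 1, nat_lit 0, nat_lit 3, nat_lit 4, nat_lit 3, nat_lit 2, nat_lit 1, nat_lit 3, nat_lit 2, nat_lit 3, nat_lit 4, nat_lit 3, nat_lit 0, nat_lit 1, nat_lit 2, nat_lit 3, nat_lit 1, nat_lit 2, nat_lit 3, nat_lit 4, nat_lit 2, nat_lit 3, nat_lit 2, nat_lit 3]), (39862, [nat_lit 4, nat_lit 6, nat_lit 1, nat_lit 2, nat_lit 3, nat_lit 4, nat_lit 2, nat_lit 3, nat_lit 7, nat_lit 1, nat_lit 2, nat_lit 3, nat_lit 4, nat_lit 6, nat_lit 0, nat_lit 1, nat_lit 2, nat_lit 3, nat_lit 1, nat_lit 2, nat_lit 3, nat_lit 4, nat_lit 3, nat_lit 2, nat_lit 3, nat_lit 1, nat_lit 2, nat_lit 3, nat_lit 4, nat_lit 3, nat_lit 2, nat_lit 3, nat_lit 0, nat_lit 1, nat_lit 4, nat_lit 3, nat_lit 2, nat_lit 1, nat_lit 3, nat_lit 2, nat_lit 1, nat_lit 0, nat_lit 3, nat_lit 4, nat_lit 3, nat_lit 2, nat_lit 1, nat_lit 3, nat_lit 2, nat_lit 3, nat_lit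 4, nat_lit 3, nat_lit 0, nat_lit 1, nat_lit 2, nat_lit 3, nat_lit 1, nat_lit 2, nat_lit 3, nat_lit 4, nat_lit 2, nat_lit 3, nat_lit 2, nat_lit 3, nat_lit 4, nat_lit 3, nat_lit 2, nat_lit 1, nat_lit 3, nat_lit 2, nat_lit 1, nat_lit 0, nat_lit 3, nat_lit 4, nat_lit 3, nat_lit 2, nat_lit 1, nat_lit 3, nat_lit 2, nat_lit 3, nat_lit 4, nat_lit 3, nat_lit 0, nat_lit 1, nat_lit 2, nat_lit 3, nat_lit 1, nat_lit 2, nat_lit 3, nat_lit 4, nat_lit 0, nat_lit 4, nat_lit 3, nat_lit 2, nat_lit 1, nat_lit 3, nat_lit 2, nat_lit 1, nat_lit 0, nat_lit 3, nat_lit 4, nat_lit 3, nat_lit 2, nat_lit 1, nat_lit 3, nat_lit 2, nat_lit 3, nat_lit 4, nat_lit 3, nat_lit 0, nat_lit 1, nat_lit 2, nat_lit 3, nat_lit 1, nat_lit 2, nat_lit 3, nat_lit 4, nat_lit 0, nat_lit 4, nat_lit 3, nat_lit 2, nat_lit 1, nat_lit 3, nat_lit 2, nat_lit 1, nat_lit 0, nat_lit 3, nat_lit 4, nat_lit 3, nat_lit 2, nat_lit 1, nat_lit 3, nat_lit 2, nat_lit 3, nat_lit 4, nat_lit 3, nat_lit 0, nat_lit 1, nat_lit 2, nat_lit 3,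 nat_lit 1, nat_lit 2, nat_lit 3, nat_lit 4]), (41540, [nat_lit 5, nat_lit 4, nat_lit 2, nat_lit 3, nat_lit 2, nat_lit 6, nat_lit 1, nat_lit 6, nat_lit 2, nat_lit 3, nat_lit 4, nat_lit 2, nat_lit 1, nat_lit 6, nat_lit 3, nat_lit 1, nat_lit 2, nat_lit 3, nat_lit 0, nat_lit 1, nat_lit 2, nat_lit 3, nat_lit 4, nat_lit 3, nat_lit 2, nat_lit 3, nat_lit 1, nat_lit 2, nat_lit 3, nat_lit 4, nat_lit 3, nat_lit 1, nat_lit 2, nat_lit 3, nat_lit 0, nat_lit 1, nat_lit 0, nat_lit 4, nat_lit 3, nat_lit 2, nat_lit 1, nat_lit 3, nat_lit 2, nat_lit 1, nat_lit 0, nat_lit 3, nat_lit 4, nat_lit 3, nat_lit 2, nat_lit 1, nat_lit 3, nat_lit 2, nat_lit 3, nat_lit 4, nat_lit 3, nat_lit 0, nat_lit 1, nat_lit 2, nat_lit 3, nat_lit 1, nat_lit 2, nat_lit 3, nat_lit 4, nat_lit 0, nat_lit 4, nat_lit 3, nat_lit 2, nat_lit 1, nat_lit 3, nat_lit 2, nat_lit 1, nat_lit 0, nat_lit 3, nat_lit 4, nat_lit 3, nat_lit 2, nat_lit 1, nat_lit 3, nat_lit 2, nat_lit 3, nat_lit 4, nat_lit 3, nat_lit 0, nat_lit 1, nat_lit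 2, nat_lit 3, nat_lit 1, nat_lit 2, nat_lit 3, nat_lit 4]), (41616, [nat_lit 2, nat_lit 3, nat_lit 6, nat_lit 4, nat_lit 3, nat_lit 1, nat_lit 2, nat_lit 3, nat_lit 6, nat_lit 4, nat_lit 3, nat_lit 2, nat_lit 1, nat_lit 6, nat_lit 5, nat_lit 4, nat_lit 3, nat_lit 0, nat_lit 1, nat_lit 2, nat_lit 3, nat_lit 4, nat_lit 2, nat_lit 3, nat_lit 2, nat_lit 3, nat_lit 1, nat_lit 2, nat_lit 3, nat_lit 4, nat_lit 3, nat_lit 1, nat_lit 4, nat_lit 3, nat_lit 2, nat_lit 1, nat_lit 3, nat_lit 2, nat_lit 1, nat_lit 0, nat_lit 3, nat_lit 4, nat_lit 3, nat_lit 2, nat_lit 1, nat_lit 3, nat_lit 2, nat_lit 3, nat_lit 4, nat_lit 3, nat_lit 0, nat_lit 1, nat_lit 2, nat_lit 3, nat_lit 1, nat_lit 2, nat_lit 3, nat_lit 4, nat_lit 3, nat_lit 2, nat_lit 3, nat_lit 2, nat_lit 4, nat_lit 3, nat_lit 2, nat_lit 1, nat_lit 3, nat_lit 2, nat_lit 1, nat_lit 0, nat_lit 3, nat_lit 4, nat_lit 3, nat_lit 2, nat_lit 1, nat_lit 3, nat_lit 2, nat_lit 3, nat_lit 4, nat_lit 3, nat_lit 0, nat_lit 1, nat_lit 2,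 nat_lit 3, nat_lit 1, nat_lit 2, nat_lit 3, nat_lit 4, nat_lit 0]), (43594, [nat_lit 4, nat_lit 0, nat_lit 1, nat_lit 2, nat_lit 3, nat_lit 6, nat_lit 4, nat_lit 1, nat_lit 2, nat_lit 3, nat_lit 0, nat_lit 1, nat_lit 2, nat_lit 1, nat_lit 6, nat_lit 2, nat_lit 3, nat_lit 1, nat_lit 2, nat_lit 3, nat_lit 1, nat_lit 2, nat_lit 3, nat_lit 4, nat_lit 3, nat_lit 1, nat_lit 2, nat_lit 3, nat_lit 1, nat_lit 2, nat_lit 3, nat_lit 4, nat_lit 3, nat_lit 0, nat_lit 1, nat_lit 2, nat_lit 0, nat_lit 1, nat_lit 4, nat_lit 3, nat_lit 2, nat_lit 1, nat_lit 3, nat_lit 2, nat_lit 1, nat_lit 0, nat_lit 3, nat_lit 4, nat_lit 3, nat_lit 2, nat_lit 1, nat_lit 3, nat_lit 2, nat_lit 3, nat_lit 4, nat_lit 3, nat_lit 0, nat_lit 1, nat_lit 2, nat_lit 3, nat_lit 1, nat_lit 2, nat_lit 3, nat_lit 4, nat_lit 5, nat_lit 4, nat_lit 3, nat_lit 2, nat_lit 1, nat_lit 3, nat_lit 2, nat_lit 1, nat_lit 0, nat_lit 3, nat_lit 4, nat_lit 3, nat_lit 2, nat_lit 1, nat_lit 3, nat_lit 2, nat_lit 3, nat_lit 4, nat_lit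 3, nat_lit 0, nat_lit 1, nat_lit 2, nat_lit 3, nat_lit 1, nat_lit 2, nat_lit 3, nat_lit 4]), (45180, [nat_lit 5, nat_lit 0, nat_lit 1, nat_lit 2, nat_lit 3, nat_lit 4, nat_lit 2, nat_lit 3, nat_lit 1, nat_lit 6, nat_lit 2, nat_lit 3, nat_lit 4, nat_lit 6, nat_lit 5, nat_lit 3, nat_lit 4, nat_lit 2, nat_lit 3, nat_lit 2, nat_lit 3, nat_lit 1, nat_lit 2, nat_lit 3, nat_lit 4, nat_lit 5, nat_lit 2, nat_lit 3, nat_lit 4, nat_lit 2, nat_lit 3, nat_lit 2, nat_lit 1, nat_lit 0, nat_lit 4, nat_lit 3, nat_lit 2, nat_lit 1, nat_lit 3, nat_lit 2, nat_lit 1, nat_lit 0, nat_lit 3, nat_lit 4, nat_lit 3, nat_lit 2, nat_lit 1, nat_lit 3, nat_lit 2, nat_lit 3, nat_lit 4, nat_lit 3, nat_lit 0, nat_lit 1, nat_lit 2, nat_lit 3, nat_lit 1, nat_lit 2, nat_lit 3, nat_lit 4, nat_lit 0, nat_lit 4, nat_lit 3, nat_lit 2, nat_lit 1, nat_lit 3, nat_lit 2, nat_lit 1, nat_lit 0, nat_lit 3, nat_lit 4, nat_lit 3, nat_lit 2, nat_lit 1, nat_lit 3, nat_lit 2, nat_lit 3, nat_lit 4, nat_lit 3, nat_lit 0,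 nat_lit 1, nat_lit 2, nat_lit 3, nat_lit 1, nat_lit 2, nat_lit 3, nat_lit 4, nat_lit 0, nat_lit 4, nat_lit 3, nat_lit 2, nat_lit 1, nat_lit 3, nat_lit 2, nat_lit 1, nat_lit 0, nat_lit 3, nat_lit 4, nat_lit 3, nat_lit 2, nat_lit 1, nat_lit 3, nat_lit 2, nat_lit 3, nat_lit 4, nat_lit 3, nat_lit 0, nat_lit 1, nat_lit 2, nat_lit 3, nat_lit 1, nat_lit 2, nat_lit 3, nat_lit 4, nat_lit 0]), (48333, [nat_lit 6, nat_lit 3, nat_lit 1, nat_lit 6, nat_lit 4, nat_lit 2, nat_lit 1, nat_lit 7, nat_lit 3, nat_lit 4, nat_lit 2, nat_lit 3, nat_lit 2, nat_lit 1, nat_lit 6, nat_lit 2, nat_lit 3, nat_lit 4, nat_lit 5, nat_lit 2, nat_lit 3, nat_lit 4, nat_lit 2, nat_lit 3, nat_lit 0, nat_lit 1, nat_lit 2, nat_lit 0, nat_lit 1, nat_lit 4, nat_lit 3, nat_lit 2, nat_lit 1, nat_lit 3, nat_lit 2, nat_lit 1, nat_lit 0, nat_lit 3, nat_lit 4, nat_lit 3, nat_lit 2, nat_lit 1, nat_lit 3, nat_lit 2, nat_lit 3, nat_lit 4, nat_lit 3, nat_lit 0, nat_lit 1, nat_lit 2, nat_lit 3, nat_lit 1, nat_lit 2, nat_lit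 3, nat_lit 4, nat_lit 5, nat_lit 4, nat_lit 3, nat_lit 2, nat_lit 1, nat_lit 3, nat_lit 2, nat_lit 1, nat_lit 0, nat_lit 3, nat_lit 4, nat_lit 3, nat_lit 2, nat_lit 1, nat_lit 3, nat_lit 2, nat_lit 3, nat_lit 4, nat_lit 3, nat_lit 0, nat_lit 1, nat_lit 2, nat_lit 3, nat_lit 1, nat_lit 2, nat_lit 3, nat_lit 4, nat_lit 0, nat_lit 4, nat_lit 3, nat_lit 2, nat_lit 1, nat_lit 3, nat_lit 2, nat_lit 1, nat_lit 0, nat_lit 3, nat_lit 4, nat_lit 3, nat_lit 2, nat_lit 1, nat_lit 3, nat_lit 2, nat_lit 3, nat_lit 4, nat_lit 3, nat_lit 0, nat_lit 1, nat_lit 2, nat_lit 3, nat_lit 1, nat_lit 2, nat_lit 3, nat_lit 4, nat_lit 0]), (48892, [nat_lit 5, nat_lit 4, nat_lit 3, nat_lit 0, nat_lit 1, nat_lit 2, nat_lit 7, nat_lit 3, nat_lit 4, nat_lit 3, nat_lit 2, nat_lit 0, nat_lit 1, nat_lit 6, nat_lit 3, nat_lit 4, nat_lit 3, nat_lit 2, nat_lit 3, nat_lit 1, nat_lit 2, nat_lit 3, nat_lit 4, nat_lit 5, nat_lit 1, nat_lit 2, nat_lit 3, nat_lit 0, nat_lit 1, nat_lit 2, nat_lit 3, nat_lit 4,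 nat_lit 3, nat_lit 1, nat_lit 2, nat_lit 3, nat_lit 0, nat_lit 1, nat_lit 4, nat_lit 3, nat_lit 2, nat_lit 1, nat_lit 3, nat_lit 2, nat_lit 1, nat_lit 0, nat_lit 3, nat_lit 4, nat_lit 3, nat_lit 2, nat_lit 1, nat_lit 3, nat_lit 2, nat_lit 3, nat_lit 4, nat_lit 3, nat_lit 0, nat_lit 1, nat_lit 2, nat_lit 3, nat_lit 1, nat_lit 2, nat_lit 3, nat_lit 4, nat_lit 0]), (48940, [nat_lit 2, nat_lit 6, nat_lit 1, nat_lit 2, nat_lit 0, nat_lit 1, nat_lit 6, nat_lit 3, nat_lit 4, nat_lit 2, nat_lit 3, nat_lit 6, nat_lit 4, nat_lit 1, nat_lit 6, nat_lit 5, nat_lit 3, nat_lit 4, nat_lit 3, nat_lit 2, nat_lit 3, nat_lit 0, nat_lit 1, nat_lit 2, nat_lit 3, nat_lit 4, nat_lit 2, nat_lit 3, nat_lit 2, nat_lit 3, nat_lit 1, nat_lit 2, nat_lit 3, nat_lit 4, nat_lit 2, nat_lit 1, nat_lit 4, nat_lit 3, nat_lit 2, nat_lit 1, nat_lit 3, nat_lit 2, nat_lit 1, nat_lit 0, nat_lit 3, nat_lit 4, nat_lit 3, nat_lit 2, nat_lit 1, nat_lit 3, nat_lit 2, nat_lit 3, nat_lit 4, nat_lit 3, nat_lit 0, nat_lit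 1, nat_lit 2, nat_lit 3, nat_lit 1, nat_lit 2, nat_lit 3, nat_lit 4, nat_lit 2, nat_lit 3, nat_lit 2, nat_lit 3, nat_lit 4, nat_lit 3, nat_lit 2, nat_lit 1, nat_lit 3, nat_lit 2, nat_lit 1, nat_lit 0, nat_lit 3, nat_lit 4, nat_lit 3, nat_lit 2, nat_lit 1, nat_lit 3, nat_lit 2, nat_lit 3, nat_lit 4, nat_lit 3, nat_lit 0, nat_lit 1, nat_lit 2, nat_lit 3, nat_lit 1, nat_lit 2, nat_lit 3, nat_lit 4, nat_lit 0, nat_lit 4, nat_lit 3, nat_lit 2, nat_lit 1, nat_lit 3, nat_lit 2, nat_lit 1, nat_lit 0, nat_lit 3, nat_lit 4, nat_lit 3, nat_lit 2, nat_lit 1, nat_lit 3, nat_lit 2, nat_lit 3, nat_lit 4, nat_lit 3, nat_lit 0, nat_lit 1, nat_lit 2, nat_lit 3, nat_lit 1, nat_lit 2, nat_lit 3, nat_lit 4, nat_lit 0, nat_lit 4, nat_lit 3, nat_lit 2, nat_lit 1, nat_lit 3, nat_lit 2, nat_lit 1, nat_lit 0, nat_lit 3, nat_lit 4, nat_lit 3, nat_lit 2, nat_lit 1, nat_lit 3, nat_lit 2, nat_lit 3, nat_lit 4, nat_lit 3, nat_lit 0, nat_lit 1, nat_lit 2, nat_lit 3, nat_lit 1, nat_lit 2, nat_lit 3,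 nat_lit 4, nat_lit 0]), (55114, [nat_lit 6, nat_lit 3, nat_lit 4, nat_lit 2, nat_lit 3, nat_lit 6, nat_lit 4, nat_lit 1, nat_lit 2, nat_lit 3, nat_lit 2, nat_lit 3, nat_lit 1, nat_lit 6, nat_lit 3, nat_lit 4, nat_lit 2, nat_lit 3, nat_lit 1, nat_lit 2, nat_lit 3, nat_lit 4, nat_lit 5, nat_lit 1, nat_lit 2, nat_lit 3, nat_lit 4, nat_lit 2, nat_lit 3, nat_lit 1, nat_lit 2, nat_lit 3, nat_lit 4, nat_lit 3, nat_lit 2, nat_lit 3, nat_lit 2, nat_lit 0]), (55235, [nat_lit 0, nat_lit 1, nat_lit 2, nat_lit 3, nat_lit 4, nat_lit 2, nat_lit 7, nat_lit 4, nat_lit 3, nat_lit 2, nat_lit 1, nat_lit 6, nat_lit 4, nat_lit 5, nat_lit 3, nat_lit 1, nat_lit 2, nat_lit 3, nat_lit 4, nat_lit 3, nat_lit 2, nat_lit 3, nat_lit 1, nat_lit 2, nat_lit 3, nat_lit 4, nat_lit 2, nat_lit 1, nat_lit 0, nat_lit 4, nat_lit 3, nat_lit 2, nat_lit 1, nat_lit 3, nat_lit 2, nat_lit 1, nat_lit 0, nat_lit 3, nat_lit 4, nat_lit 3, nat_lit 2, nat_lit 1, nat_lit 3, nat_lit 2, nat_lit 3, nat_lit 4, nat_lit 3, nat_lit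 0, nat_lit 1, nat_lit 2, nat_lit 3, nat_lit 1, nat_lit 2, nat_lit 3, nat_lit 4, nat_lit 0, nat_lit 4, nat_lit 3, nat_lit 2, nat_lit 1, nat_lit 3, nat_lit 2, nat_lit 1, nat_lit 0, nat_lit 3, nat_lit 4, nat_lit 3, nat_lit 2, nat_lit 1, nat_lit 3, nat_lit 2, nat_lit 3, nat_lit 4, nat_lit 3, nat_lit 0, nat_lit 1, nat_lit 2, nat_lit 3, nat_lit 1, nat_lit 2, nat_lit 3, nat_lit 4, nat_lit 0]), (56248, [nat_lit 4, nat_lit 1, nat_lit 7, nat_lit 2, nat_lit 3, nat_lit 6, nat_lit 4, nat_lit 2, nat_lit 3, nat_lit 1, nat_lit 2, nat_lit 3, nat_lit 4, nat_lit 6, nat_lit 5, nat_lit 4, nat_lit 0, nat_lit 1, nat_lit 2, nat_lit 3, nat_lit 2, nat_lit 3, nat_lit 4, nat_lit 3, nat_lit 0, nat_lit 1, nat_lit 2, nat_lit 3, nat_lit 1, nat_lit 2, nat_lit 3, nat_lit 4, nat_lit 0, nat_lit 1, nat_lit 4, nat_lit 3, nat_lit 2, nat_lit 1, nat_lit 3, nat_lit 2, nat_lit 1, nat_lit 0, nat_lit 3, nat_lit 4, nat_lit 3, nat_lit 2, nat_lit 1, nat_lit 3, nat_lit 2, nat_lit 3, nat_lit 4, nat_lit 3, nat_lit 0,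 nat_lit 1, nat_lit 2, nat_lit 3, nat_lit 1, nat_lit 2, nat_lit 3, nat_lit 4, nat_lit 3, nat_lit 2, nat_lit 3, nat_lit 2, nat_lit 4, nat_lit 3, nat_lit 2, nat_lit 1, nat_lit 3, nat_lit 2, nat_lit 1, nat_lit 0, nat_lit 3, nat_lit 4, nat_lit 3, nat_lit 2, nat_lit 1, nat_lit 3, nat_lit 2, nat_lit 3, nat_lit 4, nat_lit 3, nat_lit 0, nat_lit 1, nat_lit 2, nat_lit 3, nat_lit 1, nat_lit 2, nat_lit 3, nat_lit 4, nat_lit 0]), (58494, [nat_lit 5, nat_lit 1, nat_lit 2, nat_lit 3, nat_lit 4, nat_lit 2, nat_lit 3, nat_lit 2, nat_lit 7, nat_lit 4, nat_lit 3, nat_lit 2, nat_lit 1, nat_lit 6, nat_lit 3, nat_lit 4, nat_lit 1, nat_lit 2, nat_lit 3, nat_lit 2, nat_lit 3, nat_lit 4, nat_lit 1, nat_lit 2, nat_lit 3, nat_lit 2, nat_lit 3, nat_lit 4, nat_lit 5, nat_lit 1, nat_lit 2, nat_lit 3, nat_lit 4, nat_lit 3, nat_lit 2, nat_lit 3, nat_lit 4, nat_lit 3, nat_lit 2, nat_lit 1, nat_lit 3, nat_lit 2, nat_lit 1, nat_lit 0, nat_lit 3, nat_lit 4, nat_lit 3, nat_lit 2, nat_lit 1, nat_lit 3, nat_lit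 2, nat_lit 3, nat_lit 4, nat_lit 3, nat_lit 0, nat_lit 1, nat_lit 2, nat_lit 3, nat_lit 1, nat_lit 2, nat_lit 3, nat_lit 4, nat_lit 0, nat_lit 4, nat_lit 3, nat_lit 2, nat_lit 1, nat_lit 3, nat_lit 2, nat_lit 1, nat_lit 0, nat_lit 3, nat_lit 4, nat_lit 3, nat_lit 2, nat_lit 1, nat_lit 3, nat_lit 2, nat_lit 3, nat_lit 4, nat_lit 3, nat_lit 0, nat_lit 1, nat_lit 2, nat_lit 3, nat_lit 1, nat_lit 2, nat_lit 3, nat_lit 4, nat_lit 0, nat_lit 4, nat_lit 3, nat_lit 2, nat_lit 1, nat_lit 3, nat_lit 2, nat_lit 1, nat_lit 0, nat_lit 3, nat_lit 4, nat_lit 3, nat_lit 2, nat_lit 1, nat_lit 3, nat_lit 2, nat_lit 3, nat_lit 4, nat_lit 3, nat_lit 0, nat_lit 1, nat_lit 2, nat_lit 3, nat_lit 1, nat_lit 2, nat_lit 3, nat_lit 4]), (59049, [nat_lit 6, nat_lit 1, nat_lit 6, nat_lit 3, nat_lit 4, nat_lit 1, nat_lit 2, nat_lit 6, nat_lit 3, nat_lit 2, nat_lit 1, nat_lit 6, nat_lit 3, nat_lit 4, nat_lit 2, nat_lit 3, nat_lit 2, nat_lit 3, nat_lit 1, nat_lit 2, nat_lit 3, nat_lit 4, nat_lit 0,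 nat_lit 1, nat_lit 2, nat_lit 0, nat_lit 4, nat_lit 3, nat_lit 2, nat_lit 1, nat_lit 3, nat_lit 2, nat_lit 1, nat_lit 0, nat_lit 3, nat_lit 4, nat_lit 3, nat_lit 2, nat_lit 1, nat_lit 3, nat_lit 2, nat_lit 3, nat_lit 4, nat_lit 3, nat_lit 0, nat_lit 1, nat_lit 2, nat_lit 3, nat_lit 1, nat_lit 2, nat_lit 3, nat_lit 4, nat_lit 0, nat_lit 4, nat_lit 3, nat_lit 2, nat_lit 1, nat_lit 3, nat_lit 2, nat_lit 1, nat_lit 0, nat_lit 3, nat_lit 4, nat_lit 3, nat_lit 2, nat_lit 1, nat_lit 3, nat_lit 2, nat_lit 3, nat_lit 4, nat_lit 3, nat_lit 0, nat_lit 1, nat_lit 2, nat_lit 3, nat_lit 1, nat_lit 2, nat_lit 3, nat_lit 4, nat_lit 0]), (59241, [nat_lit 2, nat_lit 3, nat_lit 2, nat_lit 3, nat_lit 4, nat_lit 6, nat_lit 1, nat_lit 2, nat_lit 3, nat_lit 2, nat_lit 6, nat_lit 1, nat_lit 6, nat_lit 3, nat_lit 4, nat_lit 5, nat_lit 3, nat_lit 2, nat_lit 3, nat_lit 4, nat_lit 1, nat_lit 2, nat_lit 3, nat_lit 1, nat_lit 2, nat_lit 3, nat_lit 4, nat_lit 1, nat_lit 2, nat_lit 3, nat_lit 0, nat_lit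 1, nat_lit 2, nat_lit 0, nat_lit 1, nat_lit 2, nat_lit 3, nat_lit 2, nat_lit 3, nat_lit 4, nat_lit 3, nat_lit 2, nat_lit 1, nat_lit 3, nat_lit 2, nat_lit 1, nat_lit 0, nat_lit 3, nat_lit 4, nat_lit 3, nat_lit 2, nat_lit 1, nat_lit 3, nat_lit 2, nat_lit 3, nat_lit 4, nat_lit 3, nat_lit 0, nat_lit 1, nat_lit 2, nat_lit 3, nat_lit 1, nat_lit 2, nat_lit 3, nat_lit 4, nat_lit 0, nat_lit 4, nat_lit 3, nat_lit 2, nat_lit 1, nat_lit 3, nat_lit 2, nat_lit 1, nat_lit 0, nat_lit 3, nat_lit 4, nat_lit 3, nat_lit 2, nat_lit 1, nat_lit 3, nat_lit 2, nat_lit 3, nat_lit 4, nat_lit 3, nat_lit 0, nat_lit 1, nat_lit 2, nat_lit 3, nat_lit 1, nat_lit 2, nat_lit 3, nat_lit 4, nat_lit 0, nat_lit 4, nat_lit 3, nat_lit 2, nat_lit 1, nat_lit 3, nat_lit 2, nat_lit 1, nat_lit 0, nat_lit 3, nat_lit 4, nat_lit 3, nat_lit 2, nat_lit 1, nat_lit 3, nat_lit 2, nat_lit 3, nat_lit 4, nat_lit 3, nat_lit 0, nat_lit 1, nat_lit 2, nat_lit 3, nat_lit 1, nat_lit 2, nat_lit 3, nat_lit 4, nat_lit 0]), (59799, [nat_lit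 1, nat_lit 6, nat_lit 2, nat_lit 3, nat_lit 4, nat_lit 1, nat_lit 6, nat_lit 2, nat_lit 3, nat_lit 6, nat_lit 2, nat_lit 1, nat_lit 6, nat_lit 2, nat_lit 3, nat_lit 0, nat_lit 1, nat_lit 2, nat_lit 3, nat_lit 4, nat_lit 5, nat_lit 2, nat_lit 3, nat_lit 0, nat_lit 1, nat_lit 2, nat_lit 3, nat_lit 4, nat_lit 0, nat_lit 1, nat_lit 2, nat_lit 3, nat_lit 2, nat_lit 3, nat_lit 4, nat_lit 3, nat_lit 2, nat_lit 1, nat_lit 3, nat_lit 2, nat_lit 1, nat_lit 0, nat_lit 3, nat_lit 4, nat_lit 3, nat_lit 2, nat_lit 1, nat_lit 3, nat_lit 2, nat_lit 3, nat_lit 4, nat_lit 3, nat_lit 0, nat_lit 1, nat_lit 2, nat_lit 3, nat_lit 1, nat_lit 2, nat_lit 3, nat_lit 4, nat_lit 0, nat_lit 4, nat_lit 3, nat_lit 2, nat_lit 1, nat_lit 3, nat_lit 2, nat_lit 1, nat_lit 0, nat_lit 3, nat_lit 4, nat_lit 3, nat_lit 2, nat_lit 1, nat_lit 3, nat_lit 2, nat_lit 3, nat_lit 4, nat_lit 3, nat_lit 0, nat_lit 1, nat_lit 2, nat_lit 3, nat_lit 1, nat_lit 2, nat_lit 3, nat_lit 4, nat_lit 0, nat_lit 4, nat_lit 3,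 nat_lit 2, nat_lit 1, nat_lit 3, nat_lit 2, nat_lit 1, nat_lit 0, nat_lit 3, nat_lit 4, nat_lit 3, nat_lit 2, nat_lit 1, nat_lit 3, nat_lit 2, nat_lit 3, nat_lit 4, nat_lit 3, nat_lit 0, nat_lit 1, nat_lit 2, nat_lit 3, nat_lit 1, nat_lit 2, nat_lit 3, nat_lit 4, nat_lit 0]), (60415, [nat_lit 4, nat_lit 3, nat_lit 6, nat_lit 4, nat_lit 2, nat_lit 3, nat_lit 2, nat_lit 3, nat_lit 1, nat_lit 2, nat_lit 3, nat_lit 4, nat_lit 0, nat_lit 1, nat_lit 6, nat_lit 3, nat_lit 4, nat_lit 5, nat_lit 3, nat_lit 2, nat_lit 3, nat_lit 1, nat_lit 2, nat_lit 3, nat_lit 4, nat_lit 3, nat_lit 2, nat_lit 0, nat_lit 1, nat_lit 4, nat_lit 3, nat_lit 2, nat_lit 1, nat_lit 3, nat_lit 2, nat_lit 1, nat_lit 0, nat_lit 3, nat_lit 4, nat_lit 3, nat_lit 2, nat_lit 1, nat_lit 3, nat_lit 2, nat_lit 3, nat_lit 4, nat_lit 3, nat_lit 0, nat_lit 1, nat_lit 2, nat_lit 3, nat_lit 1, nat_lit 2, nat_lit 3, nat_lit 4, nat_lit 3, nat_lit 2, nat_lit 3, nat_lit 2, nat_lit 4, nat_lit 3, nat_lit 2, nat_lit 1, nat_lit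 3, nat_lit 2, nat_lit 1, nat_lit 0, nat_lit 3, nat_lit 4, nat_lit 3, nat_lit 2, nat_lit 1, nat_lit 3, nat_lit 2, nat_lit 3, nat_lit 4, nat_lit 3, nat_lit 0, nat_lit 1, nat_lit 2, nat_lit 3, nat_lit 1, nat_lit 2, nat_lit 3, nat_lit 4, nat_lit 0, nat_lit 4, nat_lit 3, nat_lit 2, nat_lit 1, nat_lit 3, nat_lit 2, nat_lit 1, nat_lit 0, nat_lit 3, nat_lit 4, nat_lit 3, nat_lit 2, nat_lit 1, nat_lit 3, nat_lit 2, nat_lit 3, nat_lit 4, nat_lit 3, nat_lit 0, nat_lit 1, nat_lit 2, nat_lit 3, nat_lit 1, nat_lit 2, nat_lit 3, nat_lit 4, nat_lit 0, nat_lit 4, nat_lit 3, nat_lit 2, nat_lit 1, nat_lit 3, nat_lit 2, nat_lit 1, nat_lit 0, nat_lit 3, nat_lit 4, nat_lit 3, nat_lit 2, nat_lit 1, nat_lit 3, nat_lit 2, nat_lit 3, nat_lit 4, nat_lit 3, nat_lit 0, nat_lit 1, nat_lit 2, nat_lit 3, nat_lit 1, nat_lit 2, nat_lit 3, nat_lit 4]), (61574, [nat_lit 5, nat_lit 4, nat_lit 7, nat_lit 3, nat_lit 4, nat_lit 7, nat_lit 3, nat_lit 1, nat_lit 2, nat_lit 3, nat_lit 2, nat_lit 1, nat_lit 6,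 nat_lit 4, nat_lit 2, nat_lit 3, nat_lit 1, nat_lit 2, nat_lit 3, nat_lit 4, nat_lit 5, nat_lit 2, nat_lit 3, nat_lit 4, nat_lit 1, nat_lit 2, nat_lit 3, nat_lit 0, nat_lit 1, nat_lit 5, nat_lit 4, nat_lit 3, nat_lit 2, nat_lit 1, nat_lit 3, nat_lit 2, nat_lit 1, nat_lit 0, nat_lit 3, nat_lit 4, nat_lit 3, nat_lit 2, nat_lit 1, nat_lit 3, nat_lit 2, nat_lit 3, nat_lit 4, nat_lit 3, nat_lit 0, nat_lit 1, nat_lit 2, nat_lit 3, nat_lit 1, nat_lit 2, nat_lit 3, nat_lit 4, nat_lit 0, nat_lit 4, nat_lit 3, nat_lit 2, nat_lit 1, nat_lit 3, nat_lit 2, nat_lit 1, nat_lit 0, nat_lit 3, nat_lit 4, nat_lit 3, nat_lit 2, nat_lit 1, nat_lit 3, nat_lit 2, nat_lit 3, nat_lit 4, nat_lit 3, nat_lit 0, nat_lit 1, nat_lit 2, nat_lit 3, nat_lit 1, nat_lit 2, nat_lit 3, nat_lit 4, nat_lit 0]), (61804, [nat_lit 4, nat_lit 0, nat_lit 1, nat_lit 2, nat_lit 3, nat_lit 2, nat_lit 1, nat_lit 6, nat_lit 4, nat_lit 6, nat_lit 4, nat_lit 3, nat_lit 2, nat_lit 1, nat_lit 6, nat_lit 3, nat_lit 2, nat_lit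 3, nat_lit 4, nat_lit 5, nat_lit 3, nat_lit 0, nat_lit 1, nat_lit 2, nat_lit 3, nat_lit 4, nat_lit 3, nat_lit 1, nat_lit 0, nat_lit 3, nat_lit 4, nat_lit 3, nat_lit 2, nat_lit 1, nat_lit 3, nat_lit 2, nat_lit 3, nat_lit 4, nat_lit 3, nat_lit 0, nat_lit 1, nat_lit 2, nat_lit 3, nat_lit 1, nat_lit 2, nat_lit 3, nat_lit 4, nat_lit 0]), (62571, [nat_lit 3, nat_lit 6, nat_lit 4, nat_lit 1, nat_lit 6, nat_lit 3, nat_lit 2, nat_lit 6, nat_lit 4, nat_lit 3, nat_lit 2, nat_lit 0, nat_lit 1, nat_lit 6, nat_lit 3, nat_lit 4, nat_lit 5, nat_lit 4, nat_lit 2, nat_lit 3, nat_lit 0, nat_lit 1, nat_lit 2, nat_lit 3, nat_lit 4, nat_lit 1, nat_lit 2, nat_lit 3, nat_lit 2, nat_lit 3, nat_lit 1, nat_lit 4, nat_lit 3, nat_lit 2, nat_lit 1, nat_lit 3, nat_lit 2, nat_lit 1, nat_lit 0, nat_lit 3, nat_lit 4, nat_lit 3, nat_lit 2, nat_lit 1, nat_lit 3, nat_lit 2, nat_lit 3, nat_lit 4, nat_lit 3, nat_lit 0, nat_lit 1, nat_lit 2, nat_lit 3, nat_lit 1, nat_lit 2, nat_lit 3, nat_lit 4, nat_lit 5,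 nat_lit 4, nat_lit 3, nat_lit 2, nat_lit 1, nat_lit 3, nat_lit 2, nat_lit 1, nat_lit 0, nat_lit 3, nat_lit 4, nat_lit 3, nat_lit 2, nat_lit 1, nat_lit 3, nat_lit 2, nat_lit 3, nat_lit 4, nat_lit 3, nat_lit 0, nat_lit 1, nat_lit 2, nat_lit 3, nat_lit 1, nat_lit 2, nat_lit 3, nat_lit 4, nat_lit 0]), (64009, [nat_lit 4, nat_lit 2, nat_lit 6, nat_lit 4, nat_lit 3, nat_lit 2, nat_lit 3, nat_lit 1, nat_lit 6, nat_lit 2, nat_lit 3, nat_lit 4, nat_lit 6, nat_lit 1, nat_lit 2, nat_lit 3, nat_lit 4, nat_lit 0, nat_lit 1, nat_lit 2, nat_lit 3, nat_lit 0, nat_lit 1, nat_lit 2, nat_lit 3, nat_lit 4, nat_lit 3, nat_lit 2, nat_lit 3, nat_lit 0, nat_lit 1, nat_lit 2, nat_lit 3, nat_lit 0, nat_lit 1, nat_lit 2, nat_lit 3, nat_lit 2, nat_lit 3, nat_lit 4, nat_lit 3, nat_lit 2, nat_lit 1, nat_lit 3, nat_lit 2, nat_lit 1, nat_lit 0, nat_lit 3, nat_lit 4, nat_lit 3, nat_lit 2, nat_lit 1, nat_lit 3, nat_lit 2, nat_lit 3, nat_lit 4, nat_lit 3, nat_lit 0, nat_lit 1, nat_lit 2, nat_lit 3, nat_lit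 1, nat_lit 2, nat_lit 3, nat_lit 4, nat_lit 0, nat_lit 4, nat_lit 3, nat_lit 2, nat_lit 1, nat_lit 3, nat_lit 2, nat_lit 1, nat_lit 0, nat_lit 3, nat_lit 4, nat_lit 3, nat_lit 2, nat_lit 1, nat_lit 3, nat_lit 2, nat_lit 3, nat_lit 4, nat_lit 3, nat_lit 0, nat_lit 1, nat_lit 2, nat_lit 3, nat_lit 1, nat_lit 2, nat_lit 3, nat_lit 4, nat_lit 0, nat_lit 4, nat_lit 3, nat_lit 2, nat_lit 1, nat_lit 3, nat_lit 2, nat_lit 1, nat_lit 0, nat_lit 3, nat_lit 4, nat_lit 3, nat_lit 2, nat_lit 1, nat_lit 3, nat_lit 2, nat_lit 3, nat_lit 4, nat_lit 3, nat_lit 0, nat_lit 1, nat_lit 2, nat_lit 3, nat_lit 1, nat_lit 2, nat_lit 3, nat_lit 4]), (65642, [nat_lit 2, nat_lit 6, nat_lit 4, nat_lit 3, nat_lit 2, nat_lit 3, nat_lit 1, nat_lit 6, nat_lit 2, nat_lit 3, nat_lit 4, nat_lit 6, nat_lit 4, nat_lit 5, nat_lit 3, nat_lit 4, nat_lit 1, nat_lit 2, nat_lit 3, nat_lit 2, nat_lit 3, nat_lit 1, nat_lit 2, nat_lit 3, nat_lit 4, nat_lit 5, nat_lit 3, nat_lit 1, nat_lit 3, nat_lit 2, nat_lit 1,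 nat_lit 0, nat_lit 3, nat_lit 4, nat_lit 3, nat_lit 2, nat_lit 1, nat_lit 3, nat_lit 2, nat_lit 3, nat_lit 4, nat_lit 3, nat_lit 0, nat_lit 1, nat_lit 2, nat_lit 3, nat_lit 1, nat_lit 2, nat_lit 3, nat_lit 4, nat_lit 2, nat_lit 3, nat_lit 2, nat_lit 3, nat_lit 4, nat_lit 3, nat_lit 2, nat_lit 1, nat_lit 3, nat_lit 2, nat_lit 1, nat_lit 0, nat_lit 3, nat_lit 4, nat_lit 3, nat_lit 2, nat_lit 1, nat_lit 3, nat_lit 2, nat_lit 3, nat_lit 4, nat_lit 3, nat_lit 0, nat_lit 1, nat_lit 2, nat_lit 3, nat_lit 1, nat_lit 2, nat_lit 3, nat_lit 4, nat_lit 0]), (66042, [nat_lit 3, nat_lit 4, nat_lit 2, nat_lit 1, nat_lit 7, nat_lit 3, nat_lit 1, nat_lit 2, nat_lit 3, nat_lit 4, nat_lit 1, nat_lit 2, nat_lit 1, nat_lit 6, nat_lit 3, nat_lit 4, nat_lit 5, nat_lit 1, nat_lit 2, nat_lit 3, nat_lit 4, nat_lit 0, nat_lit 1, nat_lit 2, nat_lit 3, nat_lit 0, nat_lit 1, nat_lit 2, nat_lit 3, nat_lit 4, nat_lit 3, nat_lit 0, nat_lit 1, nat_lit 2, nat_lit 0, nat_lit 1, nat_lit 0, nat_lit 4, nat_lit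 3, nat_lit 2, nat_lit 1, nat_lit 3, nat_lit 2, nat_lit 1, nat_lit 0, nat_lit 3, nat_lit 4, nat_lit 3, nat_lit 2, nat_lit 1, nat_lit 3, nat_lit 2, nat_lit 3, nat_lit 4, nat_lit 3, nat_lit 0, nat_lit 1, nat_lit 2, nat_lit 3, nat_lit 1, nat_lit 2, nat_lit 3, nat_lit 4, nat_lit 0, nat_lit 4, nat_lit 3, nat_lit 2, nat_lit 1, nat_lit 3, nat_lit 2, nat_lit 1, nat_lit 0, nat_lit 3, nat_lit 4, nat_lit 3, nat_lit 2, nat_lit 1, nat_lit 3, nat_lit 2, nat_lit 3, nat_lit 4, nat_lit 3, nat_lit 0, nat_lit 1, nat_lit 2, nat_lit 3, nat_lit 1, nat_lit 2, nat_lit 3, nat_lit 4, nat_lit 0]), (67778, [nat_lit 1, nat_lit 6, nat_lit 1, nat_lit 7, nat_lit 2, nat_lit 3, nat_lit 1, nat_lit 2, nat_lit 7, nat_lit 3, nat_lit 4, nat_lit 6, nat_lit 5, nat_lit 4, nat_lit 3, nat_lit 2, nat_lit 3, nat_lit 0, nat_lit 1, nat_lit 2, nat_lit 3, nat_lit 4, nat_lit 5, nat_lit 3, nat_lit 2, nat_lit 3, nat_lit 4, nat_lit 3, nat_lit 1, nat_lit 2, nat_lit 0, nat_lit 1, nat_lit 0, nat_lit 4, nat_lit 3, nat_lit 2,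 nat_lit 1, nat_lit 3, nat_lit 2, nat_lit 1, nat_lit 0, nat_lit 3, nat_lit 4, nat_lit 3, nat_lit 2, nat_lit 1, nat_lit 3, nat_lit 2, nat_lit 3, nat_lit 4, nat_lit 3, nat_lit 0, nat_lit 1, nat_lit 2, nat_lit 3, nat_lit 1, nat_lit 2, nat_lit 3, nat_lit 4]), (67842, [nat_lit 4, nat_lit 6, nat_lit 3, nat_lit 1, nat_lit 2, nat_lit 3, nat_lit 0, nat_lit 1, nat_lit 2, nat_lit 3, nat_lit 4, nat_lit 6, nat_lit 3, nat_lit 2, nat_lit 3, nat_lit 4, nat_lit 0, nat_lit 1, nat_lit 2, nat_lit 3, nat_lit 1, nat_lit 2, nat_lit 3, nat_lit 4, nat_lit 5, nat_lit 1, nat_lit 2, nat_lit 3, nat_lit 4, nat_lit 1, nat_lit 4, nat_lit 3, nat_lit 2, nat_lit 1, nat_lit 3, nat_lit 2, nat_lit 1, nat_lit 0, nat_lit 3, nat_lit 4, nat_lit 3, nat_lit 2, nat_lit 1, nat_lit 3, nat_lit 2, nat_lit 3, nat_lit 4, nat_lit 3, nat_lit 0, nat_lit 1, nat_lit 2, nat_lit 3, nat_lit 1, nat_lit 2, nat_lit 3, nat_lit 4, nat_lit 3, nat_lit 2, nat_lit 3, nat_lit 2]), (68559, [nat_lit 2, nat_lit 7, nat_lit 3, nat_lit 1, nat_lit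 2, nat_lit 3, nat_lit 4, nat_lit 6, nat_lit 3, nat_lit 2, nat_lit 1, nat_lit 6, nat_lit 3, nat_lit 1, nat_lit 2, nat_lit 3, nat_lit 4, nat_lit 2, nat_lit 3, nat_lit 2, nat_lit 3, nat_lit 4, nat_lit 5, nat_lit 1, nat_lit 2, nat_lit 3, nat_lit 4, nat_lit 1, nat_lit 2, nat_lit 3, nat_lit 1, nat_lit 2, nat_lit 3, nat_lit 4, nat_lit 3, nat_lit 1, nat_lit 4, nat_lit 3, nat_lit 2, nat_lit 1, nat_lit 3, nat_lit 2, nat_lit 1, nat_lit 0, nat_lit 3, nat_lit 4, nat_lit 3, nat_lit 2, nat_lit 1, nat_lit 3, nat_lit 2, nat_lit 3, nat_lit 4, nat_lit 3, nat_lit 0, nat_lit 1, nat_lit 2, nat_lit 3, nat_lit 1, nat_lit 2, nat_lit 3, nat_lit 4, nat_lit 5, nat_lit 4, nat_lit 3, nat_lit 2, nat_lit 1, nat_lit 3, nat_lit 2, nat_lit 1, nat_lit 0, nat_lit 3, nat_lit 4, nat_lit 3, nat_lit 2, nat_lit 1, nat_lit 3, nat_lit 2, nat_lit 3, nat_lit 4, nat_lit 3, nat_lit 0, nat_lit 1, nat_lit 2, nat_lit 3, nat_lit 1, nat_lit 2, nat_lit 3, nat_lit 4, nat_lit 0, nat_lit 4, nat_lit 3, nat_lit 2, nat_lit 1,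 nat_lit 3, nat_lit 2, nat_lit 1, nat_lit 0, nat_lit 3, nat_lit 4, nat_lit 3, nat_lit 2, nat_lit 1, nat_lit 3, nat_lit 2, nat_lit 3, nat_lit 4, nat_lit 3, nat_lit 0, nat_lit 1, nat_lit 2, nat_lit 3, nat_lit 1, nat_lit 2, nat_lit 3, nat_lit 4, nat_lit 0]), (69022, [nat_lit 3, nat_lit 4, nat_lit 3, nat_lit 7, nat_lit 4, nat_lit 2, nat_lit 1, nat_lit 6, nat_lit 2, nat_lit 3, nat_lit 1, nat_lit 2, nat_lit 3, nat_lit 4, nat_lit 6, nat_lit 5, nat_lit 3, nat_lit 4, nat_lit 1, nat_lit 2, nat_lit 3, nat_lit 2, nat_lit 3, nat_lit 4, nat_lit 3, nat_lit 1, nat_lit 2, nat_lit 3, nat_lit 0, nat_lit 1, nat_lit 2, nat_lit 3, nat_lit 4, nat_lit 2, nat_lit 4, nat_lit 3, nat_lit 2, nat_lit 1, nat_lit 3, nat_lit 2, nat_lit 1, nat_lit 0, nat_lit 3, nat_lit 4, nat_lit 3, nat_lit 2, nat_lit 1, nat_lit 3, nat_lit 2, nat_lit 3, nat_lit 4, nat_lit 3, nat_lit 0, nat_lit 1, nat_lit 2, nat_lit 3, nat_lit 1, nat_lit 2, nat_lit 3, nat_lit 4, nat_lit 2, nat_lit 3, nat_lit 2, nat_lit 3, nat_lit 4, nat_lit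 3, nat_lit 2, nat_lit 1, nat_lit 3, nat_lit 2, nat_lit 1, nat_lit 0, nat_lit 3, nat_lit 4, nat_lit 3, nat_lit 2, nat_lit 1, nat_lit 3, nat_lit 2, nat_lit 3, nat_lit 4, nat_lit 3, nat_lit 0, nat_lit 1, nat_lit 2, nat_lit 3, nat_lit 1, nat_lit 2, nat_lit 3, nat_lit 4, nat_lit 0, nat_lit 4, nat_lit 3, nat_lit 2, nat_lit 1, nat_lit 3, nat_lit 2, nat_lit 1, nat_lit 0, nat_lit 3, nat_lit 4, nat_lit 3, nat_lit 2, nat_lit 1, nat_lit 3, nat_lit 2, nat_lit 3, nat_lit 4, nat_lit 3, nat_lit 0, nat_lit 1, nat_lit 2, nat_lit 3, nat_lit 1, nat_lit 2, nat_lit 3, nat_lit 4, nat_lit 0, nat_lit 4, nat_lit 3, nat_lit 2, nat_lit 1, nat_lit 3, nat_lit 2, nat_lit 1, nat_lit 0, nat_lit 3, nat_lit 4, nat_lit 3, nat_lit 2, nat_lit 1, nat_lit 3, nat_lit 2, nat_lit 3, nat_lit 4, nat_lit 3, nat_lit 0, nat_lit 1, nat_lit 2, nat_lit 3, nat_lit 1, nat_lit 2, nat_lit 3, nat_lit 4]), (71858, [nat_lit 6, nat_lit 4, nat_lit 1, nat_lit 7, nat_lit 3, nat_lit 1, nat_lit 2, nat_lit 3, nat_lit 4, nat_lit 1,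 nat_lit 2, nat_lit 1, nat_lit 6, nat_lit 3, nat_lit 4, nat_lit 0, nat_lit 1, nat_lit 2, nat_lit 3, nat_lit 1, nat_lit 2, nat_lit 3, nat_lit 4, nat_lit 5, nat_lit 1, nat_lit 2, nat_lit 3, nat_lit 4, nat_lit 1, nat_lit 2, nat_lit 3, nat_lit 1, nat_lit 2, nat_lit 0, nat_lit 1, nat_lit 0, nat_lit 4, nat_lit 3, nat_lit 2, nat_lit 1, nat_lit 3, nat_lit 2, nat_lit 1, nat_lit 0, nat_lit 3, nat_lit 4, nat_lit 3, nat_lit 2, nat_lit 1, nat_lit 3, nat_lit 2, nat_lit 3, nat_lit 4, nat_lit 3, nat_lit 0, nat_lit 1, nat_lit 2, nat_lit 3, nat_lit 1, nat_lit 2, nat_lit 3, nat_lit 4]), (74433, [nat_lit 3, nat_lit 2, nat_lit 3, nat_lit 1, nat_lit 7, nat_lit 2, nat_lit 3, nat_lit 6, nat_lit 4, nat_lit 6, nat_lit 3, nat_lit 2, nat_lit 1, nat_lit 6, nat_lit 2, nat_lit 3, nat_lit 4, nat_lit 5, nat_lit 3, nat_lit 4, nat_lit 1, nat_lit 2, nat_lit 3, nat_lit 0, nat_lit 1, nat_lit 2, nat_lit 3, nat_lit 4, nat_lit 1, nat_lit 2, nat_lit 3, nat_lit 1, nat_lit 5, nat_lit 4, nat_lit 3, nat_lit 2, nat_lit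 1, nat_lit 3, nat_lit 2, nat_lit 1, nat_lit 0, nat_lit 3, nat_lit 4, nat_lit 3, nat_lit 2, nat_lit 1, nat_lit 3, nat_lit 2, nat_lit 3, nat_lit 4, nat_lit 3, nat_lit 0, nat_lit 1, nat_lit 2, nat_lit 3, nat_lit 1, nat_lit 2, nat_lit 3, nat_lit 4, nat_lit 0, nat_lit 4, nat_lit 3, nat_lit 2, nat_lit 1, nat_lit 3, nat_lit 2, nat_lit 1, nat_lit 0, nat_lit 3, nat_lit 4, nat_lit 3, nat_lit 2, nat_lit 1, nat_lit 3, nat_lit 2, nat_lit 3, nat_lit 4, nat_lit 3, nat_lit 0, nat_lit 1, nat_lit 2, nat_lit 3, nat_lit 1, nat_lit 2, nat_lit 3, nat_lit 4, nat_lit 0, nat_lit 4, nat_lit 3, nat_lit 2, nat_lit 1, nat_lit 3, nat_lit 2, nat_lit 1, nat_lit 0, nat_lit 3, nat_lit 4, nat_lit 3, nat_lit 2, nat_lit 1, nat_lit 3, nat_lit 2, nat_lit 3, nat_lit 4, nat_lit 3, nat_lit 0, nat_lit 1, nat_lit 2, nat_lit 3, nat_lit 1, nat_lit 2, nat_lit 3, nat_lit 4, nat_lit 0]), (75916, [nat_lit 6, nat_lit 3, nat_lit 1, nat_lit 6, nat_lit 4, nat_lit 2, nat_lit 7, nat_lit 3, nat_lit 2, nat_lit 1, nat_lit 6,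 nat_lit 3, nat_lit 0, nat_lit 1, nat_lit 2, nat_lit 3, nat_lit 4, nat_lit 5, nat_lit 3, nat_lit 1, nat_lit 2, nat_lit 3, nat_lit 4, nat_lit 1, nat_lit 2, nat_lit 3, nat_lit 1, nat_lit 2, nat_lit 1, nat_lit 4, nat_lit 3, nat_lit 2, nat_lit 1, nat_lit 3, nat_lit 2, nat_lit 1, nat_lit 0, nat_lit 3, nat_lit 4, nat_lit 3, nat_lit 2, nat_lit 1, nat_lit 3, nat_lit 2, nat_lit 3, nat_lit 4, nat_lit 3, nat_lit 0, nat_lit 1, nat_lit 2, nat_lit 3, nat_lit 1, nat_lit 2, nat_lit 3, nat_lit 4, nat_lit 5, nat_lit 0]), (77172, [nat_lit 3, nat_lit 2, nat_lit 7, nat_lit 4, nat_lit 1, nat_lit 6, nat_lit 4, nat_lit 2, nat_lit 3, nat_lit 2, nat_lit 1, nat_lit 6, nat_lit 5, nat_lit 4, nat_lit 1, nat_lit 2, nat_lit 3, nat_lit 1, nat_lit 2, nat_lit 3, nat_lit 4, nat_lit 3, nat_lit 2, nat_lit 3, nat_lit 1, nat_lit 2, nat_lit 3, nat_lit 4, nat_lit 2, nat_lit 5]), (77404, [nat_lit 4, nat_lit 2, nat_lit 1, nat_lit 6, nat_lit 3, nat_lit 4, nat_lit 2, nat_lit 6, nat_lit 3, nat_lit 2, nat_lit 1, nat_lit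 6, nat_lit 3, nat_lit 2, nat_lit 3, nat_lit 4, nat_lit 5, nat_lit 2, nat_lit 3, nat_lit 4, nat_lit 1, nat_lit 2, nat_lit 3, nat_lit 2, nat_lit 1, nat_lit 2, nat_lit 3, nat_lit 2, nat_lit 3]), (79768, [nat_lit 4, nat_lit 0, nat_lit 1, nat_lit 7, nat_lit 4, nat_lit 3, nat_lit 2, nat_lit 3, nat_lit 4, nat_lit 2, nat_lit 3, nat_lit 2, nat_lit 1, nat_lit 6, nat_lit 3, nat_lit 0, nat_lit 1, nat_lit 2, nat_lit 3, nat_lit 4, nat_lit 5, nat_lit 0, nat_lit 1, nat_lit 2, nat_lit 3, nat_lit 4, nat_lit 2, nat_lit 3, nat_lit 1, nat_lit 2, nat_lit 3, nat_lit 0, nat_lit 1, nat_lit 4, nat_lit 3, nat_lit 2, nat_lit 1, nat_lit 3, nat_lit 2, nat_lit 1, nat_lit 0, nat_lit 3, nat_lit 4, nat_lit 3, nat_lit 2, nat_lit 1, nat_lit 3, nat_lit 2, nat_lit 3, nat_lit 4, nat_lit 3, nat_lit 0, nat_lit 1, nat_lit 2, nat_lit 3, nat_lit 1, nat_lit 2, nat_lit 3, nat_lit 4, nat_lit 5, nat_lit 4, nat_lit 3, nat_lit 2, nat_lit 1, nat_lit 3, nat_lit 2, nat_lit 1, nat_lit 0, nat_lit 3, nat_lit 4, nat_lit 3,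 nat_lit 2, nat_lit 1, nat_lit 3, nat_lit 2, nat_lit 3, nat_lit 4, nat_lit 3, nat_lit 0, nat_lit 1, nat_lit 2, nat_lit 3, nat_lit 1, nat_lit 2, nat_lit 3, nat_lit 4, nat_lit 0]), (81408, [nat_lit 1, nat_lit 6, nat_lit 3, nat_lit 4, nat_lit 3, nat_lit 1, nat_lit 2, nat_lit 3, nat_lit 6, nat_lit 4, nat_lit 2, nat_lit 0, nat_lit 1, nat_lit 6, nat_lit 3, nat_lit 2, nat_lit 3, nat_lit 4, nat_lit 3, nat_lit 2, nat_lit 3, nat_lit 1, nat_lit 2, nat_lit 3, nat_lit 4, nat_lit 5, nat_lit 3, nat_lit 0, nat_lit 1, nat_lit 2, nat_lit 3, nat_lit 4, nat_lit 1, nat_lit 2, nat_lit 4, nat_lit 3, nat_lit 2, nat_lit 1, nat_lit 3, nat_lit 2, nat_lit 1, nat_lit 0, nat_lit 3, nat_lit 4, nat_lit 3, nat_lit 2, nat_lit 1, nat_lit 3, nat_lit 2, nat_lit 3, nat_lit 4, nat_lit 3, nat_lit 0, nat_lit 1, nat_lit 2, nat_lit 3, nat_lit 1, nat_lit 2, nat_lit 3, nat_lit 4, nat_lit 2, nat_lit 3, nat_lit 2, nat_lit 3, nat_lit 0]), (81648, [nat_lit 0, nat_lit 1, nat_lit 6, nat_lit 2, nat_lit 3, nat_lit 6, nat_lit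 1, nat_lit 2, nat_lit 7, nat_lit 3, nat_lit 4, nat_lit 1, nat_lit 6, nat_lit 4, nat_lit 5, nat_lit 3, nat_lit 4, nat_lit 1, nat_lit 2, nat_lit 3, nat_lit 2, nat_lit 3, nat_lit 4, nat_lit 1, nat_lit 2, nat_lit 3, nat_lit 2, nat_lit 3, nat_lit 1, nat_lit 4, nat_lit 3, nat_lit 2, nat_lit 1, nat_lit 3, nat_lit 2, nat_lit 1, nat_lit 0, nat_lit 3, nat_lit 4, nat_lit 3, nat_lit 2, nat_lit 1, nat_lit 3, nat_lit 2, nat_lit 3, nat_lit 4, nat_lit 3, nat_lit 0, nat_lit 1, nat_lit 2, nat_lit 3, nat_lit 1, nat_lit 2, nat_lit 3, nat_lit 4, nat_lit 3, nat_lit 2, nat_lit 3, nat_lit 2, nat_lit 4, nat_lit 3, nat_lit 2, nat_lit 1, nat_lit 3, nat_lit 2, nat_lit 1, nat_lit 0, nat_lit 3, nat_lit 4, nat_lit 3, nat_lit 2, nat_lit 1, nat_lit 3, nat_lit 2, nat_lit 3, nat_lit 4, nat_lit 3, nat_lit 0, nat_lit 1, nat_lit 2, nat_lit 3, nat_lit 1, nat_lit 2, nat_lit 3, nat_lit 4]), (82285, [nat_lit 4, nat_lit 7, nat_lit 4, nat_lit 5, nat_lit 3, nat_lit 4, nat_lit 2, nat_lit 3, nat_lit 1, nat_lit 2,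 nat_lit 6, nat_lit 3, nat_lit 4, nat_lit 6, nat_lit 0, nat_lit 1, nat_lit 2, nat_lit 3, nat_lit 4, nat_lit 5, nat_lit 0, nat_lit 1, nat_lit 2, nat_lit 3, nat_lit 4, nat_lit 0, nat_lit 1, nat_lit 2, nat_lit 3, nat_lit 1, nat_lit 2, nat_lit 3, nat_lit 2, nat_lit 3]), (83109, [nat_lit 0, nat_lit 1, nat_lit 6, nat_lit 4, nat_lit 3, nat_lit 2, nat_lit 3, nat_lit 4, nat_lit 0, nat_lit 1, nat_lit 2, nat_lit 0, nat_lit 1, nat_lit 6, nat_lit 4, nat_lit 3, nat_lit 2, nat_lit 3, nat_lit 1, nat_lit 2, nat_lit 3, nat_lit 4, nat_lit 2, nat_lit 3, nat_lit 2, nat_lit 3, nat_lit 1, nat_lit 2, nat_lit 3, nat_lit 4, nat_lit 0, nat_lit 1, nat_lit 2, nat_lit 3, nat_lit 2, nat_lit 1, nat_lit 3, nat_lit 2, nat_lit 3, nat_lit 2, nat_lit 4, nat_lit 3, nat_lit 2, nat_lit 1, nat_lit 3, nat_lit 2, nat_lit 1, nat_lit 0, nat_lit 3, nat_lit 4, nat_lit 3, nat_lit 2, nat_lit 1, nat_lit 3, nat_lit 2, nat_lit 3, nat_lit 4, nat_lit 3, nat_lit 0, nat_lit 1, nat_lit 2, nat_lit 3, nat_lit 1, nat_lit 2, nat_lit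 3, nat_lit 4, nat_lit 0]), (84647, [nat_lit 5, nat_lit 4, nat_lit 2, nat_lit 1, nat_lit 7, nat_lit 3, nat_lit 4, nat_lit 2, nat_lit 3, nat_lit 1, nat_lit 2, nat_lit 6, nat_lit 3, nat_lit 4, nat_lit 6, nat_lit 2, nat_lit 3, nat_lit 1, nat_lit 2, nat_lit 3, nat_lit 1, nat_lit 2, nat_lit 1, nat_lit 5]), (85513, [nat_lit 7, nat_lit 2, nat_lit 3, nat_lit 4, nat_lit 6, nat_lit 1, nat_lit 6, nat_lit 2, nat_lit 3, nat_lit 4, nat_lit 1, nat_lit 6, nat_lit 3, nat_lit 1, nat_lit 2, nat_lit 3, nat_lit 1, nat_lit 2, nat_lit 3, nat_lit 4, nat_lit 5, nat_lit 3, nat_lit 1, nat_lit 2, nat_lit 3, nat_lit 4, nat_lit 1, nat_lit 2, nat_lit 3, nat_lit 0, nat_lit 1, nat_lit 4, nat_lit 3, nat_lit 2, nat_lit 1, nat_lit 3, nat_lit 2, nat_lit 1, nat_lit 0, nat_lit 3, nat_lit 4, nat_lit 3, nat_lit 2, nat_lit 1, nat_lit 3, nat_lit 2, nat_lit 3, nat_lit 4, nat_lit 3, nat_lit 0, nat_lit 1, nat_lit 2, nat_lit 3, nat_lit 1, nat_lit 2, nat_lit 3, nat_lit 4, nat_lit 5, nat_lit 4, nat_lit 3, nat_lit 2,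 nat_lit 1, nat_lit 3, nat_lit 2, nat_lit 1, nat_lit 0, nat_lit 3, nat_lit 4, nat_lit 3, nat_lit 2, nat_lit 1, nat_lit 3, nat_lit 2, nat_lit 3, nat_lit 4, nat_lit 3, nat_lit 0, nat_lit 1, nat_lit 2, nat_lit 3, nat_lit 1, nat_lit 2, nat_lit 3, nat_lit 4, nat_lit 0, nat_lit 4, nat_lit 3, nat_lit 2, nat_lit 1, nat_lit 3, nat_lit 2, nat_lit 1, nat_lit 0, nat_lit 3, nat_lit 4, nat_lit 3, nat_lit 2, nat_lit 1, nat_lit 3, nat_lit 2, nat_lit 3, nat_lit 4, nat_lit 3, nat_lit 0, nat_lit 1, nat_lit 2, nat_lit 3, nat_lit 1, nat_lit 2, nat_lit 3, nat_lit 4, nat_lit 0]), (90758, [nat_lit 6, nat_lit 4, nat_lit 3, nat_lit 1, nat_lit 2, nat_lit 3, nat_lit 6, nat_lit 4, nat_lit 6, nat_lit 3, nat_lit 2, nat_lit 1, nat_lit 6, nat_lit 3, nat_lit 4, nat_lit 1, nat_lit 2, nat_lit 3, nat_lit 1, nat_lit 2, nat_lit 3, nat_lit 4, nat_lit 5, nat_lit 1, nat_lit 2, nat_lit 3, nat_lit 4, nat_lit 0, nat_lit 1, nat_lit 2, nat_lit 3, nat_lit 1, nat_lit 4, nat_lit 3, nat_lit 2, nat_lit 1, nat_lit 3, nat_lit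 2, nat_lit 1, nat_lit 0, nat_lit 3, nat_lit 4, nat_lit 3, nat_lit 2, nat_lit 1, nat_lit 3, nat_lit 2, nat_lit 3, nat_lit 4, nat_lit 3, nat_lit 0, nat_lit 1, nat_lit 2, nat_lit 3, nat_lit 1, nat_lit 2, nat_lit 3, nat_lit 4, nat_lit 0, nat_lit 4, nat_lit 3, nat_lit 2, nat_lit 1, nat_lit 3, nat_lit 2, nat_lit 1, nat_lit 0, nat_lit 3, nat_lit 4, nat_lit 3, nat_lit 2, nat_lit 1, nat_lit 3, nat_lit 2, nat_lit 3, nat_lit 4, nat_lit 3, nat_lit 0, nat_lit 1, nat_lit 2, nat_lit 3, nat_lit 1, nat_lit 2, nat_lit 3, nat_lit 4, nat_lit 0, nat_lit 4, nat_lit 3, nat_lit 2, nat_lit 1, nat_lit 3, nat_lit 2, nat_lit 1, nat_lit 0, nat_lit 3, nat_lit 4, nat_lit 3, nat_lit 2, nat_lit 1, nat_lit 3, nat_lit 2, nat_lit 3, nat_lit 4, nat_lit 3, nat_lit 0, nat_lit 1, nat_lit 2, nat_lit 3, nat_lit 1, nat_lit 2, nat_lit 3, nat_lit 4]), (90814, [nat_lit 4, nat_lit 3, nat_lit 1, nat_lit 6, nat_lit 2, nat_lit 3, nat_lit 1, nat_lit 2, nat_lit 3, nat_lit 4, nat_lit 0, nat_lit 1, nat_lit 6, nat_lit 3,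 nat_lit 4, nat_lit 3, nat_lit 2, nat_lit 3, nat_lit 1, nat_lit 2, nat_lit 3, nat_lit 4, nat_lit 5, nat_lit 3, nat_lit 1, nat_lit 2, nat_lit 3, nat_lit 4, nat_lit 0, nat_lit 1, nat_lit 4, nat_lit 3, nat_lit 2, nat_lit 1, nat_lit 3, nat_lit 2, nat_lit 1, nat_lit 0, nat_lit 3, nat_lit 4, nat_lit 3, nat_lit 2, nat_lit 1, nat_lit 3, nat_lit 2, nat_lit 3, nat_lit 4, nat_lit 3, nat_lit 0, nat_lit 1, nat_lit 2, nat_lit 3, nat_lit 1, nat_lit 2, nat_lit 3, nat_lit 4, nat_lit 3, nat_lit 2, nat_lit 3, nat_lit 2]), (91527, [nat_lit 4, nat_lit 7, nat_lit 3, nat_lit 1, nat_lit 6, nat_lit 2, nat_lit 6, nat_lit 3, nat_lit 4, nat_lit 3, nat_lit 1, nat_lit 2, nat_lit 0, nat_lit 1, nat_lit 6, nat_lit 5, nat_lit 2, nat_lit 3, nat_lit 4, nat_lit 2, nat_lit 3, nat_lit 0, nat_lit 1, nat_lit 2, nat_lit 3, nat_lit 1, nat_lit 2, nat_lit 1, nat_lit 4, nat_lit 3, nat_lit 2, nat_lit 1, nat_lit 3, nat_lit 2, nat_lit 1, nat_lit 0, nat_lit 3, nat_lit 4, nat_lit 3, nat_lit 2, nat_lit 1, nat_lit 3, nat_lit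 2, nat_lit 3, nat_lit 4, nat_lit 3, nat_lit 0, nat_lit 1, nat_lit 2, nat_lit 3, nat_lit 1, nat_lit 2, nat_lit 3, nat_lit 4, nat_lit 0, nat_lit 4, nat_lit 3, nat_lit 2, nat_lit 1, nat_lit 3, nat_lit 2, nat_lit 1, nat_lit 0, nat_lit 3, nat_lit 4, nat_lit 3, nat_lit 2, nat_lit 1, nat_lit 3, nat_lit 2, nat_lit 3, nat_lit 4, nat_lit 3, nat_lit 0, nat_lit 1, nat_lit 2, nat_lit 3, nat_lit 1, nat_lit 2, nat_lit 3, nat_lit 4, nat_lit 0, nat_lit 4, nat_lit 3, nat_lit 2, nat_lit 1, nat_lit 3, nat_lit 2, nat_lit 1, nat_lit 0, nat_lit 3, nat_lit 4, nat_lit 3, nat_lit 2, nat_lit 1, nat_lit 3, nat_lit 2, nat_lit 3, nat_lit 4, nat_lit 3, nat_lit 0, nat_lit 1, nat_lit 2, nat_lit 3, nat_lit 1, nat_lit 2, nat_lit 3, nat_lit 4, nat_lit 0]), (96064, [nat_lit 6, nat_lit 4, nat_lit 3, nat_lit 2, nat_lit 3, nat_lit 4, nat_lit 2, nat_lit 3, nat_lit 1, nat_lit 2, nat_lit 3, nat_lit 4, nat_lit 6, nat_lit 1, nat_lit 2, nat_lit 3, nat_lit 4, nat_lit 2, nat_lit 3, nat_lit 0, nat_lit 1, nat_lit 2,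 nat_lit 3, nat_lit 4, nat_lit 3, nat_lit 2, nat_lit 3, nat_lit 1, nat_lit 2, nat_lit 3, nat_lit 4, nat_lit 3, nat_lit 1, nat_lit 3, nat_lit 2, nat_lit 3, nat_lit 2, nat_lit 4, nat_lit 3, nat_lit 2, nat_lit 1, nat_lit 3, nat_lit 2, nat_lit 1, nat_lit 0, nat_lit 3, nat_lit 4, nat_lit 3, nat_lit 2, nat_lit 1, nat_lit 3, nat_lit 2, nat_lit 3, nat_lit 4, nat_lit 3, nat_lit 0, nat_lit 1, nat_lit 2, nat_lit 3, nat_lit 1, nat_lit 2, nat_lit 3, nat_lit 4, nat_lit 0, nat_lit 4, nat_lit 3, nat_lit 2, nat_lit 1, nat_lit 3, nat_lit 2, nat_lit 1, nat_lit 0, nat_lit 3, nat_lit 4, nat_lit 3, nat_lit 2, nat_lit 1, nat_lit 3, nat_lit 2, nat_lit 3, nat_lit 4, nat_lit 3, nat_lit 0, nat_lit 1, nat_lit 2, nat_lit 3, nat_lit 1, nat_lit 2, nat_lit 3, nat_lit 4, nat_lit 0, nat_lit 4, nat_lit 3, nat_lit 2, nat_lit 1, nat_lit 3, nat_lit 2, nat_lit 1, nat_lit 0, nat_lit 3, nat_lit 4, nat_lit 3, nat_lit 2, nat_lit 1, nat_lit 3, nat_lit 2, nat_lit 3, nat_lit 4, nat_lit 3, nat_lit 0, nat_lit 1, nat_lit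 2, nat_lit 3, nat_lit 1, nat_lit 2, nat_lit 3, nat_lit 4, nat_lit 0]), (97285, [nat_lit 5, nat_lit 4, nat_lit 6, nat_lit 4, nat_lit 3, nat_lit 2, nat_lit 3, nat_lit 4, nat_lit 1, nat_lit 2, nat_lit 0, nat_lit 1, nat_lit 6, nat_lit 5, nat_lit 4, nat_lit 3, nat_lit 1, nat_lit 2, nat_lit 3, nat_lit 4, nat_lit 1, nat_lit 2, nat_lit 3, nat_lit 1, nat_lit 2, nat_lit 3, nat_lit 4, nat_lit 3, nat_lit 1, nat_lit 2, nat_lit 0, nat_lit 1, nat_lit 5, nat_lit 4, nat_lit 3, nat_lit 2, nat_lit 1, nat_lit 3, nat_lit 2, nat_lit 1, nat_lit 0, nat_lit 3, nat_lit 4, nat_lit 3, nat_lit 2, nat_lit 1, nat_lit 3, nat_lit 2, nat_lit 3, nat_lit 4, nat_lit 3, nat_lit 0, nat_lit 1, nat_lit 2, nat_lit 3, nat_lit 1, nat_lit 2, nat_lit 3, nat_lit 4, nat_lit 0, nat_lit 4, nat_lit 3, nat_lit 2, nat_lit 1, nat_lit 3, nat_lit 2, nat_lit 1, nat_lit 0, nat_lit 3, nat_lit 4, nat_lit 3, nat_lit 2, nat_lit 1, nat_lit 3, nat_lit 2, nat_lit 3, nat_lit 4, nat_lit 3, nat_lit 0, nat_lit 1, nat_lit 2, nat_lit 3,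 nat_lit 1, nat_lit 2, nat_lit 3, nat_lit 4]), (97811, [nat_lit 2, nat_lit 6, nat_lit 4, nat_lit 1, nat_lit 2, nat_lit 7, nat_lit 3, nat_lit 4, nat_lit 1, nat_lit 7, nat_lit 2, nat_lit 3, nat_lit 2, nat_lit 1, nat_lit 6, nat_lit 4, nat_lit 3, nat_lit 1, nat_lit 2, nat_lit 3, nat_lit 1, nat_lit 2, nat_lit 3, nat_lit 4, nat_lit 5, nat_lit 3, nat_lit 0, nat_lit 1, nat_lit 2, nat_lit 3, nat_lit 4, nat_lit 3, nat_lit 1, nat_lit 2, nat_lit 3, nat_lit 1, nat_lit 5, nat_lit 4, nat_lit 3, nat_lit 2, nat_lit 1, nat_lit 3, nat_lit 2, nat_lit 1, nat_lit 0, nat_lit 3, nat_lit 4, nat_lit 3, nat_lit 2, nat_lit 1, nat_lit 3, nat_lit 2, nat_lit 3, nat_lit 4, nat_lit 3, nat_lit 0, nat_lit 1, nat_lit 2, nat_lit 3, nat_lit 1, nat_lit 2, nat_lit 3, nat_lit 4, nat_lit 0]), (98396, [nat_lit 4, nat_lit 6, nat_lit 4, nat_lit 2, nat_lit 3, nat_lit 7, nat_lit 4, nat_lit 1, nat_lit 2, nat_lit 3, nat_lit 2, nat_lit 1, nat_lit 6, nat_lit 0, nat_lit 1, nat_lit 2, nat_lit 3, nat_lit 4, nat_lit 2, nat_lit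 3, nat_lit 1, nat_lit 2, nat_lit 3, nat_lit 4, nat_lit 5, nat_lit 2, nat_lit 3, nat_lit 4, nat_lit 1, nat_lit 2, nat_lit 3, nat_lit 1, nat_lit 2, nat_lit 3, nat_lit 2, nat_lit 3, nat_lit 4, nat_lit 3, nat_lit 2, nat_lit 1, nat_lit 3, nat_lit 2, nat_lit 1, nat_lit 0, nat_lit 3, nat_lit 4, nat_lit 3, nat_lit 2, nat_lit 1, nat_lit 3, nat_lit 2, nat_lit 3, nat_lit 4, nat_lit 3, nat_lit 0, nat_lit 1, nat_lit 2, nat_lit 3, nat_lit 1, nat_lit 2, nat_lit 3, nat_lit 4]), (98831, [nat_lit 5, nat_lit 4, nat_lit 3, nat_lit 2, nat_lit 7, nat_lit 3, nat_lit 6, nat_lit 4, nat_lit 3, nat_lit 2, nat_lit 1, nat_lit 6, nat_lit 4, nat_lit 3, nat_lit 0, nat_lit 1, nat_lit 2, nat_lit 3, nat_lit 0, nat_lit 1, nat_lit 2, nat_lit 3, nat_lit 4, nat_lit 3, nat_lit 2, nat_lit 3, nat_lit 0, nat_lit 1, nat_lit 2, nat_lit 3, nat_lit 4, nat_lit 2, nat_lit 5, nat_lit 0]), (100842, [nat_lit 0, nat_lit 1, nat_lit 2, nat_lit 3, nat_lit 6, nat_lit 4, nat_lit 7, nat_lit 3, nat_lit 1, nat_lit 2, nat_lit 1,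 nat_lit 6, nat_lit 3, nat_lit 4, nat_lit 2, nat_lit 3, nat_lit 0, nat_lit 1, nat_lit 2, nat_lit 3, nat_lit 4, nat_lit 0, nat_lit 1, nat_lit 2, nat_lit 3, nat_lit 1, nat_lit 2, nat_lit 3, nat_lit 4, nat_lit 1, nat_lit 2, nat_lit 3, nat_lit 0, nat_lit 1, nat_lit 5, nat_lit 4, nat_lit 3, nat_lit 2, nat_lit 1, nat_lit 3, nat_lit 2, nat_lit 1, nat_lit 0, nat_lit 3, nat_lit 4, nat_lit 3, nat_lit 2, nat_lit 1, nat_lit 3, nat_lit 2, nat_lit 3, nat_lit 4, nat_lit 3, nat_lit 0, nat_lit 1, nat_lit 2, nat_lit 3, nat_lit 1, nat_lit 2, nat_lit 3, nat_lit 4, nat_lit 0, nat_lit 4, nat_lit 3, nat_lit 2, nat_lit 1, nat_lit 3, nat_lit 2, nat_lit 1, nat_lit 0, nat_lit 3, nat_lit 4, nat_lit 3, nat_lit 2, nat_lit 1, nat_lit 3, nat_lit 2, nat_lit 3, nat_lit 4, nat_lit 3, nat_lit 0, nat_lit 1, nat_lit 2, nat_lit 3, nat_lit 1, nat_lit 2, nat_lit 3, nat_lit 4, nat_lit 0]), (101761, [nat_lit 4, nat_lit 6, nat_lit 3, nat_lit 1, nat_lit 6, nat_lit 4, nat_lit 2, nat_lit 3, nat_lit 0, nat_lit 1, nat_lit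 2, nat_lit 3, nat_lit 4, nat_lit 3, nat_lit 6, nat_lit 0, nat_lit 1, nat_lit 2, nat_lit 3, nat_lit 4, nat_lit 5, nat_lit 4, nat_lit 3, nat_lit 2, nat_lit 3, nat_lit 4, nat_lit 1, nat_lit 2, nat_lit 3, nat_lit 2, nat_lit 3, nat_lit 1, nat_lit 2, nat_lit 3, nat_lit 4, nat_lit 3, nat_lit 1, nat_lit 4, nat_lit 3, nat_lit 2, nat_lit 1, nat_lit 3, nat_lit 2, nat_lit 1, nat_lit 0, nat_lit 3, nat_lit 4, nat_lit 3, nat_lit 2, nat_lit 1, nat_lit 3, nat_lit 2, nat_lit 3, nat_lit 4, nat_lit 3, nat_lit 0, nat_lit 1, nat_lit 2, nat_lit 3, nat_lit 1, nat_lit 2, nat_lit 3, nat_lit 4, nat_lit 0, nat_lit 4, nat_lit 3, nat_lit 2, nat_lit 1, nat_lit 3, nat_lit 2, nat_lit 1, nat_lit 0, nat_lit 3, nat_lit 4, nat_lit 3, nat_lit 2, nat_lit 1, nat_lit 3, nat_lit 2, nat_lit 3, nat_lit 4, nat_lit 3, nat_lit 0, nat_lit 1, nat_lit 2, nat_lit 3, nat_lit 1, nat_lit 2, nat_lit 3, nat_lit 4, nat_lit 0, nat_lit 4, nat_lit 3, nat_lit 2, nat_lit 1, nat_lit 3, nat_lit 2, nat_lit 1, nat_lit 0, nat_lit 3,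 nat_lit 4, nat_lit 3, nat_lit 2, nat_lit 1, nat_lit 3, nat_lit 2, nat_lit 3, nat_lit 4, nat_lit 3, nat_lit 0, nat_lit 1, nat_lit 2, nat_lit 3, nat_lit 1, nat_lit 2, nat_lit 3, nat_lit 4, nat_lit 0, nat_lit 4, nat_lit 3, nat_lit 2, nat_lit 1, nat_lit 3, nat_lit 2, nat_lit 1, nat_lit 0, nat_lit 3, nat_lit 4, nat_lit 3, nat_lit 2, nat_lit 1, nat_lit 3, nat_lit 2, nat_lit 3, nat_lit 4, nat_lit 3, nat_lit 0, nat_lit 1, nat_lit 2, nat_lit 3, nat_lit 1, nat_lit 2, nat_lit 3, nat_lit 4, nat_lit 0]), (102297, [nat_lit 7, nat_lit 4, nat_lit 1, nat_lit 7, nat_lit 4, nat_lit 3, nat_lit 2, nat_lit 3, nat_lit 1, nat_lit 2, nat_lit 3, nat_lit 4, nat_lit 6, nat_lit 5, nat_lit 4, nat_lit 2, nat_lit 3, nat_lit 2, nat_lit 3, nat_lit 4, nat_lit 3, nat_lit 0, nat_lit 1, nat_lit 2, nat_lit 3, nat_lit 1, nat_lit 2, nat_lit 3, nat_lit 4, nat_lit 3, nat_lit 2, nat_lit 1, nat_lit 2, nat_lit 3, nat_lit 2, nat_lit 3, nat_lit 4, nat_lit 3, nat_lit 2, nat_lit 1, nat_lit 3, nat_lit 2, nat_lit 1, nat_lit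 0, nat_lit 3, nat_lit 4, nat_lit 3, nat_lit 2, nat_lit 1, nat_lit 3, nat_lit 2, nat_lit 3, nat_lit 4, nat_lit 3, nat_lit 0, nat_lit 1, nat_lit 2, nat_lit 3, nat_lit 1, nat_lit 2, nat_lit 3, nat_lit 4, nat_lit 0, nat_lit 4, nat_lit 3, nat_lit 2, nat_lit 1, nat_lit 3, nat_lit 2, nat_lit 1, nat_lit 0, nat_lit 3, nat_lit 4, nat_lit 3, nat_lit 2, nat_lit 1, nat_lit 3, nat_lit 2, nat_lit 3, nat_lit 4, nat_lit 3, nat_lit 0, nat_lit 1, nat_lit 2, nat_lit 3, nat_lit 1, nat_lit 2, nat_lit 3, nat_lit 4]), (102911, [nat_lit 3, nat_lit 4, nat_lit 1, nat_lit 2, nat_lit 7, nat_lit 4, nat_lit 3, nat_lit 0, nat_lit 1, nat_lit 2, nat_lit 3, nat_lit 4, nat_lit 6, nat_lit 2, nat_lit 3, nat_lit 4, nat_lit 5, nat_lit 2, nat_lit 3, nat_lit 4, nat_lit 3, nat_lit 1, nat_lit 2, nat_lit 3, nat_lit 1, nat_lit 2, nat_lit 3, nat_lit 4, nat_lit 1, nat_lit 2, nat_lit 3, nat_lit 2, nat_lit 1, nat_lit 4, nat_lit 3, nat_lit 2, nat_lit 1, nat_lit 3, nat_lit 2, nat_lit 1, nat_lit 0, nat_lit 3, nat_lit 4,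 nat_lit 3, nat_lit 2, nat_lit 1, nat_lit 3, nat_lit 2, nat_lit 3, nat_lit 4, nat_lit 3, nat_lit 0, nat_lit 1, nat_lit 2, nat_lit 3, nat_lit 1, nat_lit 2, nat_lit 3, nat_lit 4, nat_lit 3, nat_lit 2, nat_lit 3, nat_lit 2, nat_lit 4, nat_lit 3, nat_lit 2, nat_lit 1, nat_lit 3, nat_lit 2, nat_lit 1, nat_lit 0, nat_lit 3, nat_lit 4, nat_lit 3, nat_lit 2, nat_lit 1, nat_lit 3, nat_lit 2, nat_lit 3, nat_lit 4, nat_lit 3, nat_lit 0, nat_lit 1, nat_lit 2, nat_lit 3, nat_lit 1, nat_lit 2, nat_lit 3, nat_lit 4, nat_lit 0, nat_lit 4, nat_lit 3, nat_lit 2, nat_lit 1, nat_lit 3, nat_lit 2, nat_lit 1, nat_lit 0, nat_lit 3, nat_lit 4, nat_lit 3, nat_lit 2, nat_lit 1, nat_lit 3, nat_lit 2, nat_lit 3, nat_lit 4, nat_lit 3, nat_lit 0, nat_lit 1, nat_lit 2, nat_lit 3, nat_lit 1, nat_lit 2, nat_lit 3, nat_lit 4, nat_lit 0]), (103092, [nat_lit 7, nat_lit 4, nat_lit 7, nat_lit 3, nat_lit 2, nat_lit 3, nat_lit 4, nat_lit 7, nat_lit 3, nat_lit 2, nat_lit 1, nat_lit 6, nat_lit 2, nat_lit 3, nat_lit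 0, nat_lit 1, nat_lit 2, nat_lit 3, nat_lit 4, nat_lit 2, nat_lit 3, nat_lit 2, nat_lit 3, nat_lit 1, nat_lit 2, nat_lit 3, nat_lit 4, nat_lit 2, nat_lit 3, nat_lit 1, nat_lit 2, nat_lit 3, nat_lit 4, nat_lit 3, nat_lit 2, nat_lit 3, nat_lit 2, nat_lit 4, nat_lit 3, nat_lit 2, nat_lit 1, nat_lit 3, nat_lit 2, nat_lit 1, nat_lit 0, nat_lit 3, nat_lit 4, nat_lit 3, nat_lit 2, nat_lit 1, nat_lit 3, nat_lit 2, nat_lit 3, nat_lit 4, nat_lit 3, nat_lit 0, nat_lit 1, nat_lit 2, nat_lit 3, nat_lit 1, nat_lit 2, nat_lit 3, nat_lit 4]), (104481, [nat_lit 1, nat_lit 7, nat_lit 4, nat_lit 2, nat_lit 6, nat_lit 3, nat_lit 4, nat_lit 1, nat_lit 2, nat_lit 6, nat_lit 3, nat_lit 2, nat_lit 1, nat_lit 6, nat_lit 2, nat_lit 3, nat_lit 2, nat_lit 3, nat_lit 1, nat_lit 2, nat_lit 3, nat_lit 4, nat_lit 2, nat_lit 3, nat_lit 0, nat_lit 1, nat_lit 2, nat_lit 0, nat_lit 1, nat_lit 3, nat_lit 2, nat_lit 3, nat_lit 2]), (105023, [nat_lit 7, nat_lit 1, nat_lit 2, nat_lit 3, nat_lit 6, nat_lit 4,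 nat_lit 1, nat_lit 2, nat_lit 3, nat_lit 2, nat_lit 6, nat_lit 1, nat_lit 6, nat_lit 2, nat_lit 3, nat_lit 2, nat_lit 3, nat_lit 4, nat_lit 3, nat_lit 1, nat_lit 2, nat_lit 3, nat_lit 0, nat_lit 1, nat_lit 2, nat_lit 3, nat_lit 4, nat_lit 5, nat_lit 3, nat_lit 2, nat_lit 3, nat_lit 4, nat_lit 1, nat_lit 2, nat_lit 3, nat_lit 0, nat_lit 1, nat_lit 5]), (105449, [nat_lit 2, nat_lit 0, nat_lit 1, nat_lit 7, nat_lit 4, nat_lit 3, nat_lit 1, nat_lit 2, nat_lit 3, nat_lit 4, nat_lit 2, nat_lit 1, nat_lit 6, nat_lit 3, nat_lit 4, nat_lit 2, nat_lit 3, nat_lit 1, nat_lit 2, nat_lit 3, nat_lit 4, nat_lit 2, nat_lit 3, nat_lit 1, nat_lit 2, nat_lit 3, nat_lit 4, nat_lit 2, nat_lit 3, nat_lit 1, nat_lit 0, nat_lit 3, nat_lit 4, nat_lit 3, nat_lit 2, nat_lit 1, nat_lit 3, nat_lit 2, nat_lit 3, nat_lit 4, nat_lit 3, nat_lit 0, nat_lit 1, nat_lit 2, nat_lit 3, nat_lit 1, nat_lit 2, nat_lit 3, nat_lit 4, nat_lit 3, nat_lit 2, nat_lit 3, nat_lit 2, nat_lit 4, nat_lit 3, nat_lit 2, nat_lit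 1, nat_lit 3, nat_lit 2, nat_lit 1, nat_lit 0, nat_lit 3, nat_lit 4, nat_lit 3, nat_lit 2, nat_lit 1, nat_lit 3, nat_lit 2, nat_lit 3, nat_lit 4, nat_lit 3, nat_lit 0, nat_lit 1, nat_lit 2, nat_lit 3, nat_lit 1, nat_lit 2, nat_lit 3, nat_lit 4, nat_lit 0]), (107411, [nat_lit 3, nat_lit 4, nat_lit 6, nat_lit 4, nat_lit 2, nat_lit 3, nat_lit 1, nat_lit 6, nat_lit 2, nat_lit 3, nat_lit 4, nat_lit 1, nat_lit 6, nat_lit 1, nat_lit 2, nat_lit 3, nat_lit 2, nat_lit 3, nat_lit 4, nat_lit 3, nat_lit 0, nat_lit 1, nat_lit 2, nat_lit 0, nat_lit 1, nat_lit 4, nat_lit 3, nat_lit 2, nat_lit 1, nat_lit 3, nat_lit 2, nat_lit 1, nat_lit 0, nat_lit 3, nat_lit 4, nat_lit 3, nat_lit 2, nat_lit 1, nat_lit 3, nat_lit 2, nat_lit 3, nat_lit 4, nat_lit 3, nat_lit 0, nat_lit 1, nat_lit 2, nat_lit 3, nat_lit 1, nat_lit 2, nat_lit 3, nat_lit 4, nat_lit 3, nat_lit 2, nat_lit 3, nat_lit 2, nat_lit 0]), (107759, [nat_lit 0, nat_lit 1, nat_lit 2, nat_lit 3, nat_lit 4, nat_lit 3, nat_lit 1, nat_lit 7,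 nat_lit 1, nat_lit 2, nat_lit 3, nat_lit 4, nat_lit 2, nat_lit 1, nat_lit 6, nat_lit 1, nat_lit 2, nat_lit 3, nat_lit 4, nat_lit 5, nat_lit 3, nat_lit 2, nat_lit 3, nat_lit 1, nat_lit 2, nat_lit 3, nat_lit 4, nat_lit 1, nat_lit 2, nat_lit 3, nat_lit 1, nat_lit 2, nat_lit 1, nat_lit 4, nat_lit 3, nat_lit 2, nat_lit 1, nat_lit 3, nat_lit 2, nat_lit 1, nat_lit 0, nat_lit 3, nat_lit 4, nat_lit 3, nat_lit 2, nat_lit 1, nat_lit 3, nat_lit 2, nat_lit 3, nat_lit 4, nat_lit 3, nat_lit 0, nat_lit 1, nat_lit 2, nat_lit 3, nat_lit 1, nat_lit 2, nat_lit 3, nat_lit 4, nat_lit 5, nat_lit 4, nat_lit 3, nat_lit 2, nat_lit 1, nat_lit 3, nat_lit 2, nat_lit 1, nat_lit 0, nat_lit 3, nat_lit 4, nat_lit 3, nat_lit 2, nat_lit 1, nat_lit 3, nat_lit 2, nat_lit 3, nat_lit 4, nat_lit 3, nat_lit 0, nat_lit 1, nat_lit 2, nat_lit 3, nat_lit 1, nat_lit 2, nat_lit 3, nat_lit 4, nat_lit 0, nat_lit 4, nat_lit 3, nat_lit 2, nat_lit 1, nat_lit 3, nat_lit 2, nat_lit 1, nat_lit 0, nat_lit 3, nat_lit 4, nat_lit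 3, nat_lit 2, nat_lit 1, nat_lit 3, nat_lit 2, nat_lit 3, nat_lit 4, nat_lit 3, nat_lit 0, nat_lit 1, nat_lit 2, nat_lit 3, nat_lit 1, nat_lit 2, nat_lit 3, nat_lit 4, nat_lit 0]), (108964, [nat_lit 5, nat_lit 0, nat_lit 1, nat_lit 2, nat_lit 3, nat_lit 4, nat_lit 7, nat_lit 1, nat_lit 2, nat_lit 3, nat_lit 4, nat_lit 2, nat_lit 1, nat_lit 6, nat_lit 5, nat_lit 3, nat_lit 4, nat_lit 1, nat_lit 2, nat_lit 3, nat_lit 2, nat_lit 3, nat_lit 1, nat_lit 2, nat_lit 3, nat_lit 4, nat_lit 2, nat_lit 3, nat_lit 1, nat_lit 2, nat_lit 3, nat_lit 1, nat_lit 2, nat_lit 3, nat_lit 4, nat_lit 1, nat_lit 4, nat_lit 3, nat_lit 2, nat_lit 1, nat_lit 3, nat_lit 2, nat_lit 1, nat_lit 0, nat_lit 3, nat_lit 4, nat_lit 3, nat_lit 2, nat_lit 1, nat_lit 3, nat_lit 2, nat_lit 3, nat_lit 4, nat_lit 3, nat_lit 0, nat_lit 1, nat_lit 2, nat_lit 3, nat_lit 1, nat_lit 2, nat_lit 3, nat_lit 4, nat_lit 5, nat_lit 4, nat_lit 3, nat_lit 2, nat_lit 1, nat_lit 3, nat_lit 2, nat_lit 1, nat_lit 0, nat_lit 3,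 nat_lit 4, nat_lit 3, nat_lit 2, nat_lit 1, nat_lit 3, nat_lit 2, nat_lit 3, nat_lit 4, nat_lit 3, nat_lit 0, nat_lit 1, nat_lit 2, nat_lit 3, nat_lit 1, nat_lit 2, nat_lit 3, nat_lit 4, nat_lit 0, nat_lit 4, nat_lit 3, nat_lit 2, nat_lit 1, nat_lit 3, nat_lit 2, nat_lit 1, nat_lit 0, nat_lit 3, nat_lit 4, nat_lit 3, nat_lit 2, nat_lit 1, nat_lit 3, nat_lit 2, nat_lit 3, nat_lit 4, nat_lit 3, nat_lit 0, nat_lit 1, nat_lit 2, nat_lit 3, nat_lit 1, nat_lit 2, nat_lit 3, nat_lit 4, nat_lit 0]), (110379, [nat_lit 2, nat_lit 3, nat_lit 2, nat_lit 1, nat_lit 7, nat_lit 4, nat_lit 7, nat_lit 3, nat_lit 2, nat_lit 3, nat_lit 4, nat_lit 6, nat_lit 0, nat_lit 1, nat_lit 2, nat_lit 3, nat_lit 4, nat_lit 3, nat_lit 2, nat_lit 3, nat_lit 1, nat_lit 2, nat_lit 3, nat_lit 4, nat_lit 3, nat_lit 2, nat_lit 3, nat_lit 1, nat_lit 2, nat_lit 1, nat_lit 0, nat_lit 4, nat_lit 3, nat_lit 2, nat_lit 1, nat_lit 3, nat_lit 2, nat_lit 1, nat_lit 0, nat_lit 3, nat_lit 4, nat_lit 3, nat_lit 2, nat_lit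 1, nat_lit 3, nat_lit 2, nat_lit 3, nat_lit 4, nat_lit 3, nat_lit 0, nat_lit 1, nat_lit 2, nat_lit 3, nat_lit 1, nat_lit 2, nat_lit 3, nat_lit 4, nat_lit 0, nat_lit 4, nat_lit 3, nat_lit 2, nat_lit 1, nat_lit 3, nat_lit 2, nat_lit 1, nat_lit 0, nat_lit 3, nat_lit 4, nat_lit 3, nat_lit 2, nat_lit 1, nat_lit 3, nat_lit 2, nat_lit 3, nat_lit 4, nat_lit 3, nat_lit 0, nat_lit 1, nat_lit 2, nat_lit 3, nat_lit 1, nat_lit 2, nat_lit 3, nat_lit 4, nat_lit 0, nat_lit 4, nat_lit 3, nat_lit 2, nat_lit 1, nat_lit 3, nat_lit 2, nat_lit 1, nat_lit 0, nat_lit 3, nat_lit 4, nat_lit 3, nat_lit 2, nat_lit 1, nat_lit 3, nat_lit 2, nat_lit 3, nat_lit 4, nat_lit 3, nat_lit 0, nat_lit 1, nat_lit 2, nat_lit 3, nat_lit 1, nat_lit 2, nat_lit 3, nat_lit 4]), (110774, [nat_lit 3, nat_lit 2, nat_lit 3, nat_lit 6, nat_lit 4, nat_lit 6, nat_lit 5, nat_lit 2, nat_lit 3, nat_lit 4, nat_lit 3, nat_lit 2, nat_lit 3, nat_lit 0, nat_lit 1, nat_lit 2, nat_lit 3, nat_lit 4, nat_lit 2, nat_lit 3, nat_lit 1,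 nat_lit 2, nat_lit 3, nat_lit 4, nat_lit 2, nat_lit 3, nat_lit 2, nat_lit 3, nat_lit 1, nat_lit 4, nat_lit 3, nat_lit 2, nat_lit 1, nat_lit 3, nat_lit 2, nat_lit 1, nat_lit 0, nat_lit 3, nat_lit 4, nat_lit 3, nat_lit 2, nat_lit 1, nat_lit 3, nat_lit 2, nat_lit 3, nat_lit 4, nat_lit 3, nat_lit 0, nat_lit 1, nat_lit 2, nat_lit 3, nat_lit 1, nat_lit 2, nat_lit 3, nat_lit 4, nat_lit 3, nat_lit 2, nat_lit 3, nat_lit 2, nat_lit 4, nat_lit 3, nat_lit 2, nat_lit 1, nat_lit 3, nat_lit 2, nat_lit 1, nat_lit 0, nat_lit 3, nat_lit 4, nat_lit 3, nat_lit 2, nat_lit 1, nat_lit 3, nat_lit 2, nat_lit 3, nat_lit 4, nat_lit 3, nat_lit 0, nat_lit 1, nat_lit 2, nat_lit 3, nat_lit 1, nat_lit 2, nat_lit 3, nat_lit 4, nat_lit 0]), (111453, [nat_lit 2, nat_lit 0, nat_lit 1, nat_lit 7, nat_lit 3, nat_lit 4, nat_lit 2, nat_lit 1, nat_lit 7, nat_lit 3, nat_lit 4, nat_lit 2, nat_lit 3, nat_lit 2, nat_lit 1, nat_lit 6, nat_lit 4, nat_lit 5, nat_lit 3, nat_lit 4, nat_lit 2, nat_lit 3, nat_lit 1, nat_lit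 2, nat_lit 3, nat_lit 4, nat_lit 2, nat_lit 3, nat_lit 1, nat_lit 2, nat_lit 3, nat_lit 4, nat_lit 3, nat_lit 0, nat_lit 1, nat_lit 4, nat_lit 3, nat_lit 2, nat_lit 1, nat_lit 3, nat_lit 2, nat_lit 1, nat_lit 0, nat_lit 3, nat_lit 4, nat_lit 3, nat_lit 2, nat_lit 1, nat_lit 3, nat_lit 2, nat_lit 3, nat_lit 4, nat_lit 3, nat_lit 0, nat_lit 1, nat_lit 2, nat_lit 3, nat_lit 1, nat_lit 2, nat_lit 3, nat_lit 4, nat_lit 5, nat_lit 4, nat_lit 3, nat_lit 2, nat_lit 1, nat_lit 3, nat_lit 2, nat_lit 1, nat_lit 0, nat_lit 3, nat_lit 4, nat_lit 3, nat_lit 2, nat_lit 1, nat_lit 3, nat_lit 2, nat_lit 3, nat_lit 4, nat_lit 3, nat_lit 0, nat_lit 1, nat_lit 2, nat_lit 3, nat_lit 1, nat_lit 2, nat_lit 3, nat_lit 4]), (111961, [nat_lit 4, nat_lit 0, nat_lit 1, nat_lit 7, nat_lit 3, nat_lit 4, nat_lit 2, nat_lit 1, nat_lit 7, nat_lit 3, nat_lit 4, nat_lit 2, nat_lit 3, nat_lit 2, nat_lit 1, nat_lit 6, nat_lit 5, nat_lit 4, nat_lit 3, nat_lit 2, nat_lit 3, nat_lit 0, nat_lit 1, nat_lit 2,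 nat_lit 3, nat_lit 4, nat_lit 5, nat_lit 0, nat_lit 1, nat_lit 2, nat_lit 3, nat_lit 4, nat_lit 2, nat_lit 3, nat_lit 1, nat_lit 2, nat_lit 1, nat_lit 3, nat_lit 2, nat_lit 3, nat_lit 2, nat_lit 4, nat_lit 3, nat_lit 2, nat_lit 1, nat_lit 3, nat_lit 2, nat_lit 1, nat_lit 0, nat_lit 3, nat_lit 4, nat_lit 3, nat_lit 2, nat_lit 1, nat_lit 3, nat_lit 2, nat_lit 3, nat_lit 4, nat_lit 3, nat_lit 0, nat_lit 1, nat_lit 2, nat_lit 3, nat_lit 1, nat_lit 2, nat_lit 3, nat_lit 4]), (113399, [nat_lit 6, nat_lit 4, nat_lit 3, nat_lit 2, nat_lit 1, nat_lit 6, nat_lit 4, nat_lit 5, nat_lit 3, nat_lit 4, nat_lit 2, nat_lit 6, nat_lit 3, nat_lit 2, nat_lit 1, nat_lit 6, nat_lit 4, nat_lit 5, nat_lit 2, nat_lit 3, nat_lit 4, nat_lit 3, nat_lit 0, nat_lit 1, nat_lit 2, nat_lit 1, nat_lit 4, nat_lit 3, nat_lit 2, nat_lit 1, nat_lit 3, nat_lit 2, nat_lit 1, nat_lit 0, nat_lit 3, nat_lit 4, nat_lit 3, nat_lit 2, nat_lit 1, nat_lit 3, nat_lit 2, nat_lit 3, nat_lit 4, nat_lit 3, nat_lit 0, nat_lit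 1, nat_lit 2, nat_lit 3, nat_lit 1, nat_lit 2, nat_lit 3, nat_lit 4, nat_lit 0, nat_lit 4, nat_lit 3, nat_lit 2, nat_lit 1, nat_lit 3, nat_lit 2, nat_lit 1, nat_lit 0, nat_lit 3, nat_lit 4, nat_lit 3, nat_lit 2, nat_lit 1, nat_lit 3, nat_lit 2, nat_lit 3, nat_lit 4, nat_lit 3, nat_lit 0, nat_lit 1, nat_lit 2, nat_lit 3, nat_lit 1, nat_lit 2, nat_lit 3, nat_lit 4, nat_lit 0, nat_lit 4, nat_lit 3, nat_lit 2, nat_lit 1, nat_lit 3, nat_lit 2, nat_lit 1, nat_lit 0, nat_lit 3, nat_lit 4, nat_lit 3, nat_lit 2, nat_lit 1, nat_lit 3, nat_lit 2, nat_lit 3, nat_lit 4, nat_lit 3, nat_lit 0, nat_lit 1, nat_lit 2, nat_lit 3, nat_lit 1, nat_lit 2, nat_lit 3, nat_lit 4]), (114030, [nat_lit 6, nat_lit 2, nat_lit 3, nat_lit 2, nat_lit 1, nat_lit 6, nat_lit 4, nat_lit 6, nat_lit 3, nat_lit 2, nat_lit 3, nat_lit 4, nat_lit 0, nat_lit 1, nat_lit 6, nat_lit 4, nat_lit 3, nat_lit 0, nat_lit 1, nat_lit 2, nat_lit 3, nat_lit 4, nat_lit 0, nat_lit 1, nat_lit 2, nat_lit 3, nat_lit 2, nat_lit 3,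 nat_lit 4, nat_lit 1, nat_lit 2, nat_lit 1, nat_lit 4, nat_lit 3, nat_lit 2, nat_lit 1, nat_lit 3, nat_lit 2, nat_lit 1, nat_lit 0, nat_lit 3, nat_lit 4, nat_lit 3, nat_lit 2, nat_lit 1, nat_lit 3, nat_lit 2, nat_lit 3, nat_lit 4, nat_lit 3, nat_lit 0, nat_lit 1, nat_lit 2, nat_lit 3, nat_lit 1, nat_lit 2, nat_lit 3, nat_lit 4, nat_lit 3, nat_lit 2, nat_lit 3, nat_lit 2, nat_lit 0]), (114168, [nat_lit 3, nat_lit 1, nat_lit 6, nat_lit 4, nat_lit 2, nat_lit 3, nat_lit 2, nat_lit 3, nat_lit 4, nat_lit 1, nat_lit 6, nat_lit 5, nat_lit 4, nat_lit 3, nat_lit 1, nat_lit 2, nat_lit 3, nat_lit 4, nat_lit 5, nat_lit 3, nat_lit 2, nat_lit 3, nat_lit 1, nat_lit 2, nat_lit 3, nat_lit 4, nat_lit 3, nat_lit 2, nat_lit 0, nat_lit 1, nat_lit 0, nat_lit 4, nat_lit 3, nat_lit 2, nat_lit 1, nat_lit 3, nat_lit 2, nat_lit 1, nat_lit 0, nat_lit 3, nat_lit 4, nat_lit 3, nat_lit 2, nat_lit 1, nat_lit 3, nat_lit 2, nat_lit 3, nat_lit 4, nat_lit 3, nat_lit 0, nat_lit 1, nat_lit 2, nat_lit 3, nat_lit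 1, nat_lit 2, nat_lit 3, nat_lit 4, nat_lit 0, nat_lit 4, nat_lit 3, nat_lit 2, nat_lit 1, nat_lit 3, nat_lit 2, nat_lit 1, nat_lit 0, nat_lit 3, nat_lit 4, nat_lit 3, nat_lit 2, nat_lit 1, nat_lit 3, nat_lit 2, nat_lit 3, nat_lit 4, nat_lit 3, nat_lit 0, nat_lit 1, nat_lit 2, nat_lit 3, nat_lit 1, nat_lit 2, nat_lit 3, nat_lit 4, nat_lit 0]), (118682, [nat_lit 1, nat_lit 6, nat_lit 2, nat_lit 1, nat_lit 6, nat_lit 3, nat_lit 4, nat_lit 2, nat_lit 3, nat_lit 2, nat_lit 7, nat_lit 1, nat_lit 6, nat_lit 5, nat_lit 4, nat_lit 3, nat_lit 1, nat_lit 2, nat_lit 3, nat_lit 4, nat_lit 0, nat_lit 1, nat_lit 2, nat_lit 3, nat_lit 2, nat_lit 3, nat_lit 4, nat_lit 5, nat_lit 1, nat_lit 2, nat_lit 3, nat_lit 4, nat_lit 0, nat_lit 1, nat_lit 2, nat_lit 4, nat_lit 3, nat_lit 2, nat_lit 1, nat_lit 3, nat_lit 2, nat_lit 1, nat_lit 0, nat_lit 3, nat_lit 4, nat_lit 3, nat_lit 2, nat_lit 1, nat_lit 3, nat_lit 2, nat_lit 3, nat_lit 4, nat_lit 3, nat_lit 0, nat_lit 1, nat_lit 2, nat_lit 3,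 nat_lit 1, nat_lit 2, nat_lit 3, nat_lit 4, nat_lit 3, nat_lit 2, nat_lit 3, nat_lit 2, nat_lit 4, nat_lit 3, nat_lit 2, nat_lit 1, nat_lit 3, nat_lit 2, nat_lit 1, nat_lit 0, nat_lit 3, nat_lit 4, nat_lit 3, nat_lit 2, nat_lit 1, nat_lit 3, nat_lit 2, nat_lit 3, nat_lit 4, nat_lit 3, nat_lit 0, nat_lit 1, nat_lit 2, nat_lit 3, nat_lit 1, nat_lit 2, nat_lit 3, nat_lit 4, nat_lit 0, nat_lit 4, nat_lit 3, nat_lit 2, nat_lit 1, nat_lit 3, nat_lit 2, nat_lit 1, nat_lit 0, nat_lit 3, nat_lit 4, nat_lit 3, nat_lit 2, nat_lit 1, nat_lit 3, nat_lit 2, nat_lit 3, nat_lit 4, nat_lit 3, nat_lit 0, nat_lit 1, nat_lit 2, nat_lit 3, nat_lit 1, nat_lit 2, nat_lit 3, nat_lit 4, nat_lit 0, nat_lit 4, nat_lit 3, nat_lit 2, nat_lit 1, nat_lit 3, nat_lit 2, nat_lit 1, nat_lit 0, nat_lit 3, nat_lit 4, nat_lit 3, nat_lit 2, nat_lit 1, nat_lit 3, nat_lit 2, nat_lit 3, nat_lit 4, nat_lit 3, nat_lit 0, nat_lit 1, nat_lit 2, nat_lit 3, nat_lit 1, nat_lit 2, nat_lit 3, nat_lit 4, nat_lit 0]), (118705,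 [nat_lit 7, nat_lit 4, nat_lit 3, nat_lit 6, nat_lit 4, nat_lit 2, nat_lit 3, nat_lit 0, nat_lit 1, nat_lit 2, nat_lit 3, nat_lit 4, nat_lit 0, nat_lit 1, nat_lit 6, nat_lit 4, nat_lit 5, nat_lit 3, nat_lit 2, nat_lit 3, nat_lit 4, nat_lit 3, nat_lit 2, nat_lit 3, nat_lit 0, nat_lit 1, nat_lit 2, nat_lit 3, nat_lit 4, nat_lit 5, nat_lit 2, nat_lit 3, nat_lit 4, nat_lit 2, nat_lit 1, nat_lit 0, nat_lit 4, nat_lit 3, nat_lit 2, nat_lit 1, nat_lit 3, nat_lit 2, nat_lit 1, nat_lit 0, nat_lit 3, nat_lit 4, nat_lit 3, nat_lit 2, nat_lit 1, nat_lit 3, nat_lit 2, nat_lit 3, nat_lit 4, nat_lit 3, nat_lit 0, nat_lit 1, nat_lit 2, nat_lit 3, nat_lit 1, nat_lit 2, nat_lit 3, nat_lit 4, nat_lit 0, nat_lit 4, nat_lit 3, nat_lit 2, nat_lit 1, nat_lit 3, nat_lit 2, nat_lit 1, nat_lit 0, nat_lit 3, nat_lit 4, nat_lit 3, nat_lit 2, nat_lit 1, nat_lit 3, nat_lit 2, nat_lit 3, nat_lit 4, nat_lit 3, nat_lit 0, nat_lit 1, nat_lit 2, nat_lit 3, nat_lit 1, nat_lit 2, nat_lit 3, nat_lit 4, nat_lit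 0]), (118873, [nat_lit 2, nat_lit 3, nat_lit 4, nat_lit 6, nat_lit 4, nat_lit 3, nat_lit 2, nat_lit 3, nat_lit 1, nat_lit 2, nat_lit 3, nat_lit 4, nat_lit 0, nat_lit 1, nat_lit 6, nat_lit 1, nat_lit 2, nat_lit 3, nat_lit 4, nat_lit 1, nat_lit 2, nat_lit 3, nat_lit 2, nat_lit 3, nat_lit 4, nat_lit 1, nat_lit 2, nat_lit 3, nat_lit 2, nat_lit 3, nat_lit 1, nat_lit 2, nat_lit 3, nat_lit 4, nat_lit 2, nat_lit 3, nat_lit 2, nat_lit 3, nat_lit 4, nat_lit 3, nat_lit 2, nat_lit 1, nat_lit 3, nat_lit 2, nat_lit 1, nat_lit 0, nat_lit 3, nat_lit 4, nat_lit 3, nat_lit 2, nat_lit 1, nat_lit 3, nat_lit 2, nat_lit 3, nat_lit 4, nat_lit 3, nat_lit 0, nat_lit 1, nat_lit 2, nat_lit 3, nat_lit 1, nat_lit 2, nat_lit 3, nat_lit 4, nat_lit 0, nat_lit 4, nat_lit 3, nat_lit 2, nat_lit 1, nat_lit 3, nat_lit 2, nat_lit 1, nat_lit 0, nat_lit 3, nat_lit 4, nat_lit 3, nat_lit 2, nat_lit 1, nat_lit 3, nat_lit 2, nat_lit 3, nat_lit 4, nat_lit 3, nat_lit 0, nat_lit 1, nat_lit 2, nat_lit 3, nat_lit 1,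 nat_lit 2, nat_lit 3, nat_lit 4]), (119523, [nat_lit 5, nat_lit 3, nat_lit 2, nat_lit 3, nat_lit 4, nat_lit 1, nat_lit 6, nat_lit 3, nat_lit 2, nat_lit 3, nat_lit 4, nat_lit 1, nat_lit 6, nat_lit 5, nat_lit 4, nat_lit 2, nat_lit 3, nat_lit 0, nat_lit 1, nat_lit 2, nat_lit 3, nat_lit 4, nat_lit 5, nat_lit 0, nat_lit 1, nat_lit 2, nat_lit 3, nat_lit 4, nat_lit 0, nat_lit 1, nat_lit 2, nat_lit 3, nat_lit 1, nat_lit 2, nat_lit 1, nat_lit 4, nat_lit 3, nat_lit 2, nat_lit 1, nat_lit 3, nat_lit 2, nat_lit 1, nat_lit 0, nat_lit 3, nat_lit 4, nat_lit 3, nat_lit 2, nat_lit 1, nat_lit 3, nat_lit 2, nat_lit 3, nat_lit 4, nat_lit 3, nat_lit 0, nat_lit 1, nat_lit 2, nat_lit 3, nat_lit 1, nat_lit 2, nat_lit 3, nat_lit 4, nat_lit 5, nat_lit 4, nat_lit 3, nat_lit 2, nat_lit 1, nat_lit 3, nat_lit 2, nat_lit 1, nat_lit 0, nat_lit 3, nat_lit 4, nat_lit 3, nat_lit 2, nat_lit 1, nat_lit 3, nat_lit 2, nat_lit 3, nat_lit 4, nat_lit 3, nat_lit 0, nat_lit 1, nat_lit 2, nat_lit 3, nat_lit 1, nat_lit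 2, nat_lit 3, nat_lit 4, nat_lit 0, nat_lit 4, nat_lit 3, nat_lit 2, nat_lit 1, nat_lit 3, nat_lit 2, nat_lit 1, nat_lit 0, nat_lit 3, nat_lit 4, nat_lit 3, nat_lit 2, nat_lit 1, nat_lit 3, nat_lit 2, nat_lit 3, nat_lit 4, nat_lit 3, nat_lit 0, nat_lit 1, nat_lit 2, nat_lit 3, nat_lit 1, nat_lit 2, nat_lit 3, nat_lit 4, nat_lit 0, nat_lit 4, nat_lit 3, nat_lit 2, nat_lit 1, nat_lit 3, nat_lit 2, nat_lit 1, nat_lit 0, nat_lit 3, nat_lit 4, nat_lit 3, nat_lit 2, nat_lit 1, nat_lit 3, nat_lit 2, nat_lit 3, nat_lit 4, nat_lit 3, nat_lit 0, nat_lit 1, nat_lit 2, nat_lit 3, nat_lit 1, nat_lit 2, nat_lit 3, nat_lit 4]), (119640, [nat_lit 4, nat_lit 0, nat_lit 1, nat_lit 2, nat_lit 3, nat_lit 7, nat_lit 4, nat_lit 5, nat_lit 2, nat_lit 3, nat_lit 4, nat_lit 1, nat_lit 6, nat_lit 5, nat_lit 3, nat_lit 4, nat_lit 2, nat_lit 3, nat_lit 0, nat_lit 1, nat_lit 2, nat_lit 3, nat_lit 0, nat_lit 3, nat_lit 2, nat_lit 1, nat_lit 0, nat_lit 3, nat_lit 4, nat_lit 3, nat_lit 2, nat_lit 1,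 nat_lit 3, nat_lit 2, nat_lit 3, nat_lit 4, nat_lit 3, nat_lit 0, nat_lit 1, nat_lit 2, nat_lit 3, nat_lit 1, nat_lit 2, nat_lit 3, nat_lit 4, nat_lit 5, nat_lit 4, nat_lit 3, nat_lit 2, nat_lit 1, nat_lit 3, nat_lit 2, nat_lit 1, nat_lit 0, nat_lit 3, nat_lit 4, nat_lit 3, nat_lit 2, nat_lit 1, nat_lit 3, nat_lit 2, nat_lit 3, nat_lit 4, nat_lit 3, nat_lit 0, nat_lit 1, nat_lit 2, nat_lit 3, nat_lit 1, nat_lit 2, nat_lit 3, nat_lit 4]), (121278, [nat_lit 6, nat_lit 4, nat_lit 3, nat_lit 2, nat_lit 6, nat_lit 3, nat_lit 4, nat_lit 3, nat_lit 2, nat_lit 0, nat_lit 1, nat_lit 6, nat_lit 2, nat_lit 3, nat_lit 4, nat_lit 5, nat_lit 3, nat_lit 0, nat_lit 1, nat_lit 2, nat_lit 3, nat_lit 4, nat_lit 1, nat_lit 2, nat_lit 3, nat_lit 2, nat_lit 3, nat_lit 2, nat_lit 4, nat_lit 3, nat_lit 2, nat_lit 1, nat_lit 3, nat_lit 2, nat_lit 1, nat_lit 0, nat_lit 3, nat_lit 4, nat_lit 3, nat_lit 2, nat_lit 1, nat_lit 3, nat_lit 2, nat_lit 3, nat_lit 4, nat_lit 3, nat_lit 0, nat_lit 1, nat_lit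 2, nat_lit 3, nat_lit 1, nat_lit 2, nat_lit 3, nat_lit 4, nat_lit 0, nat_lit 4, nat_lit 3, nat_lit 2, nat_lit 1, nat_lit 3, nat_lit 2, nat_lit 1, nat_lit 0, nat_lit 3, nat_lit 4, nat_lit 3, nat_lit 2, nat_lit 1, nat_lit 3, nat_lit 2, nat_lit 3, nat_lit 4, nat_lit 3, nat_lit 0, nat_lit 1, nat_lit 2, nat_lit 3, nat_lit 1, nat_lit 2, nat_lit 3, nat_lit 4, nat_lit 0, nat_lit 4, nat_lit 3, nat_lit 2, nat_lit 1, nat_lit 3, nat_lit 2, nat_lit 1, nat_lit 0, nat_lit 3, nat_lit 4, nat_lit 3, nat_lit 2, nat_lit 1, nat_lit 3, nat_lit 2, nat_lit 3, nat_lit 4, nat_lit 3, nat_lit 0, nat_lit 1, nat_lit 2, nat_lit 3, nat_lit 1, nat_lit 2, nat_lit 3, nat_lit 4])]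

end Cfsg.Agent.Lib.helper17.OnOut
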