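import Cfsg.Agent.Lib.helper17.OnOut.Ap
import Cfsg.Agent.Lib.helper17.OnOut.ChainData
import Cfsg.Agent.Lib.helper17.OnOut.ExData

set_option autoImplicit false

/-! The tests of the two searches for centralisers (generated, helper17) -/

namespace Cfsg.Agent.Lib.helper17.OnOut

open Cfsg.Agent.Lib.Helper12.TC

/-- the test of the first search -/
noncomputable def centC (q : Nat) : Bool :=
  centQ apON (lkS selS1) (lkS selS2) m3T exC 0 1 20 31 cwL q

/-- the test of the second search -/
noncomputable def centU (q : Nat) : Bool :=
  centQ apON (lkS selS1) (lkS selS2) m3T exU 0 1 20 31 uwL q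

/-- the test of the second orbit: every point with a letter is joined to the root -/
noncomputable def d2Q (z0 : Nat) : Bool :=
  forceN z0 fun z =>
  @Bool.rec (fun _ => Bool) (walk0 apON (lkS selS2) 6 1 31 z) true (Nat.beq (lkS selS2 z) 15)

end Cfsg.Agent.Lib.helper17.OnOut
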