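import Cfsg.Agent.Lib.helper17.OnOut.CentDefs

set_option autoImplicit false

/-! Part 1 of the second search (generated, helper17) -/

namespace Cfsg.Agent.Lib.helper17.OnOut

open Cfsg.Agent.Lib.Helper12.TC

theorem centU_33 : rangeK centU (Nat.mul 33 124) 124 = true := by decide +kernel

theorem centU_34 : rangeK centU (Nat.mul 34 124) 124 = true := by decide +kernel

theorem centU_35 : rangeK centU (Nat.mul 35 124) 124 = true := by decide +kernel

theorem centU_36 : rangeK centU (Nat.mul 36 124) 124 = true := by decide +kernel

theorem centU_37 : rangeK centU (Nat.mul 37 124) 124 = true := by decide +kernel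

theorem centU_38 : rangeK centU (Nat.mul 38 124) 124 = true := by decide +kernel

theorem centU_39 : rangeK centU (Nat.mul 39 124) 124 = true := by decide +kernel

theorem centU_40 : rangeK centU (Nat.mul 40 124) 124 = true := by decide +kernel

theorem centU_41 : rangeK centU (Nat.mul 41 124) 124 = true := by decide +kernel

theorem centU_42 : rangeK centU (Nat.mul 42 124) 124 = true := by decide +kernel

theorem centU_43 : rangeK centU (Nat.mul 43 124) 124 = true := by decide +kernel

theorem centU_44 : rangeK centU (Nat.mul 44 124) 124 = true := by decide +kernel

theorem centU_45 : rangeK centU (Nat.mul 45 124) 124 = true := by decide +kernel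

theorem centU_46 : rangeK centU (Nat.mul 46 124) 124 = true := by decide +kernel

theorem centU_47 : rangeK centU (Nat.mul 47 124) 124 = true := by decide +kernel

theorem centU_48 : rangeK centU (Nat.mul 48 124) 124 = true := by decide +kernel

theorem centU_49 : rangeK centU (Nat.mul 49 124) 124 = true := by decide +kernel

theorem centU_50 : rangeK centU (Nat.mul 50 124) 124 = true := by decide +kernel

theorem centU_51 : rangeK centU (Nat.mul 51 124) 124 = true := by decide +kernel

theorem centU_52 : rangeK centU (Nat.mul 52 124) 124 = true := by decide +kernel

theorem centU_53 : rangeK centU (Nat.mul 53 124) 124 = true := by decide +kernel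

theorem centU_54 : rangeK centU (Nat.mul 54 124) 124 = true := by decide +kernel

theorem centU_55 : rangeK centU (Nat.mul 55 124) 124 = true := by decide +kernel

theorem centU_56 : rangeK centU (Nat.mul 56 124) 124 = true := by decide +kernel

theorem centU_57 : rangeK centU (Nat.mul 57 124) 124 = true := by decide +kernel

theorem centU_58 : rangeK centU (Nat.mul 58 124) 124 = true := by decide +kernel

theorem centU_59 : rangeK centU (Nat.mul 59 124) 124 = true := by decide +kernel

theorem centU_60 : rangeK centU (Nat.mul 60 124) 124 = true := by decide +kernel

theorem centU_61 : rangeK centU (Nat.mul 61 124) 124 = true := by decide +kernel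

theorem centU_62 : rangeK centU (Nat.mul 62 124) 124 = true := by decide +kernel

theorem centU_63 : rangeK centU (Nat.mul 63 124) 124 = true := by decide +kernel

theorem centU_64 : rangeK centU (Nat.mul 64 124) 124 = true := by decide +kernel

theorem centU_65 : rangeK centU (Nat.mul 65 124) 124 = true := by decide +kernel

theorem centU_part1 : ∀ q, 4092 ≤ q → q < 8184 → centU q = true := by
  have h : ∀ i < 33, rangeK centU (Nat.mul (33 + i) 124) 124 = true := by
    intro i hi
    interval_cases i
    · exact centU_33
    · exact centU_34
    · exact centU_35
    · exact centU_36
    · exact centU_37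
    · exact centU_38
    · exact centU_39
    · exact centU_40
    · exact centU_41
    · exact centU_42
    · exact centU_43
    · exact centU_44
    · exact centU_45
    · exact centU_46
    · exact centU_47
    · exact centU_48
    · exact centU_49
    · exact centU_50
    · exact centU_51
    · exact centU_52
    · exact centU_53
    · exact centU_54
    · exact centU_55
    · exact centU_56
    · exact centU_57
    · exact centU_58
    · exact centU_59
    · exact centU_60
    · exact centU_61
    · exact centU_62
    · exact centU_63
    · exact centU_64
    · exact centU_65
  exact cover_part centU 33 124 33 (by norm_num) h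

end Cfsg.Agent.Lib.helper17.OnOut
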