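import Cfsg.Agent.Lib.helper17.OnOut.CentDefs

set_option autoImplicit false

/-! Part 10 of the second search (generated, helper17) -/

namespace Cfsg.Agent.Lib.helper17.OnOut

open Cfsg.Agent.Lib.Helper12.TC

theorem centU_330 : rangeK centU (Nat.mul 330 124) 124 = true := by decide +kernel

theorem centU_331 : rangeK centU (Nat.mul 331 124) 124 = true := by decide +kernel

theorem centU_332 : rangeK centU (Nat.mul 332 124) 124 = true := by decide +kernel

theorem centU_333 : rangeK centU (Nat.mul 333 124) 124 = true := by decide +kernel

theorem centU_334 : rangeK centU (Nat.mul 334 124) 124 = true := by decide +kernel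

theorem centU_335 : rangeK centU (Nat.mul 335 124) 124 = true := by decide +kernel

theorem centU_336 : rangeK centU (Nat.mul 336 124) 124 = true := by decide +kernel

theorem centU_337 : rangeK centU (Nat.mul 337 124) 124 = true := by decide +kernel

theorem centU_338 : rangeK centU (Nat.mul 338 124) 124 = true := by decide +kernel

theorem centU_339 : rangeK centU (Nat.mul 339 124) 124 = true := by decide +kernel

theorem centU_340 : rangeK centU (Nat.mul 340 124) 124 = true := by decide +kernel

theorem centU_341 : rangeK centU (Nat.mul 341 124) 124 = true := by decide +kernel

theorem centU_342 : rangeK centU (Nat.mul 342 124) 124 = true := by decide +kernel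

theorem centU_343 : rangeK centU (Nat.mul 343 124) 124 = true := by decide +kernel

theorem centU_344 : rangeK centU (Nat.mul 344 124) 124 = true := by decide +kernel

theorem centU_345 : rangeK centU (Nat.mul 345 124) 124 = true := by decide +kernel

theorem centU_346 : rangeK centU (Nat.mul 346 124) 124 = true := by decide +kernel

theorem centU_347 : rangeK centU (Nat.mul 347 124) 124 = true := by decide +kernel

theorem centU_348 : rangeK centU (Nat.mul 348 124) 124 = true := by decide +kernel

theorem centU_349 : rangeK centU (Nat.mul 349 124) 124 = true := by decide +kernel

theorem centU_350 : rangeK centU (Nat.mul 350 124) 124 = true := by decide +kernel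

theorem centU_351 : rangeK centU (Nat.mul 351 124) 124 = true := by decide +kernel

theorem centU_352 : rangeK centU (Nat.mul 352 124) 124 = true := by decide +kernel

theorem centU_353 : rangeK centU (Nat.mul 353 124) 124 = true := by decide +kernel

theorem centU_354 : rangeK centU (Nat.mul 354 124) 124 = true := by decide +kernel

theorem centU_355 : rangeK centU (Nat.mul 355 124) 124 = true := by decide +kernel

theorem centU_356 : rangeK centU (Nat.mul 356 124) 124 = true := by decide +kernel

theorem centU_357 : rangeK centU (Nat.mul 357 124) 124 = true := by decide +kernel

theorem centU_358 : rangeK centU (Nat.mul 358 124) 124 = true := by decide +kernel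

theorem centU_359 : rangeK centU (Nat.mul 359 124) 124 = true := by decide +kernel

theorem centU_360 : rangeK centU (Nat.mul 360 124) 124 = true := by decide +kernel

theorem centU_361 : rangeK centU (Nat.mul 361 124) 124 = true := by decide +kernel

theorem centU_362 : rangeK centU (Nat.mul 362 124) 124 = true := by decide +kernel

theorem centU_part10 : ∀ q, 40920 ≤ q → q < 45012 → centU q = true := by
  have h : ∀ i < 33, rangeK centU (Nat.mul (330 + i) 124) 124 = true := by
    intro i hi
    interval_cases i
    · exact centU_330
    · exact centU_331
    · exact centU_332
    · exact centU_333
    · exact centU_334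
    · exact centU_335
    · exact centU_336
    · exact centU_337
    · exact centU_338
    · exact centU_339
    · exact centU_340
    · exact centU_341
    · exact centU_342
    · exact centU_343
    · exact centU_344
    · exact centU_345
    · exact centU_346
    · exact centU_347
    · exact centU_348
    · exact centU_349
    · exact centU_350
    · exact centU_351
    · exact centU_352
    · exact centU_353
    · exact centU_354
    · exact centU_355
    · exact centU_356
    · exact centU_357
    · exact centU_358
    · exact centU_359
    · exact centU_360
    · exact centU_361
    · exact centU_362
  exact cover_part centU 330 124 33 (by norm_num) h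

end Cfsg.Agent.Lib.helper17.OnOut
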