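import Cfsg.Agent.Lib.helper17.OnOut.CentDefs

set_option autoImplicit false

/-! Part 11 of the second search (generated, helper17) -/

namespace Cfsg.Agent.Lib.helper17.OnOut

open Cfsg.Agent.Lib.Helper12.TC

theorem centU_363 : rangeK centU (Nat.mul 363 124) 124 = true := by decide +kernel

theorem centU_364 : rangeK centU (Nat.mul 364 124) 124 = true := by decide +kernel

theorem centU_365 : rangeK centU (Nat.mul 365 124) 124 = true := by decide +kernel

theorem centU_366 : rangeK centU (Nat.mul 366 124) 124 = true := by decide +kernel

theorem centU_367 : rangeK centU (Nat.mul 367 124) 124 = true := by decide +kernel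

theorem centU_368 : rangeK centU (Nat.mul 368 124) 124 = true := by decide +kernel

theorem centU_369 : rangeK centU (Nat.mul 369 124) 124 = true := by decide +kernel

theorem centU_370 : rangeK centU (Nat.mul 370 124) 124 = true := by decide +kernel

theorem centU_371 : rangeK centU (Nat.mul 371 124) 124 = true := by decide +kernel

theorem centU_372 : rangeK centU (Nat.mul 372 124) 124 = true := by decide +kernel

theorem centU_373 : rangeK centU (Nat.mul 373 124) 124 = true := by decide +kernel

theorem centU_374 : rangeK centU (Nat.mul 374 124) 124 = true := by decide +kernel

theorem centU_375 : rangeK centU (Nat.mul 375 124) 124 = true := by decide +kernel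

theorem centU_376 : rangeK centU (Nat.mul 376 124) 124 = true := by decide +kernel

theorem centU_377 : rangeK centU (Nat.mul 377 124) 124 = true := by decide +kernel

theorem centU_378 : rangeK centU (Nat.mul 378 124) 124 = true := by decide +kernel

theorem centU_379 : rangeK centU (Nat.mul 379 124) 124 = true := by decide +kernel

theorem centU_380 : rangeK centU (Nat.mul 380 124) 124 = true := by decide +kernel

theorem centU_381 : rangeK centU (Nat.mul 381 124) 124 = true := by decide +kernel

theorem centU_382 : rangeK centU (Nat.mul 382 124) 124 = true := by decide +kernel

theorem centU_383 : rangeK centU (Nat.mul 383 124) 124 = true := by decide +kernel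

theorem centU_384 : rangeK centU (Nat.mul 384 124) 124 = true := by decide +kernel

theorem centU_385 : rangeK centU (Nat.mul 385 124) 124 = true := by decide +kernel

theorem centU_386 : rangeK centU (Nat.mul 386 124) 124 = true := by decide +kernel

theorem centU_387 : rangeK centU (Nat.mul 387 124) 124 = true := by decide +kernel

theorem centU_388 : rangeK centU (Nat.mul 388 124) 124 = true := by decide +kernel

theorem centU_389 : rangeK centU (Nat.mul 389 124) 124 = true := by decide +kernel

theorem centU_390 : rangeK centU (Nat.mul 390 124) 124 = true := by decide +kernel

theorem centU_391 : rangeK centU (Nat.mul 391 124) 124 = true := by decide +kernel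

theorem centU_392 : rangeK centU (Nat.mul 392 124) 124 = true := by decide +kernel

theorem centU_393 : rangeK centU (Nat.mul 393 124) 124 = true := by decide +kernel

theorem centU_394 : rangeK centU (Nat.mul 394 124) 124 = true := by decide +kernel

theorem centU_395 : rangeK centU (Nat.mul 395 124) 124 = true := by decide +kernel

theorem centU_part11 : ∀ q, 45012 ≤ q → q < 49104 → centU q = true := by
  have h : ∀ i < 33, rangeK centU (Nat.mul (363 + i) 124) 124 = true := by
    intro i hi
    interval_cases i
    · exact centU_363
    · exact centU_364
    · exact centU_365
    · exact centU_366
    · exact centU_367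
    · exact centU_368
    · exact centU_369
    · exact centU_370
    · exact centU_371
    · exact centU_372
    · exact centU_373
    · exact centU_374
    · exact centU_375
    · exact centU_376
    · exact centU_377
    · exact centU_378
    · exact centU_379
    · exact centU_380
    · exact centU_381
    · exact centU_382
    · exact centU_383
    · exact centU_384
    · exact centU_385
    · exact centU_386
    · exact centU_387
    · exact centU_388
    · exact centU_389
    · exact centU_390
    · exact centU_391
    · exact centU_392
    · exact centU_393
    · exact centU_394
    · exact centU_395
  exact cover_part centU 363 124 33 (by norm_num) h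

end Cfsg.Agent.Lib.helper17.OnOut
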