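import Cfsg.Agent.Lib.helper17.OnOut.CentDefs

set_option autoImplicit false

/-! Part 13 of the second search (generated, helper17) -/

namespace Cfsg.Agent.Lib.helper17.OnOut

open Cfsg.Agent.Lib.Helper12.TC

theorem centU_429 : rangeK centU (Nat.mul 429 124) 124 = true := by decide +kernel

theorem centU_430 : rangeK centU (Nat.mul 430 124) 124 = true := by decide +kernel

theorem centU_431 : rangeK centU (Nat.mul 431 124) 124 = true := by decide +kernel

theorem centU_432 : rangeK centU (Nat.mul 432 124) 124 = true := by decide +kernel

theorem centU_433 : rangeK centU (Nat.mul 433 124) 124 = true := by decide +kernel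

theorem centU_434 : rangeK centU (Nat.mul 434 124) 124 = true := by decide +kernel

theorem centU_435 : rangeK centU (Nat.mul 435 124) 124 = true := by decide +kernel

theorem centU_436 : rangeK centU (Nat.mul 436 124) 124 = true := by decide +kernel

theorem centU_437 : rangeK centU (Nat.mul 437 124) 124 = true := by decide +kernel

theorem centU_438 : rangeK centU (Nat.mul 438 124) 124 = true := by decide +kernel

theorem centU_439 : rangeK centU (Nat.mul 439 124) 124 = true := by decide +kernel

theorem centU_440 : rangeK centU (Nat.mul 440 124) 124 = true := by decide +kernel

theorem centU_441 : rangeK centU (Nat.mul 441 124) 124 = true := by decide +kernel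

theorem centU_442 : rangeK centU (Nat.mul 442 124) 124 = true := by decide +kernel

theorem centU_443 : rangeK centU (Nat.mul 443 124) 124 = true := by decide +kernel

theorem centU_444 : rangeK centU (Nat.mul 444 124) 124 = true := by decide +kernel

theorem centU_445 : rangeK centU (Nat.mul 445 124) 124 = true := by decide +kernel

theorem centU_446 : rangeK centU (Nat.mul 446 124) 124 = true := by decide +kernel

theorem centU_447 : rangeK centU (Nat.mul 447 124) 124 = true := by decide +kernel

theorem centU_448 : rangeK centU (Nat.mul 448 124) 124 = true := by decide +kernel

theorem centU_449 : rangeK centU (Nat.mul 449 124) 124 = true := by decide +kernel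

theorem centU_450 : rangeK centU (Nat.mul 450 124) 124 = true := by decide +kernel

theorem centU_451 : rangeK centU (Nat.mul 451 124) 124 = true := by decide +kernel

theorem centU_452 : rangeK centU (Nat.mul 452 124) 124 = true := by decide +kernel

theorem centU_453 : rangeK centU (Nat.mul 453 124) 124 = true := by decide +kernel

theorem centU_454 : rangeK centU (Nat.mul 454 124) 124 = true := by decide +kernel

theorem centU_455 : rangeK centU (Nat.mul 455 124) 124 = true := by decide +kernel

theorem centU_456 : rangeK centU (Nat.mul 456 124) 124 = true := by decide +kernel

theorem centU_457 : rangeK centU (Nat.mul 457 124) 124 = true := by decide +kernel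

theorem centU_458 : rangeK centU (Nat.mul 458 124) 124 = true := by decide +kernel

theorem centU_459 : rangeK centU (Nat.mul 459 124) 124 = true := by decide +kernel

theorem centU_460 : rangeK centU (Nat.mul 460 124) 124 = true := by decide +kernel

theorem centU_461 : rangeK centU (Nat.mul 461 124) 124 = true := by decide +kernel

theorem centU_part13 : ∀ q, 53196 ≤ q → q < 57288 → centU q = true := by
  have h : ∀ i < 33, rangeK centU (Nat.mul (429 + i) 124) 124 = true := by
    intro i hi
    interval_cases i
    · exact centU_429
    · exact centU_430
    · exact centU_431
    · exact centU_432
    · exact centU_433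
    · exact centU_434
    · exact centU_435
    · exact centU_436
    · exact centU_437
    · exact centU_438
    · exact centU_439
    · exact centU_440
    · exact centU_441
    · exact centU_442
    · exact centU_443
    · exact centU_444
    · exact centU_445
    · exact centU_446
    · exact centU_447
    · exact centU_448
    · exact centU_449
    · exact centU_450
    · exact centU_451
    · exact centU_452
    · exact centU_453
    · exact centU_454
    · exact centU_455
    · exact centU_456
    · exact centU_457
    · exact centU_458
    · exact centU_459
    · exact centU_460
    · exact centU_461
  exact cover_part centU 429 124 33 (by norm_num) h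

end Cfsg.Agent.Lib.helper17.OnOut
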