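import Cfsg.Agent.Lib.helper17.OnOut.CentDefs

set_option autoImplicit false

/-! Part 14 of the second search (generated, helper17) -/

namespace Cfsg.Agent.Lib.helper17.OnOut

open Cfsg.Agent.Lib.Helper12.TC

theorem centU_462 : rangeK centU (Nat.mul 462 124) 124 = true := by decide +kernel

theorem centU_463 : rangeK centU (Nat.mul 463 124) 124 = true := by decide +kernel

theorem centU_464 : rangeK centU (Nat.mul 464 124) 124 = true := by decide +kernel

theorem centU_465 : rangeK centU (Nat.mul 465 124) 124 = true := by decide +kernel

theorem centU_466 : rangeK centU (Nat.mul 466 124) 124 = true := by decide +kernel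

theorem centU_467 : rangeK centU (Nat.mul 467 124) 124 = true := by decide +kernel

theorem centU_468 : rangeK centU (Nat.mul 468 124) 124 = true := by decide +kernel

theorem centU_469 : rangeK centU (Nat.mul 469 124) 124 = true := by decide +kernel

theorem centU_470 : rangeK centU (Nat.mul 470 124) 124 = true := by decide +kernel

theorem centU_471 : rangeK centU (Nat.mul 471 124) 124 = true := by decide +kernel

theorem centU_472 : rangeK centU (Nat.mul 472 124) 124 = true := by decide +kernel

theorem centU_473 : rangeK centU (Nat.mul 473 124) 124 = true := by decide +kernel

theorem centU_474 : rangeK centU (Nat.mul 474 124) 124 = true := by decide +kernel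

theorem centU_475 : rangeK centU (Nat.mul 475 124) 124 = true := by decide +kernel

theorem centU_476 : rangeK centU (Nat.mul 476 124) 124 = true := by decide +kernel

theorem centU_477 : rangeK centU (Nat.mul 477 124) 124 = true := by decide +kernel

theorem centU_478 : rangeK centU (Nat.mul 478 124) 124 = true := by decide +kernel

theorem centU_479 : rangeK centU (Nat.mul 479 124) 124 = true := by decide +kernel

theorem centU_480 : rangeK centU (Nat.mul 480 124) 124 = true := by decide +kernel

theorem centU_481 : rangeK centU (Nat.mul 481 124) 124 = true := by decide +kernel

theorem centU_482 : rangeK centU (Nat.mul 482 124) 124 = true := by decide +kernel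

theorem centU_483 : rangeK centU (Nat.mul 483 124) 124 = true := by decide +kernel

theorem centU_484 : rangeK centU (Nat.mul 484 124) 124 = true := by decide +kernel

theorem centU_485 : rangeK centU (Nat.mul 485 124) 124 = true := by decide +kernel

theorem centU_486 : rangeK centU (Nat.mul 486 124) 124 = true := by decide +kernel

theorem centU_487 : rangeK centU (Nat.mul 487 124) 124 = true := by decide +kernel

theorem centU_488 : rangeK centU (Nat.mul 488 124) 124 = true := by decide +kernel

theorem centU_489 : rangeK centU (Nat.mul 489 124) 124 = true := by decide +kernel

theorem centU_490 : rangeK centU (Nat.mul 490 124) 124 = true := by decide +kernel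

theorem centU_491 : rangeK centU (Nat.mul 491 124) 124 = true := by decide +kernel

theorem centU_492 : rangeK centU (Nat.mul 492 124) 124 = true := by decide +kernel

theorem centU_493 : rangeK centU (Nat.mul 493 124) 124 = true := by decide +kernel

theorem centU_494 : rangeK centU (Nat.mul 494 124) 124 = true := by decide +kernel

theorem centU_part14 : ∀ q, 57288 ≤ q → q < 61380 → centU q = true := by
  have h : ∀ i < 33, rangeK centU (Nat.mul (462 + i) 124) 124 = true := by
    intro i hi
    interval_cases i
    · exact centU_462
    · exact centU_463
    · exact centU_464
    · exact centU_465
    · exact centU_466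
    · exact centU_467
    · exact centU_468
    · exact centU_469
    · exact centU_470
    · exact centU_471
    · exact centU_472
    · exact centU_473
    · exact centU_474
    · exact centU_475
    · exact centU_476
    · exact centU_477
    · exact centU_478
    · exact centU_479
    · exact centU_480
    · exact centU_481
    · exact centU_482
    · exact centU_483
    · exact centU_484
    · exact centU_485
    · exact centU_486
    · exact centU_487
    · exact centU_488
    · exact centU_489
    · exact centU_490
    · exact centU_491
    · exact centU_492
    · exact centU_493
    · exact centU_494
  exact cover_part centU 462 124 33 (by norm_num) h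

end Cfsg.Agent.Lib.helper17.OnOut
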