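import Cfsg.Agent.Lib.helper17.OnOut.CentDefs

set_option autoImplicit false

/-! Part 15 of the second search (generated, helper17) -/

namespace Cfsg.Agent.Lib.helper17.OnOut

open Cfsg.Agent.Lib.Helper12.TC

theorem centU_495 : rangeK centU (Nat.mul 495 124) 124 = true := by decide +kernel

theorem centU_496 : rangeK centU (Nat.mul 496 124) 124 = true := by decide +kernel

theorem centU_497 : rangeK centU (Nat.mul 497 124) 124 = true := by decide +kernel

theorem centU_498 : rangeK centU (Nat.mul 498 124) 124 = true := by decide +kernel

theorem centU_499 : rangeK centU (Nat.mul 499 124) 124 = true := by decide +kernel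

theorem centU_500 : rangeK centU (Nat.mul 500 124) 124 = true := by decide +kernel

theorem centU_501 : rangeK centU (Nat.mul 501 124) 124 = true := by decide +kernel

theorem centU_502 : rangeK centU (Nat.mul 502 124) 124 = true := by decide +kernel

theorem centU_503 : rangeK centU (Nat.mul 503 124) 124 = true := by decide +kernel

theorem centU_504 : rangeK centU (Nat.mul 504 124) 124 = true := by decide +kernel

theorem centU_505 : rangeK centU (Nat.mul 505 124) 124 = true := by decide +kernel

theorem centU_506 : rangeK centU (Nat.mul 506 124) 124 = true := by decide +kernel

theorem centU_507 : rangeK centU (Nat.mul 507 124) 124 = true := by decide +kernel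

theorem centU_508 : rangeK centU (Nat.mul 508 124) 124 = true := by decide +kernel

theorem centU_509 : rangeK centU (Nat.mul 509 124) 124 = true := by decide +kernel

theorem centU_510 : rangeK centU (Nat.mul 510 124) 124 = true := by decide +kernel

theorem centU_511 : rangeK centU (Nat.mul 511 124) 124 = true := by decide +kernel

theorem centU_512 : rangeK centU (Nat.mul 512 124) 124 = true := by decide +kernel

theorem centU_513 : rangeK centU (Nat.mul 513 124) 124 = true := by decide +kernel

theorem centU_514 : rangeK centU (Nat.mul 514 124) 124 = true := by decide +kernel

theorem centU_515 : rangeK centU (Nat.mul 515 124) 124 = true := by decide +kernel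

theorem centU_516 : rangeK centU (Nat.mul 516 124) 124 = true := by decide +kernel

theorem centU_517 : rangeK centU (Nat.mul 517 124) 124 = true := by decide +kernel

theorem centU_518 : rangeK centU (Nat.mul 518 124) 124 = true := by decide +kernel

theorem centU_519 : rangeK centU (Nat.mul 519 124) 124 = true := by decide +kernel

theorem centU_520 : rangeK centU (Nat.mul 520 124) 124 = true := by decide +kernel

theorem centU_521 : rangeK centU (Nat.mul 521 124) 124 = true := by decide +kernel

theorem centU_522 : rangeK centU (Nat.mul 522 124) 124 = true := by decide +kernel

theorem centU_523 : rangeK centU (Nat.mul 523 124) 124 = true := by decide +kernel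

theorem centU_524 : rangeK centU (Nat.mul 524 124) 124 = true := by decide +kernel

theorem centU_525 : rangeK centU (Nat.mul 525 124) 124 = true := by decide +kernel

theorem centU_526 : rangeK centU (Nat.mul 526 124) 124 = true := by decide +kernel

theorem centU_527 : rangeK centU (Nat.mul 527 124) 124 = true := by decide +kernel

theorem centU_part15 : ∀ q, 61380 ≤ q → q < 65472 → centU q = true := by
  have h : ∀ i < 33, rangeK centU (Nat.mul (495 + i) 124) 124 = true := by
    intro i hi
    interval_cases i
    · exact centU_495
    · exact centU_496
    · exact centU_497
    · exact centU_498
    · exact centU_499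
    · exact centU_500
    · exact centU_501
    · exact centU_502
    · exact centU_503
    · exact centU_504
    · exact centU_505
    · exact centU_506
    · exact centU_507
    · exact centU_508
    · exact centU_509
    · exact centU_510
    · exact centU_511
    · exact centU_512
    · exact centU_513
    · exact centU_514
    · exact centU_515
    · exact centU_516
    · exact centU_517
    · exact centU_518
    · exact centU_519
    · exact centU_520
    · exact centU_521
    · exact centU_522
    · exact centU_523
    · exact centU_524
    · exact centU_525
    · exact centU_526
    · exact centU_527
  exact cover_part centU 495 124 33 (by norm_num) h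

end Cfsg.Agent.Lib.helper17.OnOut
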