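import Cfsg.Agent.Lib.helper17.OnOut.CentDefs

set_option autoImplicit false

/-! Part 16 of the second search (generated, helper17) -/

namespace Cfsg.Agent.Lib.helper17.OnOut

open Cfsg.Agent.Lib.Helper12.TC

theorem centU_528 : rangeK centU (Nat.mul 528 124) 124 = true := by decide +kernel

theorem centU_529 : rangeK centU (Nat.mul 529 124) 124 = true := by decide +kernel

theorem centU_530 : rangeK centU (Nat.mul 530 124) 124 = true := by decide +kernel

theorem centU_531 : rangeK centU (Nat.mul 531 124) 124 = true := by decide +kernel

theorem centU_532 : rangeK centU (Nat.mul 532 124) 124 = true := by decide +kernel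

theorem centU_533 : rangeK centU (Nat.mul 533 124) 124 = true := by decide +kernel

theorem centU_534 : rangeK centU (Nat.mul 534 124) 124 = true := by decide +kernel

theorem centU_535 : rangeK centU (Nat.mul 535 124) 124 = true := by decide +kernel

theorem centU_536 : rangeK centU (Nat.mul 536 124) 124 = true := by decide +kernel

theorem centU_537 : rangeK centU (Nat.mul 537 124) 124 = true := by decide +kernel

theorem centU_538 : rangeK centU (Nat.mul 538 124) 124 = true := by decide +kernel

theorem centU_539 : rangeK centU (Nat.mul 539 124) 124 = true := by decide +kernel

theorem centU_540 : rangeK centU (Nat.mul 540 124) 124 = true := by decide +kernel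

theorem centU_541 : rangeK centU (Nat.mul 541 124) 124 = true := by decide +kernel

theorem centU_542 : rangeK centU (Nat.mul 542 124) 124 = true := by decide +kernel

theorem centU_543 : rangeK centU (Nat.mul 543 124) 124 = true := by decide +kernel

theorem centU_544 : rangeK centU (Nat.mul 544 124) 124 = true := by decide +kernel

theorem centU_545 : rangeK centU (Nat.mul 545 124) 124 = true := by decide +kernel

theorem centU_546 : rangeK centU (Nat.mul 546 124) 124 = true := by decide +kernel

theorem centU_547 : rangeK centU (Nat.mul 547 124) 124 = true := by decide +kernel

theorem centU_548 : rangeK centU (Nat.mul 548 124) 124 = true := by decide +kernel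

theorem centU_549 : rangeK centU (Nat.mul 549 124) 124 = true := by decide +kernel

theorem centU_550 : rangeK centU (Nat.mul 550 124) 124 = true := by decide +kernel

theorem centU_551 : rangeK centU (Nat.mul 551 124) 124 = true := by decide +kernel

theorem centU_552 : rangeK centU (Nat.mul 552 124) 124 = true := by decide +kernel

theorem centU_553 : rangeK centU (Nat.mul 553 124) 124 = true := by decide +kernel

theorem centU_554 : rangeK centU (Nat.mul 554 124) 124 = true := by decide +kernel

theorem centU_555 : rangeK centU (Nat.mul 555 124) 124 = true := by decide +kernel

theorem centU_556 : rangeK centU (Nat.mul 556 124) 124 = true := by decide +kernel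

theorem centU_557 : rangeK centU (Nat.mul 557 124) 124 = true := by decide +kernel

theorem centU_558 : rangeK centU (Nat.mul 558 124) 124 = true := by decide +kernel

theorem centU_559 : rangeK centU (Nat.mul 559 124) 124 = true := by decide +kernel

theorem centU_560 : rangeK centU (Nat.mul 560 124) 124 = true := by decide +kernel

theorem centU_part16 : ∀ q, 65472 ≤ q → q < 69564 → centU q = true := by
  have h : ∀ i < 33, rangeK centU (Nat.mul (528 + i) 124) 124 = true := by
    intro i hi
    interval_cases i
    · exact centU_528
    · exact centU_529
    · exact centU_530
    · exact centU_531
    · exact centU_532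
    · exact centU_533
    · exact centU_534
    · exact centU_535
    · exact centU_536
    · exact centU_537
    · exact centU_538
    · exact centU_539
    · exact centU_540
    · exact centU_541
    · exact centU_542
    · exact centU_543
    · exact centU_544
    · exact centU_545
    · exact centU_546
    · exact centU_547
    · exact centU_548
    · exact centU_549
    · exact centU_550
    · exact centU_551
    · exact centU_552
    · exact centU_553
    · exact centU_554
    · exact centU_555
    · exact centU_556
    · exact centU_557
    · exact centU_558
    · exact centU_559
    · exact centU_560
  exact cover_part centU 528 124 33 (by norm_num) h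

end Cfsg.Agent.Lib.helper17.OnOut
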