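import Cfsg.Agent.Lib.helper17.OnOut.CentDefs

set_option autoImplicit false

/-! Part 17 of the second search (generated, helper17) -/

namespace Cfsg.Agent.Lib.helper17.OnOut

open Cfsg.Agent.Lib.Helper12.TC

theorem centU_561 : rangeK centU (Nat.mul 561 124) 124 = true := by decide +kernel

theorem centU_562 : rangeK centU (Nat.mul 562 124) 124 = true := by decide +kernel

theorem centU_563 : rangeK centU (Nat.mul 563 124) 124 = true := by decide +kernel

theorem centU_564 : rangeK centU (Nat.mul 564 124) 124 = true := by decide +kernel

theorem centU_565 : rangeK centU (Nat.mul 565 124) 124 = true := by decide +kernel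

theorem centU_566 : rangeK centU (Nat.mul 566 124) 124 = true := by decide +kernel

theorem centU_567 : rangeK centU (Nat.mul 567 124) 124 = true := by decide +kernel

theorem centU_568 : rangeK centU (Nat.mul 568 124) 124 = true := by decide +kernel

theorem centU_569 : rangeK centU (Nat.mul 569 124) 124 = true := by decide +kernel

theorem centU_570 : rangeK centU (Nat.mul 570 124) 124 = true := by decide +kernel

theorem centU_571 : rangeK centU (Nat.mul 571 124) 124 = true := by decide +kernel

theorem centU_572 : rangeK centU (Nat.mul 572 124) 124 = true := by decide +kernel

theorem centU_573 : rangeK centU (Nat.mul 573 124) 124 = true := by decide +kernel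

theorem centU_574 : rangeK centU (Nat.mul 574 124) 124 = true := by decide +kernel

theorem centU_575 : rangeK centU (Nat.mul 575 124) 124 = true := by decide +kernel

theorem centU_576 : rangeK centU (Nat.mul 576 124) 124 = true := by decide +kernel

theorem centU_577 : rangeK centU (Nat.mul 577 124) 124 = true := by decide +kernel

theorem centU_578 : rangeK centU (Nat.mul 578 124) 124 = true := by decide +kernel

theorem centU_579 : rangeK centU (Nat.mul 579 124) 124 = true := by decide +kernel

theorem centU_580 : rangeK centU (Nat.mul 580 124) 124 = true := by decide +kernel

theorem centU_581 : rangeK centU (Nat.mul 581 124) 124 = true := by decide +kernel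

theorem centU_582 : rangeK centU (Nat.mul 582 124) 124 = true := by decide +kernel

theorem centU_583 : rangeK centU (Nat.mul 583 124) 124 = true := by decide +kernel

theorem centU_584 : rangeK centU (Nat.mul 584 124) 124 = true := by decide +kernel

theorem centU_585 : rangeK centU (Nat.mul 585 124) 124 = true := by decide +kernel

theorem centU_586 : rangeK centU (Nat.mul 586 124) 124 = true := by decide +kernel

theorem centU_587 : rangeK centU (Nat.mul 587 124) 124 = true := by decide +kernel

theorem centU_588 : rangeK centU (Nat.mul 588 124) 124 = true := by decide +kernel

theorem centU_589 : rangeK centU (Nat.mul 589 124) 124 = true := by decide +kernel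

theorem centU_590 : rangeK centU (Nat.mul 590 124) 124 = true := by decide +kernel

theorem centU_591 : rangeK centU (Nat.mul 591 124) 124 = true := by decide +kernel

theorem centU_592 : rangeK centU (Nat.mul 592 124) 124 = true := by decide +kernel

theorem centU_593 : rangeK centU (Nat.mul 593 124) 124 = true := by decide +kernel

theorem centU_part17 : ∀ q, 69564 ≤ q → q < 73656 → centU q = true := by
  have h : ∀ i < 33, rangeK centU (Nat.mul (561 + i) 124) 124 = true := by
    intro i hi
    interval_cases i
    · exact centU_561
    · exact centU_562
    · exact centU_563
    · exact centU_564
    · exact centU_565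
    · exact centU_566
    · exact centU_567
    · exact centU_568
    · exact centU_569
    · exact centU_570
    · exact centU_571
    · exact centU_572
    · exact centU_573
    · exact centU_574
    · exact centU_575
    · exact centU_576
    · exact centU_577
    · exact centU_578
    · exact centU_579
    · exact centU_580
    · exact centU_581
    · exact centU_582
    · exact centU_583
    · exact centU_584
    · exact centU_585
    · exact centU_586
    · exact centU_587
    · exact centU_588
    · exact centU_589
    · exact centU_590
    · exact centU_591
    · exact centU_592
    · exact centU_593
  exact cover_part centU 561 124 33 (by norm_num) h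

end Cfsg.Agent.Lib.helper17.OnOut
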