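import Cfsg.Agent.Lib.helper17.OnOut.CentDefs

set_option autoImplicit false

/-! Part 18 of the second search (generated, helper17) -/

namespace Cfsg.Agent.Lib.helper17.OnOut

open Cfsg.Agent.Lib.Helper12.TC

theorem centU_594 : rangeK centU (Nat.mul 594 124) 124 = true := by decide +kernel

theorem centU_595 : rangeK centU (Nat.mul 595 124) 124 = true := by decide +kernel

theorem centU_596 : rangeK centU (Nat.mul 596 124) 124 = true := by decide +kernel

theorem centU_597 : rangeK centU (Nat.mul 597 124) 124 = true := by decide +kernel

theorem centU_598 : rangeK centU (Nat.mul 598 124) 124 = true := by decide +kernel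

theorem centU_599 : rangeK centU (Nat.mul 599 124) 124 = true := by decide +kernel

theorem centU_600 : rangeK centU (Nat.mul 600 124) 124 = true := by decide +kernel

theorem centU_601 : rangeK centU (Nat.mul 601 124) 124 = true := by decide +kernel

theorem centU_602 : rangeK centU (Nat.mul 602 124) 124 = true := by decide +kernel

theorem centU_603 : rangeK centU (Nat.mul 603 124) 124 = true := by decide +kernel

theorem centU_604 : rangeK centU (Nat.mul 604 124) 124 = true := by decide +kernel

theorem centU_605 : rangeK centU (Nat.mul 605 124) 124 = true := by decide +kernel

theorem centU_606 : rangeK centU (Nat.mul 606 124) 124 = true := by decide +kernel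

theorem centU_607 : rangeK centU (Nat.mul 607 124) 124 = true := by decide +kernel

theorem centU_608 : rangeK centU (Nat.mul 608 124) 124 = true := by decide +kernel

theorem centU_609 : rangeK centU (Nat.mul 609 124) 124 = true := by decide +kernel

theorem centU_610 : rangeK centU (Nat.mul 610 124) 124 = true := by decide +kernel

theorem centU_611 : rangeK centU (Nat.mul 611 124) 124 = true := by decide +kernel

theorem centU_612 : rangeK centU (Nat.mul 612 124) 124 = true := by decide +kernel

theorem centU_613 : rangeK centU (Nat.mul 613 124) 124 = true := by decide +kernel

theorem centU_614 : rangeK centU (Nat.mul 614 124) 124 = true := by decide +kernel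

theorem centU_615 : rangeK centU (Nat.mul 615 124) 124 = true := by decide +kernel

theorem centU_616 : rangeK centU (Nat.mul 616 124) 124 = true := by decide +kernel

theorem centU_617 : rangeK centU (Nat.mul 617 124) 124 = true := by decide +kernel

theorem centU_618 : rangeK centU (Nat.mul 618 124) 124 = true := by decide +kernel

theorem centU_619 : rangeK centU (Nat.mul 619 124) 124 = true := by decide +kernel

theorem centU_620 : rangeK centU (Nat.mul 620 124) 124 = true := by decide +kernel

theorem centU_621 : rangeK centU (Nat.mul 621 124) 124 = true := by decide +kernel

theorem centU_622 : rangeK centU (Nat.mul 622 124) 124 = true := by decide +kernel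

theorem centU_623 : rangeK centU (Nat.mul 623 124) 124 = true := by decide +kernel

theorem centU_624 : rangeK centU (Nat.mul 624 124) 124 = true := by decide +kernel

theorem centU_625 : rangeK centU (Nat.mul 625 124) 124 = true := by decide +kernel

theorem centU_626 : rangeK centU (Nat.mul 626 124) 124 = true := by decide +kernel

theorem centU_part18 : ∀ q, 73656 ≤ q → q < 77748 → centU q = true := by
  have h : ∀ i < 33, rangeK centU (Nat.mul (594 + i) 124) 124 = true := by
    intro i hi
    interval_cases i
    · exact centU_594
    · exact centU_595
    · exact centU_596
    · exact centU_597
    · exact centU_598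
    · exact centU_599
    · exact centU_600
    · exact centU_601
    · exact centU_602
    · exact centU_603
    · exact centU_604
    · exact centU_605
    · exact centU_606
    · exact centU_607
    · exact centU_608
    · exact centU_609
    · exact centU_610
    · exact centU_611
    · exact centU_612
    · exact centU_613
    · exact centU_614
    · exact centU_615
    · exact centU_616
    · exact centU_617
    · exact centU_618
    · exact centU_619
    · exact centU_620
    · exact centU_621
    · exact centU_622
    · exact centU_623
    · exact centU_624
    · exact centU_625
    · exact centU_626
  exact cover_part centU 594 124 33 (by norm_num) h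

end Cfsg.Agent.Lib.helper17.OnOut
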