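import Cfsg.Agent.Lib.helper17.OnOut.CentDefs

set_option autoImplicit false

/-! Part 19 of the second search (generated, helper17) -/

namespace Cfsg.Agent.Lib.helper17.OnOut

open Cfsg.Agent.Lib.Helper12.TC

theorem centU_627 : rangeK centU (Nat.mul 627 124) 124 = true := by decide +kernel

theorem centU_628 : rangeK centU (Nat.mul 628 124) 124 = true := by decide +kernel

theorem centU_629 : rangeK centU (Nat.mul 629 124) 124 = true := by decide +kernel

theorem centU_630 : rangeK centU (Nat.mul 630 124) 124 = true := by decide +kernel

theorem centU_631 : rangeK centU (Nat.mul 631 124) 124 = true := by decide +kernel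

theorem centU_632 : rangeK centU (Nat.mul 632 124) 124 = true := by decide +kernel

theorem centU_633 : rangeK centU (Nat.mul 633 124) 124 = true := by decide +kernel

theorem centU_634 : rangeK centU (Nat.mul 634 124) 124 = true := by decide +kernel

theorem centU_635 : rangeK centU (Nat.mul 635 124) 124 = true := by decide +kernel

theorem centU_636 : rangeK centU (Nat.mul 636 124) 124 = true := by decide +kernel

theorem centU_637 : rangeK centU (Nat.mul 637 124) 124 = true := by decide +kernel

theorem centU_638 : rangeK centU (Nat.mul 638 124) 124 = true := by decide +kernel

theorem centU_639 : rangeK centU (Nat.mul 639 124) 124 = true := by decide +kernel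

theorem centU_640 : rangeK centU (Nat.mul 640 124) 124 = true := by decide +kernel

theorem centU_641 : rangeK centU (Nat.mul 641 124) 124 = true := by decide +kernel

theorem centU_642 : rangeK centU (Nat.mul 642 124) 124 = true := by decide +kernel

theorem centU_643 : rangeK centU (Nat.mul 643 124) 124 = true := by decide +kernel

theorem centU_644 : rangeK centU (Nat.mul 644 124) 124 = true := by decide +kernel

theorem centU_645 : rangeK centU (Nat.mul 645 124) 124 = true := by decide +kernel

theorem centU_646 : rangeK centU (Nat.mul 646 124) 124 = true := by decide +kernel

theorem centU_647 : rangeK centU (Nat.mul 647 124) 124 = true := by decide +kernel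

theorem centU_648 : rangeK centU (Nat.mul 648 124) 124 = true := by decide +kernel

theorem centU_649 : rangeK centU (Nat.mul 649 124) 124 = true := by decide +kernel

theorem centU_650 : rangeK centU (Nat.mul 650 124) 124 = true := by decide +kernel

theorem centU_651 : rangeK centU (Nat.mul 651 124) 124 = true := by decide +kernel

theorem centU_652 : rangeK centU (Nat.mul 652 124) 124 = true := by decide +kernel

theorem centU_653 : rangeK centU (Nat.mul 653 124) 124 = true := by decide +kernel

theorem centU_654 : rangeK centU (Nat.mul 654 124) 124 = true := by decide +kernel

theorem centU_655 : rangeK centU (Nat.mul 655 124) 124 = true := by decide +kernel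

theorem centU_656 : rangeK centU (Nat.mul 656 124) 124 = true := by decide +kernel

theorem centU_657 : rangeK centU (Nat.mul 657 124) 124 = true := by decide +kernel

theorem centU_658 : rangeK centU (Nat.mul 658 124) 124 = true := by decide +kernel

theorem centU_659 : rangeK centU (Nat.mul 659 124) 124 = true := by decide +kernel

theorem centU_part19 : ∀ q, 77748 ≤ q → q < 81840 → centU q = true := by
  have h : ∀ i < 33, rangeK centU (Nat.mul (627 + i) 124) 124 = true := by
    intro i hi
    interval_cases i
    · exact centU_627
    · exact centU_628
    · exact centU_629
    · exact centU_630
    · exact centU_631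
    · exact centU_632
    · exact centU_633
    · exact centU_634
    · exact centU_635
    · exact centU_636
    · exact centU_637
    · exact centU_638
    · exact centU_639
    · exact centU_640
    · exact centU_641
    · exact centU_642
    · exact centU_643
    · exact centU_644
    · exact centU_645
    · exact centU_646
    · exact centU_647
    · exact centU_648
    · exact centU_649
    · exact centU_650
    · exact centU_651
    · exact centU_652
    · exact centU_653
    · exact centU_654
    · exact centU_655
    · exact centU_656
    · exact centU_657
    · exact centU_658
    · exact centU_659
  exact cover_part centU 627 124 33 (by norm_num) h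

end Cfsg.Agent.Lib.helper17.OnOut
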