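import Cfsg.Agent.Lib.helper17.OnOut.CentDefs

set_option autoImplicit false

/-! Part 2 of the second search (generated, helper17) -/

namespace Cfsg.Agent.Lib.helper17.OnOut

open Cfsg.Agent.Lib.Helper12.TC

theorem centU_66 : rangeK centU (Nat.mul 66 124) 124 = true := by decide +kernel

theorem centU_67 : rangeK centU (Nat.mul 67 124) 124 = true := by decide +kernel

theorem centU_68 : rangeK centU (Nat.mul 68 124) 124 = true := by decide +kernel

theorem centU_69 : rangeK centU (Nat.mul 69 124) 124 = true := by decide +kernel

theorem centU_70 : rangeK centU (Nat.mul 70 124) 124 = true := by decide +kernel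

theorem centU_71 : rangeK centU (Nat.mul 71 124) 124 = true := by decide +kernel

theorem centU_72 : rangeK centU (Nat.mul 72 124) 124 = true := by decide +kernel

theorem centU_73 : rangeK centU (Nat.mul 73 124) 124 = true := by decide +kernel

theorem centU_74 : rangeK centU (Nat.mul 74 124) 124 = true := by decide +kernel

theorem centU_75 : rangeK centU (Nat.mul 75 124) 124 = true := by decide +kernel

theorem centU_76 : rangeK centU (Nat.mul 76 124) 124 = true := by decide +kernel

theorem centU_77 : rangeK centU (Nat.mul 77 124) 124 = true := by decide +kernel

theorem centU_78 : rangeK centU (Nat.mul 78 124) 124 = true := by decide +kernel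

theorem centU_79 : rangeK centU (Nat.mul 79 124) 124 = true := by decide +kernel

theorem centU_80 : rangeK centU (Nat.mul 80 124) 124 = true := by decide +kernel

theorem centU_81 : rangeK centU (Nat.mul 81 124) 124 = true := by decide +kernel

theorem centU_82 : rangeK centU (Nat.mul 82 124) 124 = true := by decide +kernel

theorem centU_83 : rangeK centU (Nat.mul 83 124) 124 = true := by decide +kernel

theorem centU_84 : rangeK centU (Nat.mul 84 124) 124 = true := by decide +kernel

theorem centU_85 : rangeK centU (Nat.mul 85 124) 124 = true := by decide +kernel

theorem centU_86 : rangeK centU (Nat.mul 86 124) 124 = true := by decide +kernel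

theorem centU_87 : rangeK centU (Nat.mul 87 124) 124 = true := by decide +kernel

theorem centU_88 : rangeK centU (Nat.mul 88 124) 124 = true := by decide +kernel

theorem centU_89 : rangeK centU (Nat.mul 89 124) 124 = true := by decide +kernel

theorem centU_90 : rangeK centU (Nat.mul 90 124) 124 = true := by decide +kernel

theorem centU_91 : rangeK centU (Nat.mul 91 124) 124 = true := by decide +kernel

theorem centU_92 : rangeK centU (Nat.mul 92 124) 124 = true := by decide +kernel

theorem centU_93 : rangeK centU (Nat.mul 93 124) 124 = true := by decide +kernel

theorem centU_94 : rangeK centU (Nat.mul 94 124) 124 = true := by decide +kernel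

theorem centU_95 : rangeK centU (Nat.mul 95 124) 124 = true := by decide +kernel

theorem centU_96 : rangeK centU (Nat.mul 96 124) 124 = true := by decide +kernel

theorem centU_97 : rangeK centU (Nat.mul 97 124) 124 = true := by decide +kernel

theorem centU_98 : rangeK centU (Nat.mul 98 124) 124 = true := by decide +kernel

theorem centU_part2 : ∀ q, 8184 ≤ q → q < 12276 → centU q = true := by
  have h : ∀ i < 33, rangeK centU (Nat.mul (66 + i) 124) 124 = true := by
    intro i hi
    interval_cases i
    · exact centU_66
    · exact centU_67
    · exact centU_68
    · exact centU_69
    · exact centU_70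
    · exact centU_71
    · exact centU_72
    · exact centU_73
    · exact centU_74
    · exact centU_75
    · exact centU_76
    · exact centU_77
    · exact centU_78
    · exact centU_79
    · exact centU_80
    · exact centU_81
    · exact centU_82
    · exact centU_83
    · exact centU_84
    · exact centU_85
    · exact centU_86
    · exact centU_87
    · exact centU_88
    · exact centU_89
    · exact centU_90
    · exact centU_91
    · exact centU_92
    · exact centU_93
    · exact centU_94
    · exact centU_95
    · exact centU_96
    · exact centU_97
    · exact centU_98
  exact cover_part centU 66 124 33 (by norm_num) h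

end Cfsg.Agent.Lib.helper17.OnOut
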