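import Cfsg.Agent.Lib.helper17.OnOut.CentDefs

set_option autoImplicit false

/-! Part 20 of the second search (generated, helper17) -/

namespace Cfsg.Agent.Lib.helper17.OnOut

open Cfsg.Agent.Lib.Helper12.TC

theorem centU_660 : rangeK centU (Nat.mul 660 124) 124 = true := by decide +kernel

theorem centU_661 : rangeK centU (Nat.mul 661 124) 124 = true := by decide +kernel

theorem centU_662 : rangeK centU (Nat.mul 662 124) 124 = true := by decide +kernel

theorem centU_663 : rangeK centU (Nat.mul 663 124) 124 = true := by decide +kernel

theorem centU_664 : rangeK centU (Nat.mul 664 124) 124 = true := by decide +kernel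

theorem centU_665 : rangeK centU (Nat.mul 665 124) 124 = true := by decide +kernel

theorem centU_666 : rangeK centU (Nat.mul 666 124) 124 = true := by decide +kernel

theorem centU_667 : rangeK centU (Nat.mul 667 124) 124 = true := by decide +kernel

theorem centU_668 : rangeK centU (Nat.mul 668 124) 124 = true := by decide +kernel

theorem centU_669 : rangeK centU (Nat.mul 669 124) 124 = true := by decide +kernel

theorem centU_670 : rangeK centU (Nat.mul 670 124) 124 = true := by decide +kernel

theorem centU_671 : rangeK centU (Nat.mul 671 124) 124 = true := by decide +kernel

theorem centU_672 : rangeK centU (Nat.mul 672 124) 124 = true := by decide +kernel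

theorem centU_673 : rangeK centU (Nat.mul 673 124) 124 = true := by decide +kernel

theorem centU_674 : rangeK centU (Nat.mul 674 124) 124 = true := by decide +kernel

theorem centU_675 : rangeK centU (Nat.mul 675 124) 124 = true := by decide +kernel

theorem centU_676 : rangeK centU (Nat.mul 676 124) 124 = true := by decide +kernel

theorem centU_677 : rangeK centU (Nat.mul 677 124) 124 = true := by decide +kernel

theorem centU_678 : rangeK centU (Nat.mul 678 124) 124 = true := by decide +kernel

theorem centU_679 : rangeK centU (Nat.mul 679 124) 124 = true := by decide +kernel

theorem centU_680 : rangeK centU (Nat.mul 680 124) 124 = true := by decide +kernel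

theorem centU_681 : rangeK centU (Nat.mul 681 124) 124 = true := by decide +kernel

theorem centU_682 : rangeK centU (Nat.mul 682 124) 124 = true := by decide +kernel

theorem centU_683 : rangeK centU (Nat.mul 683 124) 124 = true := by decide +kernel

theorem centU_684 : rangeK centU (Nat.mul 684 124) 124 = true := by decide +kernel

theorem centU_685 : rangeK centU (Nat.mul 685 124) 124 = true := by decide +kernel

theorem centU_686 : rangeK centU (Nat.mul 686 124) 124 = true := by decide +kernel

theorem centU_687 : rangeK centU (Nat.mul 687 124) 124 = true := by decide +kernel

theorem centU_688 : rangeK centU (Nat.mul 688 124) 124 = true := by decide +kernel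

theorem centU_689 : rangeK centU (Nat.mul 689 124) 124 = true := by decide +kernel

theorem centU_690 : rangeK centU (Nat.mul 690 124) 124 = true := by decide +kernel

theorem centU_691 : rangeK centU (Nat.mul 691 124) 124 = true := by decide +kernel

theorem centU_692 : rangeK centU (Nat.mul 692 124) 124 = true := by decide +kernel

theorem centU_part20 : ∀ q, 81840 ≤ q → q < 85932 → centU q = true := by
  have h : ∀ i < 33, rangeK centU (Nat.mul (660 + i) 124) 124 = true := by
    intro i hi
    interval_cases i
    · exact centU_660
    · exact centU_661
    · exact centU_662
    · exact centU_663
    · exact centU_664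
    · exact centU_665
    · exact centU_666
    · exact centU_667
    · exact centU_668
    · exact centU_669
    · exact centU_670
    · exact centU_671
    · exact centU_672
    · exact centU_673
    · exact centU_674
    · exact centU_675
    · exact centU_676
    · exact centU_677
    · exact centU_678
    · exact centU_679
    · exact centU_680
    · exact centU_681
    · exact centU_682
    · exact centU_683
    · exact centU_684
    · exact centU_685
    · exact centU_686
    · exact centU_687
    · exact centU_688
    · exact centU_689
    · exact centU_690
    · exact centU_691
    · exact centU_692
  exact cover_part centU 660 124 33 (by norm_num) h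

end Cfsg.Agent.Lib.helper17.OnOut
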