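import Cfsg.Agent.Lib.helper17.OnOut.CentDefs

set_option autoImplicit false

/-! Part 21 of the second search (generated, helper17) -/

namespace Cfsg.Agent.Lib.helper17.OnOut

open Cfsg.Agent.Lib.Helper12.TC

theorem centU_693 : rangeK centU (Nat.mul 693 124) 124 = true := by decide +kernel

theorem centU_694 : rangeK centU (Nat.mul 694 124) 124 = true := by decide +kernel

theorem centU_695 : rangeK centU (Nat.mul 695 124) 124 = true := by decide +kernel

theorem centU_696 : rangeK centU (Nat.mul 696 124) 124 = true := by decide +kernel

theorem centU_697 : rangeK centU (Nat.mul 697 124) 124 = true := by decide +kernel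

theorem centU_698 : rangeK centU (Nat.mul 698 124) 124 = true := by decide +kernel

theorem centU_699 : rangeK centU (Nat.mul 699 124) 124 = true := by decide +kernel

theorem centU_700 : rangeK centU (Nat.mul 700 124) 124 = true := by decide +kernel

theorem centU_701 : rangeK centU (Nat.mul 701 124) 124 = true := by decide +kernel

theorem centU_702 : rangeK centU (Nat.mul 702 124) 124 = true := by decide +kernel

theorem centU_703 : rangeK centU (Nat.mul 703 124) 124 = true := by decide +kernel

theorem centU_704 : rangeK centU (Nat.mul 704 124) 124 = true := by decide +kernel

theorem centU_705 : rangeK centU (Nat.mul 705 124) 124 = true := by decide +kernel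

theorem centU_706 : rangeK centU (Nat.mul 706 124) 124 = true := by decide +kernel

theorem centU_707 : rangeK centU (Nat.mul 707 124) 124 = true := by decide +kernel

theorem centU_708 : rangeK centU (Nat.mul 708 124) 124 = true := by decide +kernel

theorem centU_709 : rangeK centU (Nat.mul 709 124) 124 = true := by decide +kernel

theorem centU_710 : rangeK centU (Nat.mul 710 124) 124 = true := by decide +kernel

theorem centU_711 : rangeK centU (Nat.mul 711 124) 124 = true := by decide +kernel

theorem centU_712 : rangeK centU (Nat.mul 712 124) 124 = true := by decide +kernel

theorem centU_713 : rangeK centU (Nat.mul 713 124) 124 = true := by decide +kernel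

theorem centU_714 : rangeK centU (Nat.mul 714 124) 124 = true := by decide +kernel

theorem centU_715 : rangeK centU (Nat.mul 715 124) 124 = true := by decide +kernel

theorem centU_716 : rangeK centU (Nat.mul 716 124) 124 = true := by decide +kernel

theorem centU_717 : rangeK centU (Nat.mul 717 124) 124 = true := by decide +kernel

theorem centU_718 : rangeK centU (Nat.mul 718 124) 124 = true := by decide +kernel

theorem centU_719 : rangeK centU (Nat.mul 719 124) 124 = true := by decide +kernel

theorem centU_720 : rangeK centU (Nat.mul 720 124) 124 = true := by decide +kernel

theorem centU_721 : rangeK centU (Nat.mul 721 124) 124 = true := by decide +kernel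

theorem centU_722 : rangeK centU (Nat.mul 722 124) 124 = true := by decide +kernel

theorem centU_723 : rangeK centU (Nat.mul 723 124) 124 = true := by decide +kernel

theorem centU_724 : rangeK centU (Nat.mul 724 124) 124 = true := by decide +kernel

theorem centU_725 : rangeK centU (Nat.mul 725 124) 124 = true := by decide +kernel

theorem centU_part21 : ∀ q, 85932 ≤ q → q < 90024 → centU q = true := by
  have h : ∀ i < 33, rangeK centU (Nat.mul (693 + i) 124) 124 = true := by
    intro i hi
    interval_cases i
    · exact centU_693
    · exact centU_694
    · exact centU_695
    · exact centU_696
    · exact centU_697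
    · exact centU_698
    · exact centU_699
    · exact centU_700
    · exact centU_701
    · exact centU_702
    · exact centU_703
    · exact centU_704
    · exact centU_705
    · exact centU_706
    · exact centU_707
    · exact centU_708
    · exact centU_709
    · exact centU_710
    · exact centU_711
    · exact centU_712
    · exact centU_713
    · exact centU_714
    · exact centU_715
    · exact centU_716
    · exact centU_717
    · exact centU_718
    · exact centU_719
    · exact centU_720
    · exact centU_721
    · exact centU_722
    · exact centU_723
    · exact centU_724
    · exact centU_725
  exact cover_part centU 693 124 33 (by norm_num) h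

end Cfsg.Agent.Lib.helper17.OnOut
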