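import Cfsg.Agent.Lib.helper17.OnOut.CentDefs

set_option autoImplicit false

/-! Part 22 of the second search (generated, helper17) -/

namespace Cfsg.Agent.Lib.helper17.OnOut

open Cfsg.Agent.Lib.Helper12.TC

theorem centU_726 : rangeK centU (Nat.mul 726 124) 124 = true := by decide +kernel

theorem centU_727 : rangeK centU (Nat.mul 727 124) 124 = true := by decide +kernel

theorem centU_728 : rangeK centU (Nat.mul 728 124) 124 = true := by decide +kernel

theorem centU_729 : rangeK centU (Nat.mul 729 124) 124 = true := by decide +kernel

theorem centU_730 : rangeK centU (Nat.mul 730 124) 124 = true := by decide +kernel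

theorem centU_731 : rangeK centU (Nat.mul 731 124) 124 = true := by decide +kernel

theorem centU_732 : rangeK centU (Nat.mul 732 124) 124 = true := by decide +kernel

theorem centU_733 : rangeK centU (Nat.mul 733 124) 124 = true := by decide +kernel

theorem centU_734 : rangeK centU (Nat.mul 734 124) 124 = true := by decide +kernel

theorem centU_735 : rangeK centU (Nat.mul 735 124) 124 = true := by decide +kernel

theorem centU_736 : rangeK centU (Nat.mul 736 124) 124 = true := by decide +kernel

theorem centU_737 : rangeK centU (Nat.mul 737 124) 124 = true := by decide +kernel

theorem centU_738 : rangeK centU (Nat.mul 738 124) 124 = true := by decide +kernel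

theorem centU_739 : rangeK centU (Nat.mul 739 124) 124 = true := by decide +kernel

theorem centU_740 : rangeK centU (Nat.mul 740 124) 124 = true := by decide +kernel

theorem centU_741 : rangeK centU (Nat.mul 741 124) 124 = true := by decide +kernel

theorem centU_742 : rangeK centU (Nat.mul 742 124) 124 = true := by decide +kernel

theorem centU_743 : rangeK centU (Nat.mul 743 124) 124 = true := by decide +kernel

theorem centU_744 : rangeK centU (Nat.mul 744 124) 124 = true := by decide +kernel

theorem centU_745 : rangeK centU (Nat.mul 745 124) 124 = true := by decide +kernel

theorem centU_746 : rangeK centU (Nat.mul 746 124) 124 = true := by decide +kernel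

theorem centU_747 : rangeK centU (Nat.mul 747 124) 124 = true := by decide +kernel

theorem centU_748 : rangeK centU (Nat.mul 748 124) 124 = true := by decide +kernel

theorem centU_749 : rangeK centU (Nat.mul 749 124) 124 = true := by decide +kernel

theorem centU_750 : rangeK centU (Nat.mul 750 124) 124 = true := by decide +kernel

theorem centU_751 : rangeK centU (Nat.mul 751 124) 124 = true := by decide +kernel

theorem centU_752 : rangeK centU (Nat.mul 752 124) 124 = true := by decide +kernel

theorem centU_753 : rangeK centU (Nat.mul 753 124) 124 = true := by decide +kernel

theorem centU_754 : rangeK centU (Nat.mul 754 124) 124 = true := by decide +kernel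

theorem centU_755 : rangeK centU (Nat.mul 755 124) 124 = true := by decide +kernel

theorem centU_756 : rangeK centU (Nat.mul 756 124) 124 = true := by decide +kernel

theorem centU_757 : rangeK centU (Nat.mul 757 124) 124 = true := by decide +kernel

theorem centU_758 : rangeK centU (Nat.mul 758 124) 124 = true := by decide +kernel

theorem centU_part22 : ∀ q, 90024 ≤ q → q < 94116 → centU q = true := by
  have h : ∀ i < 33, rangeK centU (Nat.mul (726 + i) 124) 124 = true := by
    intro i hi
    interval_cases i
    · exact centU_726
    · exact centU_727
    · exact centU_728
    · exact centU_729
    · exact centU_730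
    · exact centU_731
    · exact centU_732
    · exact centU_733
    · exact centU_734
    · exact centU_735
    · exact centU_736
    · exact centU_737
    · exact centU_738
    · exact centU_739
    · exact centU_740
    · exact centU_741
    · exact centU_742
    · exact centU_743
    · exact centU_744
    · exact centU_745
    · exact centU_746
    · exact centU_747
    · exact centU_748
    · exact centU_749
    · exact centU_750
    · exact centU_751
    · exact centU_752
    · exact centU_753
    · exact centU_754
    · exact centU_755
    · exact centU_756
    · exact centU_757
    · exact centU_758
  exact cover_part centU 726 124 33 (by norm_num) h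

end Cfsg.Agent.Lib.helper17.OnOut
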