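import Cfsg.Agent.Lib.helper17.OnOut.CentDefs

set_option autoImplicit false

/-! Part 23 of the second search (generated, helper17) -/

namespace Cfsg.Agent.Lib.helper17.OnOut

open Cfsg.Agent.Lib.Helper12.TC

theorem centU_759 : rangeK centU (Nat.mul 759 124) 124 = true := by decide +kernel

theorem centU_760 : rangeK centU (Nat.mul 760 124) 124 = true := by decide +kernel

theorem centU_761 : rangeK centU (Nat.mul 761 124) 124 = true := by decide +kernel

theorem centU_762 : rangeK centU (Nat.mul 762 124) 124 = true := by decide +kernel

theorem centU_763 : rangeK centU (Nat.mul 763 124) 124 = true := by decide +kernel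

theorem centU_764 : rangeK centU (Nat.mul 764 124) 124 = true := by decide +kernel

theorem centU_765 : rangeK centU (Nat.mul 765 124) 124 = true := by decide +kernel

theorem centU_766 : rangeK centU (Nat.mul 766 124) 124 = true := by decide +kernel

theorem centU_767 : rangeK centU (Nat.mul 767 124) 124 = true := by decide +kernel

theorem centU_768 : rangeK centU (Nat.mul 768 124) 124 = true := by decide +kernel

theorem centU_769 : rangeK centU (Nat.mul 769 124) 124 = true := by decide +kernel

theorem centU_770 : rangeK centU (Nat.mul 770 124) 124 = true := by decide +kernel

theorem centU_771 : rangeK centU (Nat.mul 771 124) 124 = true := by decide +kernel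

theorem centU_772 : rangeK centU (Nat.mul 772 124) 124 = true := by decide +kernel

theorem centU_773 : rangeK centU (Nat.mul 773 124) 124 = true := by decide +kernel

theorem centU_774 : rangeK centU (Nat.mul 774 124) 124 = true := by decide +kernel

theorem centU_775 : rangeK centU (Nat.mul 775 124) 124 = true := by decide +kernel

theorem centU_776 : rangeK centU (Nat.mul 776 124) 124 = true := by decide +kernel

theorem centU_777 : rangeK centU (Nat.mul 777 124) 124 = true := by decide +kernel

theorem centU_778 : rangeK centU (Nat.mul 778 124) 124 = true := by decide +kernel

theorem centU_779 : rangeK centU (Nat.mul 779 124) 124 = true := by decide +kernel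

theorem centU_780 : rangeK centU (Nat.mul 780 124) 124 = true := by decide +kernel

theorem centU_781 : rangeK centU (Nat.mul 781 124) 124 = true := by decide +kernel

theorem centU_782 : rangeK centU (Nat.mul 782 124) 124 = true := by decide +kernel

theorem centU_783 : rangeK centU (Nat.mul 783 124) 124 = true := by decide +kernel

theorem centU_784 : rangeK centU (Nat.mul 784 124) 124 = true := by decide +kernel

theorem centU_785 : rangeK centU (Nat.mul 785 124) 124 = true := by decide +kernel

theorem centU_786 : rangeK centU (Nat.mul 786 124) 124 = true := by decide +kernel

theorem centU_787 : rangeK centU (Nat.mul 787 124) 124 = true := by decide +kernel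

theorem centU_788 : rangeK centU (Nat.mul 788 124) 124 = true := by decide +kernel

theorem centU_789 : rangeK centU (Nat.mul 789 124) 124 = true := by decide +kernel

theorem centU_790 : rangeK centU (Nat.mul 790 124) 124 = true := by decide +kernel

theorem centU_791 : rangeK centU (Nat.mul 791 124) 124 = true := by decide +kernel

theorem centU_part23 : ∀ q, 94116 ≤ q → q < 98208 → centU q = true := by
  have h : ∀ i < 33, rangeK centU (Nat.mul (759 + i) 124) 124 = true := by
    intro i hi
    interval_cases i
    · exact centU_759
    · exact centU_760
    · exact centU_761
    · exact centU_762
    · exact centU_763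
    · exact centU_764
    · exact centU_765
    · exact centU_766
    · exact centU_767
    · exact centU_768
    · exact centU_769
    · exact centU_770
    · exact centU_771
    · exact centU_772
    · exact centU_773
    · exact centU_774
    · exact centU_775
    · exact centU_776
    · exact centU_777
    · exact centU_778
    · exact centU_779
    · exact centU_780
    · exact centU_781
    · exact centU_782
    · exact centU_783
    · exact centU_784
    · exact centU_785
    · exact centU_786
    · exact centU_787
    · exact centU_788
    · exact centU_789
    · exact centU_790
    · exact centU_791
  exact cover_part centU 759 124 33 (by norm_num) h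

end Cfsg.Agent.Lib.helper17.OnOut
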