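import Cfsg.Agent.Lib.helper17.OnOut.CentDefs

set_option autoImplicit false

/-! Part 25 of the second search (generated, helper17) -/

namespace Cfsg.Agent.Lib.helper17.OnOut

open Cfsg.Agent.Lib.Helper12.TC

theorem centU_825 : rangeK centU (Nat.mul 825 124) 124 = true := by decide +kernel

theorem centU_826 : rangeK centU (Nat.mul 826 124) 124 = true := by decide +kernel

theorem centU_827 : rangeK centU (Nat.mul 827 124) 124 = true := by decide +kernel

theorem centU_828 : rangeK centU (Nat.mul 828 124) 124 = true := by decide +kernel

theorem centU_829 : rangeK centU (Nat.mul 829 124) 124 = true := by decide +kernel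

theorem centU_830 : rangeK centU (Nat.mul 830 124) 124 = true := by decide +kernel

theorem centU_831 : rangeK centU (Nat.mul 831 124) 124 = true := by decide +kernel

theorem centU_832 : rangeK centU (Nat.mul 832 124) 124 = true := by decide +kernel

theorem centU_833 : rangeK centU (Nat.mul 833 124) 124 = true := by decide +kernel

theorem centU_834 : rangeK centU (Nat.mul 834 124) 124 = true := by decide +kernel

theorem centU_835 : rangeK centU (Nat.mul 835 124) 124 = true := by decide +kernel

theorem centU_836 : rangeK centU (Nat.mul 836 124) 124 = true := by decide +kernel

theorem centU_837 : rangeK centU (Nat.mul 837 124) 124 = true := by decide +kernel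

theorem centU_838 : rangeK centU (Nat.mul 838 124) 124 = true := by decide +kernel

theorem centU_839 : rangeK centU (Nat.mul 839 124) 124 = true := by decide +kernel

theorem centU_840 : rangeK centU (Nat.mul 840 124) 124 = true := by decide +kernel

theorem centU_841 : rangeK centU (Nat.mul 841 124) 124 = true := by decide +kernel

theorem centU_842 : rangeK centU (Nat.mul 842 124) 124 = true := by decide +kernel

theorem centU_843 : rangeK centU (Nat.mul 843 124) 124 = true := by decide +kernel

theorem centU_844 : rangeK centU (Nat.mul 844 124) 124 = true := by decide +kernel

theorem centU_845 : rangeK centU (Nat.mul 845 124) 124 = true := by decide +kernel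

theorem centU_846 : rangeK centU (Nat.mul 846 124) 124 = true := by decide +kernel

theorem centU_847 : rangeK centU (Nat.mul 847 124) 124 = true := by decide +kernel

theorem centU_848 : rangeK centU (Nat.mul 848 124) 124 = true := by decide +kernel

theorem centU_849 : rangeK centU (Nat.mul 849 124) 124 = true := by decide +kernel

theorem centU_850 : rangeK centU (Nat.mul 850 124) 124 = true := by decide +kernel

theorem centU_851 : rangeK centU (Nat.mul 851 124) 124 = true := by decide +kernel

theorem centU_852 : rangeK centU (Nat.mul 852 124) 124 = true := by decide +kernel

theorem centU_853 : rangeK centU (Nat.mul 853 124) 124 = true := by decide +kernel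

theorem centU_854 : rangeK centU (Nat.mul 854 124) 124 = true := by decide +kernel

theorem centU_855 : rangeK centU (Nat.mul 855 124) 124 = true := by decide +kernel

theorem centU_856 : rangeK centU (Nat.mul 856 124) 124 = true := by decide +kernel

theorem centU_857 : rangeK centU (Nat.mul 857 124) 124 = true := by decide +kernel

theorem centU_part25 : ∀ q, 102300 ≤ q → q < 106392 → centU q = true := by
  have h : ∀ i < 33, rangeK centU (Nat.mul (825 + i) 124) 124 = true := by
    intro i hi
    interval_cases i
    · exact centU_825
    · exact centU_826
    · exact centU_827
    · exact centU_828
    · exact centU_829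
    · exact centU_830
    · exact centU_831
    · exact centU_832
    · exact centU_833
    · exact centU_834
    · exact centU_835
    · exact centU_836
    · exact centU_837
    · exact centU_838
    · exact centU_839
    · exact centU_840
    · exact centU_841
    · exact centU_842
    · exact centU_843
    · exact centU_844
    · exact centU_845
    · exact centU_846
    · exact centU_847
    · exact centU_848
    · exact centU_849
    · exact centU_850
    · exact centU_851
    · exact centU_852
    · exact centU_853
    · exact centU_854
    · exact centU_855
    · exact centU_856
    · exact centU_857
  exact cover_part centU 825 124 33 (by norm_num) h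

end Cfsg.Agent.Lib.helper17.OnOut
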