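import Cfsg.Agent.Lib.helper17.OnOut.CentDefs

set_option autoImplicit false

/-! Part 26 of the second search (generated, helper17) -/

namespace Cfsg.Agent.Lib.helper17.OnOut

open Cfsg.Agent.Lib.Helper12.TC

theorem centU_858 : rangeK centU (Nat.mul 858 124) 124 = true := by decide +kernel

theorem centU_859 : rangeK centU (Nat.mul 859 124) 124 = true := by decide +kernel

theorem centU_860 : rangeK centU (Nat.mul 860 124) 124 = true := by decide +kernel

theorem centU_861 : rangeK centU (Nat.mul 861 124) 124 = true := by decide +kernel

theorem centU_862 : rangeK centU (Nat.mul 862 124) 124 = true := by decide +kernel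

theorem centU_863 : rangeK centU (Nat.mul 863 124) 124 = true := by decide +kernel

theorem centU_864 : rangeK centU (Nat.mul 864 124) 124 = true := by decide +kernel

theorem centU_865 : rangeK centU (Nat.mul 865 124) 124 = true := by decide +kernel

theorem centU_866 : rangeK centU (Nat.mul 866 124) 124 = true := by decide +kernel

theorem centU_867 : rangeK centU (Nat.mul 867 124) 124 = true := by decide +kernel

theorem centU_868 : rangeK centU (Nat.mul 868 124) 124 = true := by decide +kernel

theorem centU_869 : rangeK centU (Nat.mul 869 124) 124 = true := by decide +kernel

theorem centU_870 : rangeK centU (Nat.mul 870 124) 124 = true := by decide +kernel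

theorem centU_871 : rangeK centU (Nat.mul 871 124) 124 = true := by decide +kernel

theorem centU_872 : rangeK centU (Nat.mul 872 124) 124 = true := by decide +kernel

theorem centU_873 : rangeK centU (Nat.mul 873 124) 124 = true := by decide +kernel

theorem centU_874 : rangeK centU (Nat.mul 874 124) 124 = true := by decide +kernel

theorem centU_875 : rangeK centU (Nat.mul 875 124) 124 = true := by decide +kernel

theorem centU_876 : rangeK centU (Nat.mul 876 124) 124 = true := by decide +kernel

theorem centU_877 : rangeK centU (Nat.mul 877 124) 124 = true := by decide +kernel

theorem centU_878 : rangeK centU (Nat.mul 878 124) 124 = true := by decide +kernel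

theorem centU_879 : rangeK centU (Nat.mul 879 124) 124 = true := by decide +kernel

theorem centU_880 : rangeK centU (Nat.mul 880 124) 124 = true := by decide +kernel

theorem centU_881 : rangeK centU (Nat.mul 881 124) 124 = true := by decide +kernel

theorem centU_882 : rangeK centU (Nat.mul 882 124) 124 = true := by decide +kernel

theorem centU_883 : rangeK centU (Nat.mul 883 124) 124 = true := by decide +kernel

theorem centU_884 : rangeK centU (Nat.mul 884 124) 124 = true := by decide +kernel

theorem centU_885 : rangeK centU (Nat.mul 885 124) 124 = true := by decide +kernel

theorem centU_886 : rangeK centU (Nat.mul 886 124) 124 = true := by decide +kernel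

theorem centU_887 : rangeK centU (Nat.mul 887 124) 124 = true := by decide +kernel

theorem centU_888 : rangeK centU (Nat.mul 888 124) 124 = true := by decide +kernel

theorem centU_889 : rangeK centU (Nat.mul 889 124) 124 = true := by decide +kernel

theorem centU_890 : rangeK centU (Nat.mul 890 124) 124 = true := by decide +kernel

theorem centU_part26 : ∀ q, 106392 ≤ q → q < 110484 → centU q = true := by
  have h : ∀ i < 33, rangeK centU (Nat.mul (858 + i) 124) 124 = true := by
    intro i hi
    interval_cases i
    · exact centU_858
    · exact centU_859
    · exact centU_860
    · exact centU_861
    · exact centU_862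
    · exact centU_863
    · exact centU_864
    · exact centU_865
    · exact centU_866
    · exact centU_867
    · exact centU_868
    · exact centU_869
    · exact centU_870
    · exact centU_871
    · exact centU_872
    · exact centU_873
    · exact centU_874
    · exact centU_875
    · exact centU_876
    · exact centU_877
    · exact centU_878
    · exact centU_879
    · exact centU_880
    · exact centU_881
    · exact centU_882
    · exact centU_883
    · exact centU_884
    · exact centU_885
    · exact centU_886
    · exact centU_887
    · exact centU_888
    · exact centU_889
    · exact centU_890
  exact cover_part centU 858 124 33 (by norm_num) h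

end Cfsg.Agent.Lib.helper17.OnOut
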