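import Cfsg.Agent.Lib.helper17.OnOut.CentDefs

set_option autoImplicit false

/-! Part 27 of the second search (generated, helper17) -/

namespace Cfsg.Agent.Lib.helper17.OnOut

open Cfsg.Agent.Lib.Helper12.TC

theorem centU_891 : rangeK centU (Nat.mul 891 124) 124 = true := by decide +kernel

theorem centU_892 : rangeK centU (Nat.mul 892 124) 124 = true := by decide +kernel

theorem centU_893 : rangeK centU (Nat.mul 893 124) 124 = true := by decide +kernel

theorem centU_894 : rangeK centU (Nat.mul 894 124) 124 = true := by decide +kernel

theorem centU_895 : rangeK centU (Nat.mul 895 124) 124 = true := by decide +kernel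

theorem centU_896 : rangeK centU (Nat.mul 896 124) 124 = true := by decide +kernel

theorem centU_897 : rangeK centU (Nat.mul 897 124) 124 = true := by decide +kernel

theorem centU_898 : rangeK centU (Nat.mul 898 124) 124 = true := by decide +kernel

theorem centU_899 : rangeK centU (Nat.mul 899 124) 124 = true := by decide +kernel

theorem centU_900 : rangeK centU (Nat.mul 900 124) 124 = true := by decide +kernel

theorem centU_901 : rangeK centU (Nat.mul 901 124) 124 = true := by decide +kernel

theorem centU_902 : rangeK centU (Nat.mul 902 124) 124 = true := by decide +kernel

theorem centU_903 : rangeK centU (Nat.mul 903 124) 124 = true := by decide +kernel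

theorem centU_904 : rangeK centU (Nat.mul 904 124) 124 = true := by decide +kernel

theorem centU_905 : rangeK centU (Nat.mul 905 124) 124 = true := by decide +kernel

theorem centU_906 : rangeK centU (Nat.mul 906 124) 124 = true := by decide +kernel

theorem centU_907 : rangeK centU (Nat.mul 907 124) 124 = true := by decide +kernel

theorem centU_908 : rangeK centU (Nat.mul 908 124) 124 = true := by decide +kernel

theorem centU_909 : rangeK centU (Nat.mul 909 124) 124 = true := by decide +kernel

theorem centU_910 : rangeK centU (Nat.mul 910 124) 124 = true := by decide +kernel

theorem centU_911 : rangeK centU (Nat.mul 911 124) 124 = true := by decide +kernel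

theorem centU_912 : rangeK centU (Nat.mul 912 124) 124 = true := by decide +kernel

theorem centU_913 : rangeK centU (Nat.mul 913 124) 124 = true := by decide +kernel

theorem centU_914 : rangeK centU (Nat.mul 914 124) 124 = true := by decide +kernel

theorem centU_915 : rangeK centU (Nat.mul 915 124) 124 = true := by decide +kernel

theorem centU_916 : rangeK centU (Nat.mul 916 124) 124 = true := by decide +kernel

theorem centU_917 : rangeK centU (Nat.mul 917 124) 124 = true := by decide +kernel

theorem centU_918 : rangeK centU (Nat.mul 918 124) 124 = true := by decide +kernel

theorem centU_919 : rangeK centU (Nat.mul 919 124) 124 = true := by decide +kernel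

theorem centU_920 : rangeK centU (Nat.mul 920 124) 124 = true := by decide +kernel

theorem centU_921 : rangeK centU (Nat.mul 921 124) 124 = true := by decide +kernel

theorem centU_922 : rangeK centU (Nat.mul 922 124) 124 = true := by decide +kernel

theorem centU_923 : rangeK centU (Nat.mul 923 124) 124 = true := by decide +kernel

theorem centU_part27 : ∀ q, 110484 ≤ q → q < 114576 → centU q = true := by
  have h : ∀ i < 33, rangeK centU (Nat.mul (891 + i) 124) 124 = true := by
    intro i hi
    interval_cases i
    · exact centU_891
    · exact centU_892
    · exact centU_893
    · exact centU_894
    · exact centU_895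
    · exact centU_896
    · exact centU_897
    · exact centU_898
    · exact centU_899
    · exact centU_900
    · exact centU_901
    · exact centU_902
    · exact centU_903
    · exact centU_904
    · exact centU_905
    · exact centU_906
    · exact centU_907
    · exact centU_908
    · exact centU_909
    · exact centU_910
    · exact centU_911
    · exact centU_912
    · exact centU_913
    · exact centU_914
    · exact centU_915
    · exact centU_916
    · exact centU_917
    · exact centU_918
    · exact centU_919
    · exact centU_920
    · exact centU_921
    · exact centU_922
    · exact centU_923
  exact cover_part centU 891 124 33 (by norm_num) h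

end Cfsg.Agent.Lib.helper17.OnOut
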