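import Cfsg.Agent.Lib.helper17.OnOut.CentDefs

set_option autoImplicit false

/-! Part 28 of the second search (generated, helper17) -/

namespace Cfsg.Agent.Lib.helper17.OnOut

open Cfsg.Agent.Lib.Helper12.TC

theorem centU_924 : rangeK centU (Nat.mul 924 124) 124 = true := by decide +kernel

theorem centU_925 : rangeK centU (Nat.mul 925 124) 124 = true := by decide +kernel

theorem centU_926 : rangeK centU (Nat.mul 926 124) 124 = true := by decide +kernel

theorem centU_927 : rangeK centU (Nat.mul 927 124) 124 = true := by decide +kernel

theorem centU_928 : rangeK centU (Nat.mul 928 124) 124 = true := by decide +kernel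

theorem centU_929 : rangeK centU (Nat.mul 929 124) 124 = true := by decide +kernel

theorem centU_930 : rangeK centU (Nat.mul 930 124) 124 = true := by decide +kernel

theorem centU_931 : rangeK centU (Nat.mul 931 124) 124 = true := by decide +kernel

theorem centU_932 : rangeK centU (Nat.mul 932 124) 124 = true := by decide +kernel

theorem centU_933 : rangeK centU (Nat.mul 933 124) 124 = true := by decide +kernel

theorem centU_934 : rangeK centU (Nat.mul 934 124) 124 = true := by decide +kernel

theorem centU_935 : rangeK centU (Nat.mul 935 124) 124 = true := by decide +kernel

theorem centU_936 : rangeK centU (Nat.mul 936 124) 124 = true := by decide +kernel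

theorem centU_937 : rangeK centU (Nat.mul 937 124) 124 = true := by decide +kernel

theorem centU_938 : rangeK centU (Nat.mul 938 124) 124 = true := by decide +kernel

theorem centU_939 : rangeK centU (Nat.mul 939 124) 124 = true := by decide +kernel

theorem centU_940 : rangeK centU (Nat.mul 940 124) 124 = true := by decide +kernel

theorem centU_941 : rangeK centU (Nat.mul 941 124) 124 = true := by decide +kernel

theorem centU_942 : rangeK centU (Nat.mul 942 124) 124 = true := by decide +kernel

theorem centU_943 : rangeK centU (Nat.mul 943 124) 124 = true := by decide +kernel

theorem centU_944 : rangeK centU (Nat.mul 944 124) 124 = true := by decide +kernel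

theorem centU_945 : rangeK centU (Nat.mul 945 124) 124 = true := by decide +kernel

theorem centU_946 : rangeK centU (Nat.mul 946 124) 124 = true := by decide +kernel

theorem centU_947 : rangeK centU (Nat.mul 947 124) 124 = true := by decide +kernel

theorem centU_948 : rangeK centU (Nat.mul 948 124) 124 = true := by decide +kernel

theorem centU_949 : rangeK centU (Nat.mul 949 124) 124 = true := by decide +kernel

theorem centU_950 : rangeK centU (Nat.mul 950 124) 124 = true := by decide +kernel

theorem centU_951 : rangeK centU (Nat.mul 951 124) 124 = true := by decide +kernel

theorem centU_952 : rangeK centU (Nat.mul 952 124) 124 = true := by decide +kernel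

theorem centU_953 : rangeK centU (Nat.mul 953 124) 124 = true := by decide +kernel

theorem centU_954 : rangeK centU (Nat.mul 954 124) 124 = true := by decide +kernel

theorem centU_955 : rangeK centU (Nat.mul 955 124) 124 = true := by decide +kernel

theorem centU_956 : rangeK centU (Nat.mul 956 124) 124 = true := by decide +kernel

theorem centU_part28 : ∀ q, 114576 ≤ q → q < 118668 → centU q = true := by
  have h : ∀ i < 33, rangeK centU (Nat.mul (924 + i) 124) 124 = true := by
    intro i hi
    interval_cases i
    · exact centU_924
    · exact centU_925
    · exact centU_926
    · exact centU_927
    · exact centU_928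
    · exact centU_929
    · exact centU_930
    · exact centU_931
    · exact centU_932
    · exact centU_933
    · exact centU_934
    · exact centU_935
    · exact centU_936
    · exact centU_937
    · exact centU_938
    · exact centU_939
    · exact centU_940
    · exact centU_941
    · exact centU_942
    · exact centU_943
    · exact centU_944
    · exact centU_945
    · exact centU_946
    · exact centU_947
    · exact centU_948
    · exact centU_949
    · exact centU_950
    · exact centU_951
    · exact centU_952
    · exact centU_953
    · exact centU_954
    · exact centU_955
    · exact centU_956
  exact cover_part centU 924 124 33 (by norm_num) h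

end Cfsg.Agent.Lib.helper17.OnOut
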