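import Cfsg.Agent.Lib.helper17.OnOut.CentDefs

set_option autoImplicit false

/-! Part 29 of the second search (generated, helper17) -/

namespace Cfsg.Agent.Lib.helper17.OnOut

open Cfsg.Agent.Lib.Helper12.TC

theorem centU_957 : rangeK centU (Nat.mul 957 124) 124 = true := by decide +kernel

theorem centU_958 : rangeK centU (Nat.mul 958 124) 124 = true := by decide +kernel

theorem centU_959 : rangeK centU (Nat.mul 959 124) 124 = true := by decide +kernel

theorem centU_960 : rangeK centU (Nat.mul 960 124) 124 = true := by decide +kernel

theorem centU_961 : rangeK centU (Nat.mul 961 124) 124 = true := by decide +kernel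

theorem centU_962 : rangeK centU (Nat.mul 962 124) 124 = true := by decide +kernel

theorem centU_963 : rangeK centU (Nat.mul 963 124) 124 = true := by decide +kernel

theorem centU_964 : rangeK centU (Nat.mul 964 124) 124 = true := by decide +kernel

theorem centU_965 : rangeK centU (Nat.mul 965 124) 124 = true := by decide +kernel

theorem centU_966 : rangeK centU (Nat.mul 966 124) 124 = true := by decide +kernel

theorem centU_967 : rangeK centU (Nat.mul 967 124) 124 = true := by decide +kernel

theorem centU_968 : rangeK centU (Nat.mul 968 124) 124 = true := by decide +kernel

theorem centU_969 : rangeK centU (Nat.mul 969 124) 124 = true := by decide +kernel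

theorem centU_970 : rangeK centU (Nat.mul 970 124) 124 = true := by decide +kernel

theorem centU_971 : rangeK centU (Nat.mul 971 124) 124 = true := by decide +kernel

theorem centU_972 : rangeK centU (Nat.mul 972 124) 124 = true := by decide +kernel

theorem centU_973 : rangeK centU (Nat.mul 973 124) 124 = true := by decide +kernel

theorem centU_974 : rangeK centU (Nat.mul 974 124) 124 = true := by decide +kernel

theorem centU_975 : rangeK centU (Nat.mul 975 124) 124 = true := by decide +kernel

theorem centU_976 : rangeK centU (Nat.mul 976 124) 124 = true := by decide +kernel

theorem centU_977 : rangeK centU (Nat.mul 977 124) 124 = true := by decide +kernel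

theorem centU_978 : rangeK centU (Nat.mul 978 124) 124 = true := by decide +kernel

theorem centU_979 : rangeK centU (Nat.mul 979 124) 124 = true := by decide +kernel

theorem centU_980 : rangeK centU (Nat.mul 980 124) 124 = true := by decide +kernel

theorem centU_981 : rangeK centU (Nat.mul 981 124) 124 = true := by decide +kernel

theorem centU_982 : rangeK centU (Nat.mul 982 124) 124 = true := by decide +kernel

theorem centU_983 : rangeK centU (Nat.mul 983 124) 124 = true := by decide +kernel

theorem centU_984 : rangeK centU (Nat.mul 984 124) 124 = true := by decide +kernel

theorem centU_985 : rangeK centU (Nat.mul 985 124) 124 = true := by decide +kernel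

theorem centU_986 : rangeK centU (Nat.mul 986 124) 124 = true := by decide +kernel

theorem centU_987 : rangeK centU (Nat.mul 987 124) 124 = true := by decide +kernel

theorem centU_988 : rangeK centU (Nat.mul 988 124) 124 = true := by decide +kernel

theorem centU_989 : rangeK centU (Nat.mul 989 124) 124 = true := by decide +kernel

theorem centU_part29 : ∀ q, 118668 ≤ q → q < 122760 → centU q = true := by
  have h : ∀ i < 33, rangeK centU (Nat.mul (957 + i) 124) 124 = true := by
    intro i hi
    interval_cases i
    · exact centU_957
    · exact centU_958
    · exact centU_959
    · exact centU_960
    · exact centU_961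
    · exact centU_962
    · exact centU_963
    · exact centU_964
    · exact centU_965
    · exact centU_966
    · exact centU_967
    · exact centU_968
    · exact centU_969
    · exact centU_970
    · exact centU_971
    · exact centU_972
    · exact centU_973
    · exact centU_974
    · exact centU_975
    · exact centU_976
    · exact centU_977
    · exact centU_978
    · exact centU_979
    · exact centU_980
    · exact centU_981
    · exact centU_982
    · exact centU_983
    · exact centU_984
    · exact centU_985
    · exact centU_986
    · exact centU_987
    · exact centU_988
    · exact centU_989
  exact cover_part centU 957 124 33 (by norm_num) h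

end Cfsg.Agent.Lib.helper17.OnOut
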