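import Cfsg.Agent.Lib.helper17.OnOut.CentDefs

set_option autoImplicit false

/-! Part 3 of the second search (generated, helper17) -/

namespace Cfsg.Agent.Lib.helper17.OnOut

open Cfsg.Agent.Lib.Helper12.TC

theorem centU_99 : rangeK centU (Nat.mul 99 124) 124 = true := by decide +kernel

theorem centU_100 : rangeK centU (Nat.mul 100 124) 124 = true := by decide +kernel

theorem centU_101 : rangeK centU (Nat.mul 101 124) 124 = true := by decide +kernel

theorem centU_102 : rangeK centU (Nat.mul 102 124) 124 = true := by decide +kernel

theorem centU_103 : rangeK centU (Nat.mul 103 124) 124 = true := by decide +kernel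

theorem centU_104 : rangeK centU (Nat.mul 104 124) 124 = true := by decide +kernel

theorem centU_105 : rangeK centU (Nat.mul 105 124) 124 = true := by decide +kernel

theorem centU_106 : rangeK centU (Nat.mul 106 124) 124 = true := by decide +kernel

theorem centU_107 : rangeK centU (Nat.mul 107 124) 124 = true := by decide +kernel

theorem centU_108 : rangeK centU (Nat.mul 108 124) 124 = true := by decide +kernel

theorem centU_109 : rangeK centU (Nat.mul 109 124) 124 = true := by decide +kernel

theorem centU_110 : rangeK centU (Nat.mul 110 124) 124 = true := by decide +kernel

theorem centU_111 : rangeK centU (Nat.mul 111 124) 124 = true := by decide +kernel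

theorem centU_112 : rangeK centU (Nat.mul 112 124) 124 = true := by decide +kernel

theorem centU_113 : rangeK centU (Nat.mul 113 124) 124 = true := by decide +kernel

theorem centU_114 : rangeK centU (Nat.mul 114 124) 124 = true := by decide +kernel

theorem centU_115 : rangeK centU (Nat.mul 115 124) 124 = true := by decide +kernel

theorem centU_116 : rangeK centU (Nat.mul 116 124) 124 = true := by decide +kernel

theorem centU_117 : rangeK centU (Nat.mul 117 124) 124 = true := by decide +kernel

theorem centU_118 : rangeK centU (Nat.mul 118 124) 124 = true := by decide +kernel

theorem centU_119 : rangeK centU (Nat.mul 119 124) 124 = true := by decide +kernel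

theorem centU_120 : rangeK centU (Nat.mul 120 124) 124 = true := by decide +kernel

theorem centU_121 : rangeK centU (Nat.mul 121 124) 124 = true := by decide +kernel

theorem centU_122 : rangeK centU (Nat.mul 122 124) 124 = true := by decide +kernel

theorem centU_123 : rangeK centU (Nat.mul 123 124) 124 = true := by decide +kernel

theorem centU_124 : rangeK centU (Nat.mul 124 124) 124 = true := by decide +kernel

theorem centU_125 : rangeK centU (Nat.mul 125 124) 124 = true := by decide +kernel

theorem centU_126 : rangeK centU (Nat.mul 126 124) 124 = true := by decide +kernel

theorem centU_127 : rangeK centU (Nat.mul 127 124) 124 = true := by decide +kernel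

theorem centU_128 : rangeK centU (Nat.mul 128 124) 124 = true := by decide +kernel

theorem centU_129 : rangeK centU (Nat.mul 129 124) 124 = true := by decide +kernel

theorem centU_130 : rangeK centU (Nat.mul 130 124) 124 = true := by decide +kernel

theorem centU_131 : rangeK centU (Nat.mul 131 124) 124 = true := by decide +kernel

theorem centU_part3 : ∀ q, 12276 ≤ q → q < 16368 → centU q = true := by
  have h : ∀ i < 33, rangeK centU (Nat.mul (99 + i) 124) 124 = true := by
    intro i hi
    interval_cases i
    · exact centU_99
    · exact centU_100
    · exact centU_101
    · exact centU_102
    · exact centU_103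
    · exact centU_104
    · exact centU_105
    · exact centU_106
    · exact centU_107
    · exact centU_108
    · exact centU_109
    · exact centU_110
    · exact centU_111
    · exact centU_112
    · exact centU_113
    · exact centU_114
    · exact centU_115
    · exact centU_116
    · exact centU_117
    · exact centU_118
    · exact centU_119
    · exact centU_120
    · exact centU_121
    · exact centU_122
    · exact centU_123
    · exact centU_124
    · exact centU_125
    · exact centU_126
    · exact centU_127
    · exact centU_128
    · exact centU_129
    · exact centU_130
    · exact centU_131
  exact cover_part centU 99 124 33 (by norm_num) h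

end Cfsg.Agent.Lib.helper17.OnOut
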