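import Cfsg.Agent.Lib.helper17.OnOut.CentDefs

set_option autoImplicit false

/-! Part 4 of the second search (generated, helper17) -/

namespace Cfsg.Agent.Lib.helper17.OnOut

open Cfsg.Agent.Lib.Helper12.TC

theorem centU_132 : rangeK centU (Nat.mul 132 124) 124 = true := by decide +kernel

theorem centU_133 : rangeK centU (Nat.mul 133 124) 124 = true := by decide +kernel

theorem centU_134 : rangeK centU (Nat.mul 134 124) 124 = true := by decide +kernel

theorem centU_135 : rangeK centU (Nat.mul 135 124) 124 = true := by decide +kernel

theorem centU_136 : rangeK centU (Nat.mul 136 124) 124 = true := by decide +kernel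

theorem centU_137 : rangeK centU (Nat.mul 137 124) 124 = true := by decide +kernel

theorem centU_138 : rangeK centU (Nat.mul 138 124) 124 = true := by decide +kernel

theorem centU_139 : rangeK centU (Nat.mul 139 124) 124 = true := by decide +kernel

theorem centU_140 : rangeK centU (Nat.mul 140 124) 124 = true := by decide +kernel

theorem centU_141 : rangeK centU (Nat.mul 141 124) 124 = true := by decide +kernel

theorem centU_142 : rangeK centU (Nat.mul 142 124) 124 = true := by decide +kernel

theorem centU_143 : rangeK centU (Nat.mul 143 124) 124 = true := by decide +kernel

theorem centU_144 : rangeK centU (Nat.mul 144 124) 124 = true := by decide +kernel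

theorem centU_145 : rangeK centU (Nat.mul 145 124) 124 = true := by decide +kernel

theorem centU_146 : rangeK centU (Nat.mul 146 124) 124 = true := by decide +kernel

theorem centU_147 : rangeK centU (Nat.mul 147 124) 124 = true := by decide +kernel

theorem centU_148 : rangeK centU (Nat.mul 148 124) 124 = true := by decide +kernel

theorem centU_149 : rangeK centU (Nat.mul 149 124) 124 = true := by decide +kernel

theorem centU_150 : rangeK centU (Nat.mul 150 124) 124 = true := by decide +kernel

theorem centU_151 : rangeK centU (Nat.mul 151 124) 124 = true := by decide +kernel

theorem centU_152 : rangeK centU (Nat.mul 152 124) 124 = true := by decide +kernel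

theorem centU_153 : rangeK centU (Nat.mul 153 124) 124 = true := by decide +kernel

theorem centU_154 : rangeK centU (Nat.mul 154 124) 124 = true := by decide +kernel

theorem centU_155 : rangeK centU (Nat.mul 155 124) 124 = true := by decide +kernel

theorem centU_156 : rangeK centU (Nat.mul 156 124) 124 = true := by decide +kernel

theorem centU_157 : rangeK centU (Nat.mul 157 124) 124 = true := by decide +kernel

theorem centU_158 : rangeK centU (Nat.mul 158 124) 124 = true := by decide +kernel

theorem centU_159 : rangeK centU (Nat.mul 159 124) 124 = true := by decide +kernel

theorem centU_160 : rangeK centU (Nat.mul 160 124) 124 = true := by decide +kernel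

theorem centU_161 : rangeK centU (Nat.mul 161 124) 124 = true := by decide +kernel

theorem centU_162 : rangeK centU (Nat.mul 162 124) 124 = true := by decide +kernel

theorem centU_163 : rangeK centU (Nat.mul 163 124) 124 = true := by decide +kernel

theorem centU_164 : rangeK centU (Nat.mul 164 124) 124 = true := by decide +kernel

theorem centU_part4 : ∀ q, 16368 ≤ q → q < 20460 → centU q = true := by
  have h : ∀ i < 33, rangeK centU (Nat.mul (132 + i) 124) 124 = true := by
    intro i hi
    interval_cases i
    · exact centU_132
    · exact centU_133
    · exact centU_134
    · exact centU_135
    · exact centU_136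
    · exact centU_137
    · exact centU_138
    · exact centU_139
    · exact centU_140
    · exact centU_141
    · exact centU_142
    · exact centU_143
    · exact centU_144
    · exact centU_145
    · exact centU_146
    · exact centU_147
    · exact centU_148
    · exact centU_149
    · exact centU_150
    · exact centU_151
    · exact centU_152
    · exact centU_153
    · exact centU_154
    · exact centU_155
    · exact centU_156
    · exact centU_157
    · exact centU_158
    · exact centU_159
    · exact centU_160
    · exact centU_161
    · exact centU_162
    · exact centU_163
    · exact centU_164
  exact cover_part centU 132 124 33 (by norm_num) h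

end Cfsg.Agent.Lib.helper17.OnOut
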