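import Cfsg.Agent.Lib.helper17.OnOut.CentDefs

set_option autoImplicit false

/-! Part 5 of the second search (generated, helper17) -/

namespace Cfsg.Agent.Lib.helper17.OnOut

open Cfsg.Agent.Lib.Helper12.TC

theorem centU_165 : rangeK centU (Nat.mul 165 124) 124 = true := by decide +kernel

theorem centU_166 : rangeK centU (Nat.mul 166 124) 124 = true := by decide +kernel

theorem centU_167 : rangeK centU (Nat.mul 167 124) 124 = true := by decide +kernel

theorem centU_168 : rangeK centU (Nat.mul 168 124) 124 = true := by decide +kernel

theorem centU_169 : rangeK centU (Nat.mul 169 124) 124 = true := by decide +kernel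

theorem centU_170 : rangeK centU (Nat.mul 170 124) 124 = true := by decide +kernel

theorem centU_171 : rangeK centU (Nat.mul 171 124) 124 = true := by decide +kernel

theorem centU_172 : rangeK centU (Nat.mul 172 124) 124 = true := by decide +kernel

theorem centU_173 : rangeK centU (Nat.mul 173 124) 124 = true := by decide +kernel

theorem centU_174 : rangeK centU (Nat.mul 174 124) 124 = true := by decide +kernel

theorem centU_175 : rangeK centU (Nat.mul 175 124) 124 = true := by decide +kernel

theorem centU_176 : rangeK centU (Nat.mul 176 124) 124 = true := by decide +kernel

theorem centU_177 : rangeK centU (Nat.mul 177 124) 124 = true := by decide +kernel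

theorem centU_178 : rangeK centU (Nat.mul 178 124) 124 = true := by decide +kernel

theorem centU_179 : rangeK centU (Nat.mul 179 124) 124 = true := by decide +kernel

theorem centU_180 : rangeK centU (Nat.mul 180 124) 124 = true := by decide +kernel

theorem centU_181 : rangeK centU (Nat.mul 181 124) 124 = true := by decide +kernel

theorem centU_182 : rangeK centU (Nat.mul 182 124) 124 = true := by decide +kernel

theorem centU_183 : rangeK centU (Nat.mul 183 124) 124 = true := by decide +kernel

theorem centU_184 : rangeK centU (Nat.mul 184 124) 124 = true := by decide +kernel

theorem centU_185 : rangeK centU (Nat.mul 185 124) 124 = true := by decide +kernel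

theorem centU_186 : rangeK centU (Nat.mul 186 124) 124 = true := by decide +kernel

theorem centU_187 : rangeK centU (Nat.mul 187 124) 124 = true := by decide +kernel

theorem centU_188 : rangeK centU (Nat.mul 188 124) 124 = true := by decide +kernel

theorem centU_189 : rangeK centU (Nat.mul 189 124) 124 = true := by decide +kernel

theorem centU_190 : rangeK centU (Nat.mul 190 124) 124 = true := by decide +kernel

theorem centU_191 : rangeK centU (Nat.mul 191 124) 124 = true := by decide +kernel

theorem centU_192 : rangeK centU (Nat.mul 192 124) 124 = true := by decide +kernel

theorem centU_193 : rangeK centU (Nat.mul 193 124) 124 = true := by decide +kernel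

theorem centU_194 : rangeK centU (Nat.mul 194 124) 124 = true := by decide +kernel

theorem centU_195 : rangeK centU (Nat.mul 195 124) 124 = true := by decide +kernel

theorem centU_196 : rangeK centU (Nat.mul 196 124) 124 = true := by decide +kernel

theorem centU_197 : rangeK centU (Nat.mul 197 124) 124 = true := by decide +kernel

theorem centU_part5 : ∀ q, 20460 ≤ q → q < 24552 → centU q = true := by
  have h : ∀ i < 33, rangeK centU (Nat.mul (165 + i) 124) 124 = true := by
    intro i hi
    interval_cases i
    · exact centU_165
    · exact centU_166
    · exact centU_167
    · exact centU_168
    · exact centU_169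
    · exact centU_170
    · exact centU_171
    · exact centU_172
    · exact centU_173
    · exact centU_174
    · exact centU_175
    · exact centU_176
    · exact centU_177
    · exact centU_178
    · exact centU_179
    · exact centU_180
    · exact centU_181
    · exact centU_182
    · exact centU_183
    · exact centU_184
    · exact centU_185
    · exact centU_186
    · exact centU_187
    · exact centU_188
    · exact centU_189
    · exact centU_190
    · exact centU_191
    · exact centU_192
    · exact centU_193
    · exact centU_194
    · exact centU_195
    · exact centU_196
    · exact centU_197
  exact cover_part centU 165 124 33 (by norm_num) h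

end Cfsg.Agent.Lib.helper17.OnOut
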