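import Cfsg.Agent.Lib.helper17.OnOut.CentDefs

set_option autoImplicit false

/-! Part 6 of the second search (generated, helper17) -/

namespace Cfsg.Agent.Lib.helper17.OnOut

open Cfsg.Agent.Lib.Helper12.TC

theorem centU_198 : rangeK centU (Nat.mul 198 124) 124 = true := by decide +kernel

theorem centU_199 : rangeK centU (Nat.mul 199 124) 124 = true := by decide +kernel

theorem centU_200 : rangeK centU (Nat.mul 200 124) 124 = true := by decide +kernel

theorem centU_201 : rangeK centU (Nat.mul 201 124) 124 = true := by decide +kernel

theorem centU_202 : rangeK centU (Nat.mul 202 124) 124 = true := by decide +kernel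

theorem centU_203 : rangeK centU (Nat.mul 203 124) 124 = true := by decide +kernel

theorem centU_204 : rangeK centU (Nat.mul 204 124) 124 = true := by decide +kernel

theorem centU_205 : rangeK centU (Nat.mul 205 124) 124 = true := by decide +kernel

theorem centU_206 : rangeK centU (Nat.mul 206 124) 124 = true := by decide +kernel

theorem centU_207 : rangeK centU (Nat.mul 207 124) 124 = true := by decide +kernel

theorem centU_208 : rangeK centU (Nat.mul 208 124) 124 = true := by decide +kernel

theorem centU_209 : rangeK centU (Nat.mul 209 124) 124 = true := by decide +kernel

theorem centU_210 : rangeK centU (Nat.mul 210 124) 124 = true := by decide +kernel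

theorem centU_211 : rangeK centU (Nat.mul 211 124) 124 = true := by decide +kernel

theorem centU_212 : rangeK centU (Nat.mul 212 124) 124 = true := by decide +kernel

theorem centU_213 : rangeK centU (Nat.mul 213 124) 124 = true := by decide +kernel

theorem centU_214 : rangeK centU (Nat.mul 214 124) 124 = true := by decide +kernel

theorem centU_215 : rangeK centU (Nat.mul 215 124) 124 = true := by decide +kernel

theorem centU_216 : rangeK centU (Nat.mul 216 124) 124 = true := by decide +kernel

theorem centU_217 : rangeK centU (Nat.mul 217 124) 124 = true := by decide +kernel

theorem centU_218 : rangeK centU (Nat.mul 218 124) 124 = true := by decide +kernel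

theorem centU_219 : rangeK centU (Nat.mul 219 124) 124 = true := by decide +kernel

theorem centU_220 : rangeK centU (Nat.mul 220 124) 124 = true := by decide +kernel

theorem centU_221 : rangeK centU (Nat.mul 221 124) 124 = true := by decide +kernel

theorem centU_222 : rangeK centU (Nat.mul 222 124) 124 = true := by decide +kernel

theorem centU_223 : rangeK centU (Nat.mul 223 124) 124 = true := by decide +kernel

theorem centU_224 : rangeK centU (Nat.mul 224 124) 124 = true := by decide +kernel

theorem centU_225 : rangeK centU (Nat.mul 225 124) 124 = true := by decide +kernel

theorem centU_226 : rangeK centU (Nat.mul 226 124) 124 = true := by decide +kernel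

theorem centU_227 : rangeK centU (Nat.mul 227 124) 124 = true := by decide +kernel

theorem centU_228 : rangeK centU (Nat.mul 228 124) 124 = true := by decide +kernel

theorem centU_229 : rangeK centU (Nat.mul 229 124) 124 = true := by decide +kernel

theorem centU_230 : rangeK centU (Nat.mul 230 124) 124 = true := by decide +kernel

theorem centU_part6 : ∀ q, 24552 ≤ q → q < 28644 → centU q = true := by
  have h : ∀ i < 33, rangeK centU (Nat.mul (198 + i) 124) 124 = true := by
    intro i hi
    interval_cases i
    · exact centU_198
    · exact centU_199
    · exact centU_200
    · exact centU_201
    · exact centU_202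
    · exact centU_203
    · exact centU_204
    · exact centU_205
    · exact centU_206
    · exact centU_207
    · exact centU_208
    · exact centU_209
    · exact centU_210
    · exact centU_211
    · exact centU_212
    · exact centU_213
    · exact centU_214
    · exact centU_215
    · exact centU_216
    · exact centU_217
    · exact centU_218
    · exact centU_219
    · exact centU_220
    · exact centU_221
    · exact centU_222
    · exact centU_223
    · exact centU_224
    · exact centU_225
    · exact centU_226
    · exact centU_227
    · exact centU_228
    · exact centU_229
    · exact centU_230
  exact cover_part centU 198 124 33 (by norm_num) h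

end Cfsg.Agent.Lib.helper17.OnOut
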