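import Cfsg.Agent.Lib.helper17.OnOut.CentDefs

set_option autoImplicit false

/-! Part 7 of the second search (generated, helper17) -/

namespace Cfsg.Agent.Lib.helper17.OnOut

open Cfsg.Agent.Lib.Helper12.TC

theorem centU_231 : rangeK centU (Nat.mul 231 124) 124 = true := by decide +kernel

theorem centU_232 : rangeK centU (Nat.mul 232 124) 124 = true := by decide +kernel

theorem centU_233 : rangeK centU (Nat.mul 233 124) 124 = true := by decide +kernel

theorem centU_234 : rangeK centU (Nat.mul 234 124) 124 = true := by decide +kernel

theorem centU_235 : rangeK centU (Nat.mul 235 124) 124 = true := by decide +kernel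

theorem centU_236 : rangeK centU (Nat.mul 236 124) 124 = true := by decide +kernel

theorem centU_237 : rangeK centU (Nat.mul 237 124) 124 = true := by decide +kernel

theorem centU_238 : rangeK centU (Nat.mul 238 124) 124 = true := by decide +kernel

theorem centU_239 : rangeK centU (Nat.mul 239 124) 124 = true := by decide +kernel

theorem centU_240 : rangeK centU (Nat.mul 240 124) 124 = true := by decide +kernel

theorem centU_241 : rangeK centU (Nat.mul 241 124) 124 = true := by decide +kernel

theorem centU_242 : rangeK centU (Nat.mul 242 124) 124 = true := by decide +kernel

theorem centU_243 : rangeK centU (Nat.mul 243 124) 124 = true := by decide +kernel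

theorem centU_244 : rangeK centU (Nat.mul 244 124) 124 = true := by decide +kernel

theorem centU_245 : rangeK centU (Nat.mul 245 124) 124 = true := by decide +kernel

theorem centU_246 : rangeK centU (Nat.mul 246 124) 124 = true := by decide +kernel

theorem centU_247 : rangeK centU (Nat.mul 247 124) 124 = true := by decide +kernel

theorem centU_248 : rangeK centU (Nat.mul 248 124) 124 = true := by decide +kernel

theorem centU_249 : rangeK centU (Nat.mul 249 124) 124 = true := by decide +kernel

theorem centU_250 : rangeK centU (Nat.mul 250 124) 124 = true := by decide +kernel

theorem centU_251 : rangeK centU (Nat.mul 251 124) 124 = true := by decide +kernel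

theorem centU_252 : rangeK centU (Nat.mul 252 124) 124 = true := by decide +kernel

theorem centU_253 : rangeK centU (Nat.mul 253 124) 124 = true := by decide +kernel

theorem centU_254 : rangeK centU (Nat.mul 254 124) 124 = true := by decide +kernel

theorem centU_255 : rangeK centU (Nat.mul 255 124) 124 = true := by decide +kernel

theorem centU_256 : rangeK centU (Nat.mul 256 124) 124 = true := by decide +kernel

theorem centU_257 : rangeK centU (Nat.mul 257 124) 124 = true := by decide +kernel

theorem centU_258 : rangeK centU (Nat.mul 258 124) 124 = true := by decide +kernel

theorem centU_259 : rangeK centU (Nat.mul 259 124) 124 = true := by decide +kernel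

theorem centU_260 : rangeK centU (Nat.mul 260 124) 124 = true := by decide +kernel

theorem centU_261 : rangeK centU (Nat.mul 261 124) 124 = true := by decide +kernel

theorem centU_262 : rangeK centU (Nat.mul 262 124) 124 = true := by decide +kernel

theorem centU_263 : rangeK centU (Nat.mul 263 124) 124 = true := by decide +kernel

theorem centU_part7 : ∀ q, 28644 ≤ q → q < 32736 → centU q = true := by
  have h : ∀ i < 33, rangeK centU (Nat.mul (231 + i) 124) 124 = true := by
    intro i hi
    interval_cases i
    · exact centU_231
    · exact centU_232
    · exact centU_233
    · exact centU_234
    · exact centU_235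
    · exact centU_236
    · exact centU_237
    · exact centU_238
    · exact centU_239
    · exact centU_240
    · exact centU_241
    · exact centU_242
    · exact centU_243
    · exact centU_244
    · exact centU_245
    · exact centU_246
    · exact centU_247
    · exact centU_248
    · exact centU_249
    · exact centU_250
    · exact centU_251
    · exact centU_252
    · exact centU_253
    · exact centU_254
    · exact centU_255
    · exact centU_256
    · exact centU_257
    · exact centU_258
    · exact centU_259
    · exact centU_260
    · exact centU_261
    · exact centU_262
    · exact centU_263
  exact cover_part centU 231 124 33 (by norm_num) h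

end Cfsg.Agent.Lib.helper17.OnOut
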