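import Cfsg.Agent.Lib.helper17.OnOut.CentDefs

set_option autoImplicit false

/-! Part 8 of the second search (generated, helper17) -/

namespace Cfsg.Agent.Lib.helper17.OnOut

open Cfsg.Agent.Lib.Helper12.TC

theorem centU_264 : rangeK centU (Nat.mul 264 124) 124 = true := by decide +kernel

theorem centU_265 : rangeK centU (Nat.mul 265 124) 124 = true := by decide +kernel

theorem centU_266 : rangeK centU (Nat.mul 266 124) 124 = true := by decide +kernel

theorem centU_267 : rangeK centU (Nat.mul 267 124) 124 = true := by decide +kernel

theorem centU_268 : rangeK centU (Nat.mul 268 124) 124 = true := by decide +kernel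

theorem centU_269 : rangeK centU (Nat.mul 269 124) 124 = true := by decide +kernel

theorem centU_270 : rangeK centU (Nat.mul 270 124) 124 = true := by decide +kernel

theorem centU_271 : rangeK centU (Nat.mul 271 124) 124 = true := by decide +kernel

theorem centU_272 : rangeK centU (Nat.mul 272 124) 124 = true := by decide +kernel

theorem centU_273 : rangeK centU (Nat.mul 273 124) 124 = true := by decide +kernel

theorem centU_274 : rangeK centU (Nat.mul 274 124) 124 = true := by decide +kernel

theorem centU_275 : rangeK centU (Nat.mul 275 124) 124 = true := by decide +kernel

theorem centU_276 : rangeK centU (Nat.mul 276 124) 124 = true := by decide +kernel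

theorem centU_277 : rangeK centU (Nat.mul 277 124) 124 = true := by decide +kernel

theorem centU_278 : rangeK centU (Nat.mul 278 124) 124 = true := by decide +kernel

theorem centU_279 : rangeK centU (Nat.mul 279 124) 124 = true := by decide +kernel

theorem centU_280 : rangeK centU (Nat.mul 280 124) 124 = true := by decide +kernel

theorem centU_281 : rangeK centU (Nat.mul 281 124) 124 = true := by decide +kernel

theorem centU_282 : rangeK centU (Nat.mul 282 124) 124 = true := by decide +kernel

theorem centU_283 : rangeK centU (Nat.mul 283 124) 124 = true := by decide +kernel

theorem centU_284 : rangeK centU (Nat.mul 284 124) 124 = true := by decide +kernel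

theorem centU_285 : rangeK centU (Nat.mul 285 124) 124 = true := by decide +kernel

theorem centU_286 : rangeK centU (Nat.mul 286 124) 124 = true := by decide +kernel

theorem centU_287 : rangeK centU (Nat.mul 287 124) 124 = true := by decide +kernel

theorem centU_288 : rangeK centU (Nat.mul 288 124) 124 = true := by decide +kernel

theorem centU_289 : rangeK centU (Nat.mul 289 124) 124 = true := by decide +kernel

theorem centU_290 : rangeK centU (Nat.mul 290 124) 124 = true := by decide +kernel

theorem centU_291 : rangeK centU (Nat.mul 291 124) 124 = true := by decide +kernel

theorem centU_292 : rangeK centU (Nat.mul 292 124) 124 = true := by decide +kernel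

theorem centU_293 : rangeK centU (Nat.mul 293 124) 124 = true := by decide +kernel

theorem centU_294 : rangeK centU (Nat.mul 294 124) 124 = true := by decide +kernel

theorem centU_295 : rangeK centU (Nat.mul 295 124) 124 = true := by decide +kernel

theorem centU_296 : rangeK centU (Nat.mul 296 124) 124 = true := by decide +kernel

theorem centU_part8 : ∀ q, 32736 ≤ q → q < 36828 → centU q = true := by
  have h : ∀ i < 33, rangeK centU (Nat.mul (264 + i) 124) 124 = true := by
    intro i hi
    interval_cases i
    · exact centU_264
    · exact centU_265
    · exact centU_266
    · exact centU_267
    · exact centU_268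
    · exact centU_269
    · exact centU_270
    · exact centU_271
    · exact centU_272
    · exact centU_273
    · exact centU_274
    · exact centU_275
    · exact centU_276
    · exact centU_277
    · exact centU_278
    · exact centU_279
    · exact centU_280
    · exact centU_281
    · exact centU_282
    · exact centU_283
    · exact centU_284
    · exact centU_285
    · exact centU_286
    · exact centU_287
    · exact centU_288
    · exact centU_289
    · exact centU_290
    · exact centU_291
    · exact centU_292
    · exact centU_293
    · exact centU_294
    · exact centU_295
    · exact centU_296
  exact cover_part centU 264 124 33 (by norm_num) h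

end Cfsg.Agent.Lib.helper17.OnOut
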