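import Cfsg.Agent.Lib.helper17.OnOut.CentDefs

set_option autoImplicit false

/-! Part 9 of the second search (generated, helper17) -/

namespace Cfsg.Agent.Lib.helper17.OnOut

open Cfsg.Agent.Lib.Helper12.TC

theorem centU_297 : rangeK centU (Nat.mul 297 124) 124 = true := by decide +kernel

theorem centU_298 : rangeK centU (Nat.mul 298 124) 124 = true := by decide +kernel

theorem centU_299 : rangeK centU (Nat.mul 299 124) 124 = true := by decide +kernel

theorem centU_300 : rangeK centU (Nat.mul 300 124) 124 = true := by decide +kernel

theorem centU_301 : rangeK centU (Nat.mul 301 124) 124 = true := by decide +kernel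

theorem centU_302 : rangeK centU (Nat.mul 302 124) 124 = true := by decide +kernel

theorem centU_303 : rangeK centU (Nat.mul 303 124) 124 = true := by decide +kernel

theorem centU_304 : rangeK centU (Nat.mul 304 124) 124 = true := by decide +kernel

theorem centU_305 : rangeK centU (Nat.mul 305 124) 124 = true := by decide +kernel

theorem centU_306 : rangeK centU (Nat.mul 306 124) 124 = true := by decide +kernel

theorem centU_307 : rangeK centU (Nat.mul 307 124) 124 = true := by decide +kernel

theorem centU_308 : rangeK centU (Nat.mul 308 124) 124 = true := by decide +kernel

theorem centU_309 : rangeK centU (Nat.mul 309 124) 124 = true := by decide +kernel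

theorem centU_310 : rangeK centU (Nat.mul 310 124) 124 = true := by decide +kernel

theorem centU_311 : rangeK centU (Nat.mul 311 124) 124 = true := by decide +kernel

theorem centU_312 : rangeK centU (Nat.mul 312 124) 124 = true := by decide +kernel

theorem centU_313 : rangeK centU (Nat.mul 313 124) 124 = true := by decide +kernel

theorem centU_314 : rangeK centU (Nat.mul 314 124) 124 = true := by decide +kernel

theorem centU_315 : rangeK centU (Nat.mul 315 124) 124 = true := by decide +kernel

theorem centU_316 : rangeK centU (Nat.mul 316 124) 124 = true := by decide +kernel

theorem centU_317 : rangeK centU (Nat.mul 317 124) 124 = true := by decide +kernel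

theorem centU_318 : rangeK centU (Nat.mul 318 124) 124 = true := by decide +kernel

theorem centU_319 : rangeK centU (Nat.mul 319 124) 124 = true := by decide +kernel

theorem centU_320 : rangeK centU (Nat.mul 320 124) 124 = true := by decide +kernel

theorem centU_321 : rangeK centU (Nat.mul 321 124) 124 = true := by decide +kernel

theorem centU_322 : rangeK centU (Nat.mul 322 124) 124 = true := by decide +kernel

theorem centU_323 : rangeK centU (Nat.mul 323 124) 124 = true := by decide +kernel

theorem centU_324 : rangeK centU (Nat.mul 324 124) 124 = true := by decide +kernel

theorem centU_325 : rangeK centU (Nat.mul 325 124) 124 = true := by decide +kernel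

theorem centU_326 : rangeK centU (Nat.mul 326 124) 124 = true := by decide +kernel

theorem centU_327 : rangeK centU (Nat.mul 327 124) 124 = true := by decide +kernel

theorem centU_328 : rangeK centU (Nat.mul 328 124) 124 = true := by decide +kernel

theorem centU_329 : rangeK centU (Nat.mul 329 124) 124 = true := by decide +kernel

theorem centU_part9 : ∀ q, 36828 ≤ q → q < 40920 → centU q = true := by
  have h : ∀ i < 33, rangeK centU (Nat.mul (297 + i) 124) 124 = true := by
    intro i hi
    interval_cases i
    · exact centU_297
    · exact centU_298
    · exact centU_299
    · exact centU_300
    · exact centU_301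
    · exact centU_302
    · exact centU_303
    · exact centU_304
    · exact centU_305
    · exact centU_306
    · exact centU_307
    · exact centU_308
    · exact centU_309
    · exact centU_310
    · exact centU_311
    · exact centU_312
    · exact centU_313
    · exact centU_314
    · exact centU_315
    · exact centU_316
    · exact centU_317
    · exact centU_318
    · exact centU_319
    · exact centU_320
    · exact centU_321
    · exact centU_322
    · exact centU_323
    · exact centU_324
    · exact centU_325
    · exact centU_326
    · exact centU_327
    · exact centU_328
    · exact centU_329
  exact cover_part centU 297 124 33 (by norm_num) h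

end Cfsg.Agent.Lib.helper17.OnOut
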