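import Cfsg.Agent.Lib.helper17.OnOut.CentU0
import Cfsg.Agent.Lib.helper17.OnOut.CentU1
import Cfsg.Agent.Lib.helper17.OnOut.CentU2
import Cfsg.Agent.Lib.helper17.OnOut.CentU3
import Cfsg.Agent.Lib.helper17.OnOut.CentU4
import Cfsg.Agent.Lib.helper17.OnOut.CentU5
import Cfsg.Agent.Lib.helper17.OnOut.CentU6
import Cfsg.Agent.Lib.helper17.OnOut.CentU7
import Cfsg.Agent.Lib.helper17.OnOut.CentU8
import Cfsg.Agent.Lib.helper17.OnOut.CentU9
import Cfsg.Agent.Lib.helper17.OnOut.CentU10
import Cfsg.Agent.Lib.helper17.OnOut.CentU11
import Cfsg.Agent.Lib.helper17.OnOut.CentU12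
import Cfsg.Agent.Lib.helper17.OnOut.CentU13
import Cfsg.Agent.Lib.helper17.OnOut.CentU14
import Cfsg.Agent.Lib.helper17.OnOut.CentU15
import Cfsg.Agent.Lib.helper17.OnOut.CentU16
import Cfsg.Agent.Lib.helper17.OnOut.CentU17
import Cfsg.Agent.Lib.helper17.OnOut.CentU18
import Cfsg.Agent.Lib.helper17.OnOut.CentU19
import Cfsg.Agent.Lib.helper17.OnOut.CentU20
import Cfsg.Agent.Lib.helper17.OnOut.CentU21
import Cfsg.Agent.Lib.helper17.OnOut.CentU22
import Cfsg.Agent.Lib.helper17.OnOut.CentU23
import Cfsg.Agent.Lib.helper17.OnOut.CentU24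
import Cfsg.Agent.Lib.helper17.OnOut.CentU25
import Cfsg.Agent.Lib.helper17.OnOut.CentU26
import Cfsg.Agent.Lib.helper17.OnOut.CentU27
import Cfsg.Agent.Lib.helper17.OnOut.CentU28
import Cfsg.Agent.Lib.helper17.OnOut.CentU29

set_option autoImplicit false

/-! All parts of the second search (generated, helper17) -/

namespace Cfsg.Agent.Lib.helper17.OnOut

open Cfsg.Agent.Lib.Helper12.TC

theorem centU_cover : ∀ q < 122760, centU q = true := by
  intro q hq
  have hf : q / 4092 < 30 := by omega
  have h1 : q / 4092 * 4092 ≤ q := Nat.div_mul_le_self q 4092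
  have h2 : q < q / 4092 * 4092 + 4092 := Nat.lt_div_mul_add (by norm_num)
  generalize q / 4092 = f at hf h1 h2
  interval_cases f
  · exact centU_part0 q (by omega) (by omega)
  · exact centU_part1 q (by omega) (by omega)
  · exact centU_part2 q (by omega) (by omega)
  · exact centU_part3 q (by omega) (by omega)
  · exact centU_part4 q (by omega) (by omega)
  · exact centU_part5 q (by omega) (by omega)
  · exact centU_part6 q (by omega) (by omega)
  · exact centU_part7 q (by omega) (by omega)
  · exact centU_part8 q (by omega) (by omega)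
  · exact centU_part9 q (by omega) (by omega)
  · exact centU_part10 q (by omega) (by omega)
  · exact centU_part11 q (by omega) (by omega)
  · exact centU_part12 q (by omega) (by omega)
  · exact centU_part13 q (by omega) (by omega)
  · exact centU_part14 q (by omega) (by omega)
  · exact centU_part15 q (by omega) (by omega)
  · exact centU_part16 q (by omega) (by omega)
  · exact centU_part17 q (by omega) (by omega)
  · exact centU_part18 q (by omega) (by omega)
  · exact centU_part19 q (by omega) (by omega)
  · exact centU_part20 q (by omega) (by omega)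
  · exact centU_part21 q (by omega) (by omega)
  · exact centU_part22 q (by omega) (by omega)
  · exact centU_part23 q (by omega) (by omega)
  · exact centU_part24 q (by omega) (by omega)
  · exact centU_part25 q (by omega) (by omega)
  · exact centU_part26 q (by omega) (by omega)
  · exact centU_part27 q (by omega) (by omega)
  · exact centU_part28 q (by omega) (by omega)
  · exact centU_part29 q (by omega) (by omega)

end Cfsg.Agent.Lib.helper17.OnOut
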