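import Cfsg.Agent.Lib.helper17.OnOut.CentDefs

set_option autoImplicit false

/-! The exempt points of the search for the centraliser (first) (generated, helper17) -/

namespace Cfsg.Agent.Lib.helper17.OnOut

open Cfsg.Agent.Lib.Helper12.TC

/-- the test of the exempt points of the search: each is in one of the two lists -/
noncomputable def exQC (q : Nat) : Bool :=
  cond (tb exC q) (cond (elemK q (gensC.map Prod.fst)) true (elemK q (spsC.map Prod.fst))) true

theorem exQC_0 : rangeK exQC (Nat.mul 0 8184) 8184 = true := by decide +kernel

theorem exQC_1 : rangeK exQC (Nat.mul 1 8184) 8184 = true := by decide +kernel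

theorem exQC_2 : rangeK exQC (Nat.mul 2 8184) 8184 = true := by decide +kernel

theorem exQC_3 : rangeK exQC (Nat.mul 3 8184) 8184 = true := by decide +kernel

theorem exQC_4 : rangeK exQC (Nat.mul 4 8184) 8184 = true := by decide +kernel

theorem exQC_5 : rangeK exQC (Nat.mul 5 8184) 8184 = true := by decide +kernel

theorem exQC_6 : rangeK exQC (Nat.mul 6 8184) 8184 = true := by decide +kernel

theorem exQC_7 : rangeK exQC (Nat.mul 7 8184) 8184 = true := by decide +kernel

theorem exQC_8 : rangeK exQC (Nat.mul 8 8184) 8184 = true := by decide +kernel

theorem exQC_9 : rangeK exQC (Nat.mul 9 8184) 8184 = true := by decide +kernel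

theorem exQC_10 : rangeK exQC (Nat.mul 10 8184) 8184 = true := by decide +kernel

theorem exQC_11 : rangeK exQC (Nat.mul 11 8184) 8184 = true := by decide +kernel

theorem exQC_12 : rangeK exQC (Nat.mul 12 8184) 8184 = true := by decide +kernel

theorem exQC_13 : rangeK exQC (Nat.mul 13 8184) 8184 = true := by decide +kernel

theorem exQC_14 : rangeK exQC (Nat.mul 14 8184) 8184 = true := by decide +kernel

theorem exQC_cover : ∀ q < 122760, exQC q = true := by
  have h : ∀ j < 15, rangeK exQC (Nat.mul j 8184) 8184 = true := by
    intro j hj
    interval_cases j
    · exact exQC_0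
    · exact exQC_1
    · exact exQC_2
    · exact exQC_3
    · exact exQC_4
    · exact exQC_5
    · exact exQC_6
    · exact exQC_7
    · exact exQC_8
    · exact exQC_9
    · exact exQC_10
    · exact exQC_11
    · exact exQC_12
    · exact exQC_13
    · exact exQC_14
  exact cover_of_chunks exQC 8184 15 (by norm_num) h

/-- the exempt points which do not come from the centraliser -/
theorem spC_chk : allListK spsC (spOK apON cwL 0 1 116381 1172) = true := by decide +kernel

/-- the exempt points which come from the centraliser -/
theorem genC_chk : allListK gensC (genOK apON cwL 0) = true := by decide +kernel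

/-- the element moves the base points as required -/
theorem xC_chk : (and (Nat.beq (evw apON cwL 0) 1) (and (Nat.beq (evw apON cwL 1) 116381)
    (Nat.beq (evw apON cwL 116381) 1172))) = true := by decide +kernel

end Cfsg.Agent.Lib.helper17.OnOut
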