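import Cfsg.Agent.Lib.helper17.OnOut.CentDefs

set_option autoImplicit false

/-! The exempt points of the search for the centraliser (second) (generated, helper17) -/

namespace Cfsg.Agent.Lib.helper17.OnOut

open Cfsg.Agent.Lib.Helper12.TC

/-- the test of the exempt points of the search: each is in one of the two lists -/
noncomputable def exQU (q : Nat) : Bool :=
  cond (tb exU q) (cond (elemK q (gensU.map Prod.fst)) true (elemK q (spsU.map Prod.fst))) true

theorem exQU_0 : rangeK exQU (Nat.mul 0 8184) 8184 = true := by decide +kernel

theorem exQU_1 : rangeK exQU (Nat.mul 1 8184) 8184 = true := by decide +kernel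

theorem exQU_2 : rangeK exQU (Nat.mul 2 8184) 8184 = true := by decide +kernel

theorem exQU_3 : rangeK exQU (Nat.mul 3 8184) 8184 = true := by decide +kernel

theorem exQU_4 : rangeK exQU (Nat.mul 4 8184) 8184 = true := by decide +kernel

theorem exQU_5 : rangeK exQU (Nat.mul 5 8184) 8184 = true := by decide +kernel

theorem exQU_6 : rangeK exQU (Nat.mul 6 8184) 8184 = true := by decide +kernel

theorem exQU_7 : rangeK exQU (Nat.mul 7 8184) 8184 = true := by decide +kernel

theorem exQU_8 : rangeK exQU (Nat.mul 8 8184) 8184 = true := by decide +kernel

theorem exQU_9 : rangeK exQU (Nat.mul 9 8184) 8184 = true := by decide +kernel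

theorem exQU_10 : rangeK exQU (Nat.mul 10 8184) 8184 = true := by decide +kernel

theorem exQU_11 : rangeK exQU (Nat.mul 11 8184) 8184 = true := by decide +kernel

theorem exQU_12 : rangeK exQU (Nat.mul 12 8184) 8184 = true := by decide +kernel

theorem exQU_13 : rangeK exQU (Nat.mul 13 8184) 8184 = true := by decide +kernel

theorem exQU_14 : rangeK exQU (Nat.mul 14 8184) 8184 = true := by decide +kernel

theorem exQU_cover : ∀ q < 122760, exQU q = true := by
  have h : ∀ j < 15, rangeK exQU (Nat.mul j 8184) 8184 = true := by
    intro j hj
    interval_cases j
    · exact exQU_0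
    · exact exQU_1
    · exact exQU_2
    · exact exQU_3
    · exact exQU_4
    · exact exQU_5
    · exact exQU_6
    · exact exQU_7
    · exact exQU_8
    · exact exQU_9
    · exact exQU_10
    · exact exQU_11
    · exact exQU_12
    · exact exQU_13
    · exact exQU_14
  exact cover_of_chunks exQU 8184 15 (by norm_num) h

/-- the exempt points which do not come from the centraliser -/
theorem spU_chk : allListK spsU (spOK apON uwL 0 1 116381 118082) = true := by decide +kernel

/-- the exempt points which come from the centraliser -/
theorem genU_chk : allListK gensU (genOK apON w1L 0) = true := by decide +kernel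

/-- the element moves the base points as required -/
theorem xU_chk : (and (Nat.beq (evw apON uwL 0) 1) (and (Nat.beq (evw apON uwL 1) 116381)
    (Nat.beq (evw apON uwL 116381) 118082))) = true := by decide +kernel

end Cfsg.Agent.Lib.helper17.OnOut
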