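import Cfsg.Agent.Lib.helper17.OnOut.Words
import Cfsg.Agent.Lib.helper17.OnOut.CentCAll
import Cfsg.Agent.Lib.helper17.OnOut.CentUAll
import Cfsg.Agent.Lib.helper17.OnOut.ExChkC
import Cfsg.Agent.Lib.helper17.OnOut.ExChkU

set_option autoImplicit false

/-! The centralisers of an element of order 11 and of an element of order 10 of the presented O'Nan
group are cyclic of orders 11 and 20 (helper17). -/

namespace Cfsg.Agent.Lib.helper17.OnOut

open Cfsg.Spor Cfsg.Agent.Lib.Helper12.TC Cfsg.Agent.Lib.Helper12.TCG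
  Cfsg.Agent.Lib.Helper12.TCG.ONPres Cfsg.Agent.Lib.Helper12.TCG.ONx122760
  Cfsg.Agent.Lib.Helper12.Ord

/-- the element of order 11 -/
noncomputable def cE : ON := wprod v cwL

/-- the element of order 10, conjugated so that it moves the base points like `cE` -/
noncomputable def u1E : ON := wprod v uwL

/-- an element of order 20 whose square is `u1E` -/
noncomputable def w1E : ON := wprod v w1L

/-- the image of the third base point under `cE` -/
def pb4C : Fin cN := ⟨1172, by decide⟩

/-- the image of the third base point under `u1E` -/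
def pb4U : Fin cN := ⟨118082, by decide⟩

theorem moves_of_chk (xw : List ℕ) (b4 : Fin cN)
    (h : (and (Nat.beq (evw apON xw 0) 1) (and (Nat.beq (evw apON xw 1) 116381)
      (Nat.beq (evw apON xw 116381) b4.1))) = true) :
    rho (wprod v xw) pb1 = pb2 ∧ rho (wprod v xw) pb2 = pb3 ∧ rho (wprod v xw) pb3 = b4 := by
  simp only [Bool.and_eq_true] at h
  obtain ⟨h1, h2, h3⟩ := h
  refine ⟨?_, ?_, ?_⟩
  · apply Fin.ext
    rw [sem_evw semON]
    exact Nat.eq_of_beq_eq_true h1
  · apply Fin.ext
    rw [sem_evw semON]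
    exact Nat.eq_of_beq_eq_true h2
  · apply Fin.ext
    rw [sem_evw semON]
    exact Nat.eq_of_beq_eq_true h3

theorem cE_moves : rho cE pb1 = pb2 ∧ rho cE pb2 = pb3 ∧ rho cE pb3 = pb4C :=
  moves_of_chk cwL pb4C xC_chk

theorem u1E_moves : rho u1E pb1 = pb2 ∧ rho u1E pb2 = pb3 ∧ rho u1E pb3 = pb4U :=
  moves_of_chk uwL pb4U xU_chk

/-- the centraliser of `cE` consists of its powers -/
theorem cent_cE : ∀ h : ON, h * cE = cE * h → h ∈ Subgroup.zpowers cE := by
  refine cent_final semON pb1 pb2 pb3 pb4C eq_of_base cwL cwL exC cE_moves.1 cE_moves.2.1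
    cE_moves.2.2 rfl ?_ gensC spsC ?_ spC_chk genC_chk
  · intro h hc
    exact centQ_sound semON pb1 pb2 pb3 (lkS selS1) (lkS selS2) m3T exC 20 31 cwL fix_pb1
      cE_moves.1 cE_moves.2.1 orbit2 orbit3 h hc (centC_cover _ (rho h pb1).2)
  · exact (allBelowK_iff _ _).mpr exQC_cover

theorem w1_comm_chk : eqB apON (w1L ++ uwL) (uwL ++ w1L) = true := by decide +kernel

theorem w1E_comm : w1E * u1E = u1E * w1E := by
  have := eq_of_eqB semON _ _ w1_comm_chk
  rw [wprod_append, wprod_append] at this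
  exact this

/-- the centraliser of `u1E` consists of the powers of `w1E` -/
theorem cent_u1E : ∀ h : ON, h * u1E = u1E * h → h ∈ Subgroup.zpowers w1E := by
  refine cent_final semON pb1 pb2 pb3 pb4U eq_of_base uwL w1L exU u1E_moves.1 u1E_moves.2.1
    u1E_moves.2.2 w1E_comm ?_ gensU spsU ?_ spU_chk genU_chk
  · intro h hc
    exact centQ_sound semON pb1 pb2 pb3 (lkS selS1) (lkS selS2) m3T exU 20 31 uwL fix_pb1
      u1E_moves.1 u1E_moves.2.1 orbit2 orbit3 h hc (centU_cover _ (rho h pb1).2)
  · exact (allBelowK_iff _ _).mpr exQU_cover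

end Cfsg.Agent.Lib.helper17.OnOut
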