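import Cfsg.Agent.Lib.helper17.OnOut.CentDefs

set_option autoImplicit false

/-! Part 0 of the second search (generated, helper17) -/

namespace Cfsg.Agent.Lib.helper17.OnOut

open Cfsg.Agent.Lib.Helper12.TC

theorem centU_0 : rangeK centU (Nat.mul 0 124) 124 = true := by decide +kernel

theorem centU_1 : rangeK centU (Nat.mul 1 124) 124 = true := by decide +kernel

theorem centU_2 : rangeK centU (Nat.mul 2 124) 124 = true := by decide +kernel

theorem centU_3 : rangeK centU (Nat.mul 3 124) 124 = true := by decide +kernel

theorem centU_4 : rangeK centU (Nat.mul 4 124) 124 = true := by decide +kernel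

theorem centU_5 : rangeK centU (Nat.mul 5 124) 124 = true := by decide +kernel

theorem centU_6 : rangeK centU (Nat.mul 6 124) 124 = true := by decide +kernel

theorem centU_7 : rangeK centU (Nat.mul 7 124) 124 = true := by decide +kernel

theorem centU_8 : rangeK centU (Nat.mul 8 124) 124 = true := by decide +kernel

theorem centU_9 : rangeK centU (Nat.mul 9 124) 124 = true := by decide +kernel

theorem centU_10 : rangeK centU (Nat.mul 10 124) 124 = true := by decide +kernel

theorem centU_11 : rangeK centU (Nat.mul 11 124) 124 = true := by decide +kernel

theorem centU_12 : rangeK centU (Nat.mul 12 124) 124 = true := by decide +kernel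

theorem centU_13 : rangeK centU (Nat.mul 13 124) 124 = true := by decide +kernel

theorem centU_14 : rangeK centU (Nat.mul 14 124) 124 = true := by decide +kernel

theorem centU_15 : rangeK centU (Nat.mul 15 124) 124 = true := by decide +kernel

theorem centU_16 : rangeK centU (Nat.mul 16 124) 124 = true := by decide +kernel

theorem centU_17 : rangeK centU (Nat.mul 17 124) 124 = true := by decide +kernel

theorem centU_18 : rangeK centU (Nat.mul 18 124) 124 = true := by decide +kernel

theorem centU_19 : rangeK centU (Nat.mul 19 124) 124 = true := by decide +kernel

theorem centU_20 : rangeK centU (Nat.mul 20 124) 124 = true := by decide +kernel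

theorem centU_21 : rangeK centU (Nat.mul 21 124) 124 = true := by decide +kernel

theorem centU_22 : rangeK centU (Nat.mul 22 124) 124 = true := by decide +kernel

theorem centU_23 : rangeK centU (Nat.mul 23 124) 124 = true := by decide +kernel

theorem centU_24 : rangeK centU (Nat.mul 24 124) 124 = true := by decide +kernel

theorem centU_25 : rangeK centU (Nat.mul 25 124) 124 = true := by decide +kernel

theorem centU_26 : rangeK centU (Nat.mul 26 124) 124 = true := by decide +kernel

theorem centU_27 : rangeK centU (Nat.mul 27 124) 124 = true := by decide +kernel

theorem centU_28 : rangeK centU (Nat.mul 28 124) 124 = true := by decide +kernel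

theorem centU_29 : rangeK centU (Nat.mul 29 124) 124 = true := by decide +kernel

theorem centU_30 : rangeK centU (Nat.mul 30 124) 124 = true := by decide +kernel

theorem centU_31 : rangeK centU (Nat.mul 31 124) 124 = true := by decide +kernel

theorem centU_32 : rangeK centU (Nat.mul 32 124) 124 = true := by decide +kernel

theorem centU_part0 : ∀ q, 0 ≤ q → q < 4092 → centU q = true := by
  have h : ∀ i < 33, rangeK centU (Nat.mul (0 + i) 124) 124 = true := by
    intro i hi
    interval_cases i
    · exact centU_0
    · exact centU_1
    · exact centU_2
    · exact centU_3
    · exact centU_4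
    · exact centU_5
    · exact centU_6
    · exact centU_7
    · exact centU_8
    · exact centU_9
    · exact centU_10
    · exact centU_11
    · exact centU_12
    · exact centU_13
    · exact centU_14
    · exact centU_15
    · exact centU_16
    · exact centU_17
    · exact centU_18
    · exact centU_19
    · exact centU_20
    · exact centU_21
    · exact centU_22
    · exact centU_23
    · exact centU_24
    · exact centU_25
    · exact centU_26
    · exact centU_27
    · exact centU_28
    · exact centU_29
    · exact centU_30
    · exact centU_31
    · exact centU_32
  exact cover_part centU 0 124 33 (by norm_num) h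

end Cfsg.Agent.Lib.helper17.OnOut
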