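import Cfsg.Agent.Lib.helper17.OnOut.CentDefs

set_option autoImplicit false

/-! Part 12 of the second search (generated, helper17) -/

namespace Cfsg.Agent.Lib.helper17.OnOut

open Cfsg.Agent.Lib.Helper12.TC

theorem centU_396 : rangeK centU (Nat.mul 396 124) 124 = true := by decide +kernel

theorem centU_397 : rangeK centU (Nat.mul 397 124) 124 = true := by decide +kernel

theorem centU_398 : rangeK centU (Nat.mul 398 124) 124 = true := by decide +kernel

theorem centU_399 : rangeK centU (Nat.mul 399 124) 124 = true := by decide +kernel

theorem centU_400 : rangeK centU (Nat.mul 400 124) 124 = true := by decide +kernel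

theorem centU_401 : rangeK centU (Nat.mul 401 124) 124 = true := by decide +kernel

theorem centU_402 : rangeK centU (Nat.mul 402 124) 124 = true := by decide +kernel

theorem centU_403 : rangeK centU (Nat.mul 403 124) 124 = true := by decide +kernel

theorem centU_404 : rangeK centU (Nat.mul 404 124) 124 = true := by decide +kernel

theorem centU_405 : rangeK centU (Nat.mul 405 124) 124 = true := by decide +kernel

theorem centU_406 : rangeK centU (Nat.mul 406 124) 124 = true := by decide +kernel

theorem centU_407 : rangeK centU (Nat.mul 407 124) 124 = true := by decide +kernel

theorem centU_408 : rangeK centU (Nat.mul 408 124) 124 = true := by decide +kernel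

theorem centU_409 : rangeK centU (Nat.mul 409 124) 124 = true := by decide +kernel

theorem centU_410 : rangeK centU (Nat.mul 410 124) 124 = true := by decide +kernel

theorem centU_411 : rangeK centU (Nat.mul 411 124) 124 = true := by decide +kernel

theorem centU_412 : rangeK centU (Nat.mul 412 124) 124 = true := by decide +kernel

theorem centU_413 : rangeK centU (Nat.mul 413 124) 124 = true := by decide +kernel

theorem centU_414 : rangeK centU (Nat.mul 414 124) 124 = true := by decide +kernel

theorem centU_415 : rangeK centU (Nat.mul 415 124) 124 = true := by decide +kernel

theorem centU_416 : rangeK centU (Nat.mul 416 124) 124 = true := by decide +kernel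

theorem centU_417 : rangeK centU (Nat.mul 417 124) 124 = true := by decide +kernel

theorem centU_418 : rangeK centU (Nat.mul 418 124) 124 = true := by decide +kernel

theorem centU_419 : rangeK centU (Nat.mul 419 124) 124 = true := by decide +kernel

theorem centU_420 : rangeK centU (Nat.mul 420 124) 124 = true := by decide +kernel

theorem centU_421 : rangeK centU (Nat.mul 421 124) 124 = true := by decide +kernel

theorem centU_422 : rangeK centU (Nat.mul 422 124) 124 = true := by decide +kernel

theorem centU_423 : rangeK centU (Nat.mul 423 124) 124 = true := by decide +kernel

theorem centU_424 : rangeK centU (Nat.mul 424 124) 124 = true := by decide +kernel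

theorem centU_425 : rangeK centU (Nat.mul 425 124) 124 = true := by decide +kernel

theorem centU_426 : rangeK centU (Nat.mul 426 124) 124 = true := by decide +kernel

theorem centU_427 : rangeK centU (Nat.mul 427 124) 124 = true := by decide +kernel

theorem centU_428 : rangeK centU (Nat.mul 428 124) 124 = true := by decide +kernel

theorem centU_part12 : ∀ q, 49104 ≤ q → q < 53196 → centU q = true := by
  have h : ∀ i < 33, rangeK centU (Nat.mul (396 + i) 124) 124 = true := by
    intro i hi
    interval_cases i
    · exact centU_396
    · exact centU_397
    · exact centU_398
    · exact centU_399
    · exact centU_400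
    · exact centU_401
    · exact centU_402
    · exact centU_403
    · exact centU_404
    · exact centU_405
    · exact centU_406
    · exact centU_407
    · exact centU_408
    · exact centU_409
    · exact centU_410
    · exact centU_411
    · exact centU_412
    · exact centU_413
    · exact centU_414
    · exact centU_415
    · exact centU_416
    · exact centU_417
    · exact centU_418
    · exact centU_419
    · exact centU_420
    · exact centU_421
    · exact centU_422
    · exact centU_423
    · exact centU_424
    · exact centU_425
    · exact centU_426
    · exact centU_427
    · exact centU_428
  exact cover_part centU 396 124 33 (by norm_num) h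

end Cfsg.Agent.Lib.helper17.OnOut
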