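import Cfsg.Agent.Lib.helper17.OnOut.CentDefs

set_option autoImplicit false

/-! Part 24 of the second search (generated, helper17) -/

namespace Cfsg.Agent.Lib.helper17.OnOut

open Cfsg.Agent.Lib.Helper12.TC

theorem centU_792 : rangeK centU (Nat.mul 792 124) 124 = true := by decide +kernel

theorem centU_793 : rangeK centU (Nat.mul 793 124) 124 = true := by decide +kernel

theorem centU_794 : rangeK centU (Nat.mul 794 124) 124 = true := by decide +kernel

theorem centU_795 : rangeK centU (Nat.mul 795 124) 124 = true := by decide +kernel

theorem centU_796 : rangeK centU (Nat.mul 796 124) 124 = true := by decide +kernel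

theorem centU_797 : rangeK centU (Nat.mul 797 124) 124 = true := by decide +kernel

theorem centU_798 : rangeK centU (Nat.mul 798 124) 124 = true := by decide +kernel

theorem centU_799 : rangeK centU (Nat.mul 799 124) 124 = true := by decide +kernel

theorem centU_800 : rangeK centU (Nat.mul 800 124) 124 = true := by decide +kernel

theorem centU_801 : rangeK centU (Nat.mul 801 124) 124 = true := by decide +kernel

theorem centU_802 : rangeK centU (Nat.mul 802 124) 124 = true := by decide +kernel

theorem centU_803 : rangeK centU (Nat.mul 803 124) 124 = true := by decide +kernel

theorem centU_804 : rangeK centU (Nat.mul 804 124) 124 = true := by decide +kernel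

theorem centU_805 : rangeK centU (Nat.mul 805 124) 124 = true := by decide +kernel

theorem centU_806 : rangeK centU (Nat.mul 806 124) 124 = true := by decide +kernel

theorem centU_807 : rangeK centU (Nat.mul 807 124) 124 = true := by decide +kernel

theorem centU_808 : rangeK centU (Nat.mul 808 124) 124 = true := by decide +kernel

theorem centU_809 : rangeK centU (Nat.mul 809 124) 124 = true := by decide +kernel

theorem centU_810 : rangeK centU (Nat.mul 810 124) 124 = true := by decide +kernel

theorem centU_811 : rangeK centU (Nat.mul 811 124) 124 = true := by decide +kernel

theorem centU_812 : rangeK centU (Nat.mul 812 124) 124 = true := by decide +kernel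

theorem centU_813 : rangeK centU (Nat.mul 813 124) 124 = true := by decide +kernel

theorem centU_814 : rangeK centU (Nat.mul 814 124) 124 = true := by decide +kernel

theorem centU_815 : rangeK centU (Nat.mul 815 124) 124 = true := by decide +kernel

theorem centU_816 : rangeK centU (Nat.mul 816 124) 124 = true := by decide +kernel

theorem centU_817 : rangeK centU (Nat.mul 817 124) 124 = true := by decide +kernel

theorem centU_818 : rangeK centU (Nat.mul 818 124) 124 = true := by decide +kernel

theorem centU_819 : rangeK centU (Nat.mul 819 124) 124 = true := by decide +kernel

theorem centU_820 : rangeK centU (Nat.mul 820 124) 124 = true := by decide +kernel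

theorem centU_821 : rangeK centU (Nat.mul 821 124) 124 = true := by decide +kernel

theorem centU_822 : rangeK centU (Nat.mul 822 124) 124 = true := by decide +kernel

theorem centU_823 : rangeK centU (Nat.mul 823 124) 124 = true := by decide +kernel

theorem centU_824 : rangeK centU (Nat.mul 824 124) 124 = true := by decide +kernel

theorem centU_part24 : ∀ q, 98208 ≤ q → q < 102300 → centU q = true := by
  have h : ∀ i < 33, rangeK centU (Nat.mul (792 + i) 124) 124 = true := by
    intro i hi
    interval_cases i
    · exact centU_792
    · exact centU_793
    · exact centU_794
    · exact centU_795
    · exact centU_796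
    · exact centU_797
    · exact centU_798
    · exact centU_799
    · exact centU_800
    · exact centU_801
    · exact centU_802
    · exact centU_803
    · exact centU_804
    · exact centU_805
    · exact centU_806
    · exact centU_807
    · exact centU_808
    · exact centU_809
    · exact centU_810
    · exact centU_811
    · exact centU_812
    · exact centU_813
    · exact centU_814
    · exact centU_815
    · exact centU_816
    · exact centU_817
    · exact centU_818
    · exact centU_819
    · exact centU_820
    · exact centU_821
    · exact centU_822
    · exact centU_823
    · exact centU_824
  exact cover_part centU 792 124 33 (by norm_num) h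

end Cfsg.Agent.Lib.helper17.OnOut
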