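import Mathlib

set_option autoImplicit false

/-! A chain of three stabilisers in a permutation group whose order is known: the orbits are exactly
the sets of points reached, and the stabiliser of the base is trivial (helper17). -/

namespace Cfsg.Agent.Lib.helper17.OnOut

/-- the orbit-stabiliser equation for a subgroup of a symmetric group -/
theorem card_stab_eq {n : ℕ} (H : Subgroup (Equiv.Perm (Fin n))) (b : Fin n) :
    (MulAction.orbit H b).ncard *
      Nat.card (H ⊓ MulAction.stabilizer (Equiv.Perm (Fin n)) b : Subgroup (Equiv.Perm (Fin n))) =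
      Nat.card H := by
  have h1 := Subgroup.card_mul_index (MulAction.stabilizer H b)
  rw [MulAction.index_stabilizer] at h1
  have h2 : Nat.card (MulAction.stabilizer H b) =
      Nat.card (H ⊓ MulAction.stabilizer (Equiv.Perm (Fin n)) b :
        Subgroup (Equiv.Perm (Fin n))) := by
    apply Nat.card_congr
    refine ⟨fun x => ⟨x.1.1, ⟨x.1.2, ?_⟩⟩, fun y => ⟨⟨y.1, y.2.1⟩, ?_⟩, ?_, ?_⟩
    · have := x.2
      rw [MulAction.mem_stabilizer_iff] at this
      show x.1.1 ∈ MulAction.stabilizer (Equiv.Perm (Fin n)) b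
      rw [MulAction.mem_stabilizer_iff]
      exact this
    · have : y.1 ∈ MulAction.stabilizer (Equiv.Perm (Fin n)) b := y.2.2
      rw [MulAction.mem_stabilizer_iff] at this ⊢
      exact this
    · intro x; rfl
    · intro y; rfl
  rw [← h1, h2, mul_comm]

/-- a point reached by an element of `H` lies in the orbit -/
theorem mem_orbit_of {n : ℕ} (H : Subgroup (Equiv.Perm (Fin n))) (b z : Fin n)
    (t : Equiv.Perm (Fin n)) (ht : t ∈ H) (h : t b = z) : z ∈ MulAction.orbit H b :=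
  ⟨⟨t, ht⟩, h⟩

theorem arith_chain (n a b c d2 d3 : ℕ) (hn : 0 < n) (ha : d2 ≤ a) (hb : d3 ≤ b) (hc : 1 ≤ c)
    (hd2 : 0 < d2) (hd3 : 0 < d3) (h : n * (a * (b * c)) ≤ n * d2 * d3) :
    a = d2 ∧ b = d3 ∧ c = 1 := by
  have h' : a * (b * c) ≤ d2 * d3 := by
    rw [mul_assoc] at h
    exact Nat.le_of_mul_le_mul_left h hn
  have hbc : d3 ≤ b * c := le_trans hb (Nat.le_mul_of_pos_right b hc)
  refine ⟨?_, ?_, ?_⟩
  · by_contra hne
    have : d2 + 1 ≤ a := by omega
    have : (d2 + 1) * d3 ≤ a * (b * c) := Nat.mul_le_mul this hbc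
    nlinarith
  · by_contra hne
    have h1 : d3 + 1 ≤ b := by omega
    have h2 : d3 + 1 ≤ b * c := le_trans h1 (Nat.le_mul_of_pos_right b hc)
    have : d2 * (d3 + 1) ≤ a * (b * c) := Nat.mul_le_mul ha h2
    nlinarith
  · by_contra hne
    have h1 : 2 ≤ c := by omega
    have h2 : d3 * 2 ≤ b * c := Nat.mul_le_mul hb h1
    have : d2 * (d3 * 2) ≤ a * (b * c) := Nat.mul_le_mul ha h2
    nlinarith

/-- exactness of a chain of three stabilisers -/
theorem chain3_exact {n : ℕ} (R : Subgroup (Equiv.Perm (Fin n))) (b1 b2 b3 : Fin n)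
    (D2 D3 : Finset (Fin n))
    (h1 : ∀ q : Fin n, ∃ t ∈ R, t b1 = q)
    (h2 : ∀ z ∈ D2, ∃ t ∈ R, t b1 = b1 ∧ t b2 = z)
    (h3 : ∀ z ∈ D3, ∃ t ∈ R, t b1 = b1 ∧ t b2 = b2 ∧ t b3 = z)
    (hD2 : 0 < D2.card) (hD3 : 0 < D3.card) (hn : 0 < n)
    (hcard : Nat.card R ≤ n * D2.card * D3.card) :
    (∀ g ∈ R, g b1 = b1 → g b2 ∈ D2) ∧
    (∀ g ∈ R, g b1 = b1 → g b2 = b2 → g b3 ∈ D3) ∧
    (∀ g ∈ R, g b1 = b1 → g b2 = b2 → g b3 = b3 → g = 1) := by
  classical
  set R1 : Subgroup (Equiv.Perm (Fin n)) := R ⊓ MulAction.stabilizer (Equiv.Perm (Fin n)) b1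
    with hR1
  set R2 : Subgroup (Equiv.Perm (Fin n)) := R1 ⊓ MulAction.stabilizer (Equiv.Perm (Fin n)) b2
    with hR2
  set R3 : Subgroup (Equiv.Perm (Fin n)) := R2 ⊓ MulAction.stabilizer (Equiv.Perm (Fin n)) b3
    with hR3
  have e1 := card_stab_eq R b1
  have e2 := card_stab_eq R1 b2
  have e3 := card_stab_eq R2 b3
  rw [← hR1] at e1
  rw [← hR2] at e2
  rw [← hR3] at e3
  have o1 : (MulAction.orbit R b1).ncard = n := by
    have : MulAction.orbit R b1 = Set.univ := by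
      ext q
      simp only [Set.mem_univ, iff_true]
      obtain ⟨t, ht, htq⟩ := h1 q
      exact mem_orbit_of R b1 q t ht htq
    rw [this, Set.ncard_univ, Nat.card_eq_fintype_card, Fintype.card_fin]
  have s2 : (D2 : Set (Fin n)) ⊆ MulAction.orbit R1 b2 := by
    intro z hz
    obtain ⟨t, ht, ht1, ht2⟩ := h2 z (Finset.mem_coe.mp hz)
    exact mem_orbit_of R1 b2 z t ⟨ht, MulAction.mem_stabilizer_iff.mpr ht1⟩ ht2
  have s3 : (D3 : Set (Fin n)) ⊆ MulAction.orbit R2 b3 := by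
    intro z hz
    obtain ⟨t, ht, ht1, ht2, ht3⟩ := h3 z (Finset.mem_coe.mp hz)
    exact mem_orbit_of R2 b3 z t
      ⟨⟨ht, MulAction.mem_stabilizer_iff.mpr ht1⟩, MulAction.mem_stabilizer_iff.mpr ht2⟩ ht3
  have c2 : D2.card ≤ (MulAction.orbit R1 b2).ncard := by
    rw [← Set.ncard_coe_finset D2]
    exact Set.ncard_le_ncard s2 (Set.toFinite _)
  have c3 : D3.card ≤ (MulAction.orbit R2 b3).ncard := by
    rw [← Set.ncard_coe_finset D3]
    exact Set.ncard_le_ncard s3 (Set.toFinite _)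
  have r3 : 1 ≤ Nat.card R3 := Nat.card_pos
  have hall : n * ((MulAction.orbit R1 b2).ncard * ((MulAction.orbit R2 b3).ncard * Nat.card R3)) ≤
      n * D2.card * D3.card := by
    rw [e3, e2]
    have e1' : n * Nat.card R1 = Nat.card R := by
      have := e1
      rw [o1] at this
      exact this
    rw [e1']
    exact hcard
  obtain ⟨a2, a3, a4⟩ := arith_chain n _ _ _ _ _ hn c2 c3 r3 hD2 hD3 hall
  have q2 : (D2 : Set (Fin n)) = MulAction.orbit R1 b2 :=
    Set.eq_of_subset_of_ncard_le s2 (by rw [Set.ncard_coe_finset, a2]) (Set.toFinite _)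
  have q3 : (D3 : Set (Fin n)) = MulAction.orbit R2 b3 :=
    Set.eq_of_subset_of_ncard_le s3 (by rw [Set.ncard_coe_finset, a3]) (Set.toFinite _)
  refine ⟨?_, ?_, ?_⟩
  · intro g hg hg1
    have : g b2 ∈ MulAction.orbit R1 b2 :=
      mem_orbit_of R1 b2 _ g ⟨hg, MulAction.mem_stabilizer_iff.mpr hg1⟩ rfl
    rw [← q2] at this
    exact Finset.mem_coe.mp this
  · intro g hg hg1 hg2
    have : g b3 ∈ MulAction.orbit R2 b3 :=
      mem_orbit_of R2 b3 _ g
        ⟨⟨hg, MulAction.mem_stabilizer_iff.mpr hg1⟩, MulAction.mem_stabilizer_iff.mpr hg2⟩ rfl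
    rw [← q3] at this
    exact Finset.mem_coe.mp this
  · intro g hg hg1 hg2 hg3
    have hmem : g ∈ R3 :=
      ⟨⟨⟨hg, MulAction.mem_stabilizer_iff.mpr hg1⟩, MulAction.mem_stabilizer_iff.mpr hg2⟩,
        MulAction.mem_stabilizer_iff.mpr hg3⟩
    have hbot : R3 = ⊥ := Subgroup.card_eq_one.mp a4
    rw [hbot, Subgroup.mem_bot] at hmem
    exact hmem

end Cfsg.Agent.Lib.helper17.OnOut
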