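import Cfsg.Agent.Lib.helper17.OnOut.CentDefs

set_option autoImplicit false

/-! Tests of the third level of the stabiliser chain, and of the letters which fix the first base point
(helper17). -/

namespace Cfsg.Agent.Lib.helper17.OnOut

open Cfsg.Agent.Lib.Helper12.TC

/-- the word of an entry fixes the first two base points, maps the third to the point of the entry,
and this point is in the mask -/
noncomputable def d3OK (e : ℕ × List ℕ) : Bool :=
  and (Nat.beq (evw apON e.2 0) 0)
    (and (Nat.beq (evw apON e.2 1) 1)
      (and (Nat.beq (evw apON e.2 116381) e.1) (tb m3T e.1)))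

theorem d3_chk : allListK d3W d3OK = true := by decide +kernel

theorem d3_nodup : (d3W.map (fun e => (⟨e.1 % 122760, Nat.mod_lt _ (by decide)⟩ : Fin 122760))).Nodup := by
  decide +kernel

theorem d3_len : d3W.length = 64 := by decide +kernel

/-- the letters `0, ..., 5` fix the first base point -/
theorem fix0_chk : allBelowK 6 (fun s => Nat.beq (apON s 0) 0) = true := by decide +kernel

end Cfsg.Agent.Lib.helper17.OnOut
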