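import Cfsg.Agent.Lib.helper17.OnOut.CentDefs

set_option autoImplicit false

/-! Part 1 of the test of the second orbit (generated, helper17) -/

namespace Cfsg.Agent.Lib.helper17.OnOut

open Cfsg.Agent.Lib.Helper12.TC

theorem d2Q_45 : rangeK d2Q (Nat.mul 45 682) 682 = true := by decide +kernel

theorem d2Q_46 : rangeK d2Q (Nat.mul 46 682) 682 = true := by decide +kernel

theorem d2Q_47 : rangeK d2Q (Nat.mul 47 682) 682 = true := by decide +kernel

theorem d2Q_48 : rangeK d2Q (Nat.mul 48 682) 682 = true := by decide +kernel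

theorem d2Q_49 : rangeK d2Q (Nat.mul 49 682) 682 = true := by decide +kernel

theorem d2Q_50 : rangeK d2Q (Nat.mul 50 682) 682 = true := by decide +kernel

theorem d2Q_51 : rangeK d2Q (Nat.mul 51 682) 682 = true := by decide +kernel

theorem d2Q_52 : rangeK d2Q (Nat.mul 52 682) 682 = true := by decide +kernel

theorem d2Q_53 : rangeK d2Q (Nat.mul 53 682) 682 = true := by decide +kernel

theorem d2Q_54 : rangeK d2Q (Nat.mul 54 682) 682 = true := by decide +kernel

theorem d2Q_55 : rangeK d2Q (Nat.mul 55 682) 682 = true := by decide +kernel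

theorem d2Q_56 : rangeK d2Q (Nat.mul 56 682) 682 = true := by decide +kernel

theorem d2Q_57 : rangeK d2Q (Nat.mul 57 682) 682 = true := by decide +kernel

theorem d2Q_58 : rangeK d2Q (Nat.mul 58 682) 682 = true := by decide +kernel

theorem d2Q_59 : rangeK d2Q (Nat.mul 59 682) 682 = true := by decide +kernel

theorem d2Q_60 : rangeK d2Q (Nat.mul 60 682) 682 = true := by decide +kernel

theorem d2Q_61 : rangeK d2Q (Nat.mul 61 682) 682 = true := by decide +kernel

theorem d2Q_62 : rangeK d2Q (Nat.mul 62 682) 682 = true := by decide +kernel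

theorem d2Q_63 : rangeK d2Q (Nat.mul 63 682) 682 = true := by decide +kernel

theorem d2Q_64 : rangeK d2Q (Nat.mul 64 682) 682 = true := by decide +kernel

theorem d2Q_65 : rangeK d2Q (Nat.mul 65 682) 682 = true := by decide +kernel

theorem d2Q_66 : rangeK d2Q (Nat.mul 66 682) 682 = true := by decide +kernel

theorem d2Q_67 : rangeK d2Q (Nat.mul 67 682) 682 = true := by decide +kernel

theorem d2Q_68 : rangeK d2Q (Nat.mul 68 682) 682 = true := by decide +kernel

theorem d2Q_69 : rangeK d2Q (Nat.mul 69 682) 682 = true := by decide +kernel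

theorem d2Q_70 : rangeK d2Q (Nat.mul 70 682) 682 = true := by decide +kernel

theorem d2Q_71 : rangeK d2Q (Nat.mul 71 682) 682 = true := by decide +kernel

theorem d2Q_72 : rangeK d2Q (Nat.mul 72 682) 682 = true := by decide +kernel

theorem d2Q_73 : rangeK d2Q (Nat.mul 73 682) 682 = true := by decide +kernel

theorem d2Q_74 : rangeK d2Q (Nat.mul 74 682) 682 = true := by decide +kernel

theorem d2Q_75 : rangeK d2Q (Nat.mul 75 682) 682 = true := by decide +kernel

theorem d2Q_76 : rangeK d2Q (Nat.mul 76 682) 682 = true := by decide +kernel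

theorem d2Q_77 : rangeK d2Q (Nat.mul 77 682) 682 = true := by decide +kernel

theorem d2Q_78 : rangeK d2Q (Nat.mul 78 682) 682 = true := by decide +kernel

theorem d2Q_79 : rangeK d2Q (Nat.mul 79 682) 682 = true := by decide +kernel

theorem d2Q_80 : rangeK d2Q (Nat.mul 80 682) 682 = true := by decide +kernel

theorem d2Q_81 : rangeK d2Q (Nat.mul 81 682) 682 = true := by decide +kernel

theorem d2Q_82 : rangeK d2Q (Nat.mul 82 682) 682 = true := by decide +kernel

theorem d2Q_83 : rangeK d2Q (Nat.mul 83 682) 682 = true := by decide +kernel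

theorem d2Q_84 : rangeK d2Q (Nat.mul 84 682) 682 = true := by decide +kernel

theorem d2Q_85 : rangeK d2Q (Nat.mul 85 682) 682 = true := by decide +kernel

theorem d2Q_86 : rangeK d2Q (Nat.mul 86 682) 682 = true := by decide +kernel

theorem d2Q_87 : rangeK d2Q (Nat.mul 87 682) 682 = true := by decide +kernel

theorem d2Q_88 : rangeK d2Q (Nat.mul 88 682) 682 = true := by decide +kernel

theorem d2Q_89 : rangeK d2Q (Nat.mul 89 682) 682 = true := by decide +kernel

theorem d2Q_part1 : ∀ q, 30690 ≤ q → q < 61380 → d2Q q = true := by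
  have h : ∀ i < 45, rangeK d2Q (Nat.mul (45 + i) 682) 682 = true := by
    intro i hi
    interval_cases i
    · exact d2Q_45
    · exact d2Q_46
    · exact d2Q_47
    · exact d2Q_48
    · exact d2Q_49
    · exact d2Q_50
    · exact d2Q_51
    · exact d2Q_52
    · exact d2Q_53
    · exact d2Q_54
    · exact d2Q_55
    · exact d2Q_56
    · exact d2Q_57
    · exact d2Q_58
    · exact d2Q_59
    · exact d2Q_60
    · exact d2Q_61
    · exact d2Q_62
    · exact d2Q_63
    · exact d2Q_64
    · exact d2Q_65
    · exact d2Q_66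
    · exact d2Q_67
    · exact d2Q_68
    · exact d2Q_69
    · exact d2Q_70
    · exact d2Q_71
    · exact d2Q_72
    · exact d2Q_73
    · exact d2Q_74
    · exact d2Q_75
    · exact d2Q_76
    · exact d2Q_77
    · exact d2Q_78
    · exact d2Q_79
    · exact d2Q_80
    · exact d2Q_81
    · exact d2Q_82
    · exact d2Q_83
    · exact d2Q_84
    · exact d2Q_85
    · exact d2Q_86
    · exact d2Q_87
    · exact d2Q_88
    · exact d2Q_89
  exact cover_part d2Q 45 682 45 (by norm_num) h

end Cfsg.Agent.Lib.helper17.OnOut
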