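import Cfsg.Agent.Lib.helper17.OnOut.CentDefs

set_option autoImplicit false

/-! Part 2 of the test of the second orbit (generated, helper17) -/

namespace Cfsg.Agent.Lib.helper17.OnOut

open Cfsg.Agent.Lib.Helper12.TC

theorem d2Q_90 : rangeK d2Q (Nat.mul 90 682) 682 = true := by decide +kernel

theorem d2Q_91 : rangeK d2Q (Nat.mul 91 682) 682 = true := by decide +kernel

theorem d2Q_92 : rangeK d2Q (Nat.mul 92 682) 682 = true := by decide +kernel

theorem d2Q_93 : rangeK d2Q (Nat.mul 93 682) 682 = true := by decide +kernel

theorem d2Q_94 : rangeK d2Q (Nat.mul 94 682) 682 = true := by decide +kernel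

theorem d2Q_95 : rangeK d2Q (Nat.mul 95 682) 682 = true := by decide +kernel

theorem d2Q_96 : rangeK d2Q (Nat.mul 96 682) 682 = true := by decide +kernel

theorem d2Q_97 : rangeK d2Q (Nat.mul 97 682) 682 = true := by decide +kernel

theorem d2Q_98 : rangeK d2Q (Nat.mul 98 682) 682 = true := by decide +kernel

theorem d2Q_99 : rangeK d2Q (Nat.mul 99 682) 682 = true := by decide +kernel

theorem d2Q_100 : rangeK d2Q (Nat.mul 100 682) 682 = true := by decide +kernel

theorem d2Q_101 : rangeK d2Q (Nat.mul 101 682) 682 = true := by decide +kernel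

theorem d2Q_102 : rangeK d2Q (Nat.mul 102 682) 682 = true := by decide +kernel

theorem d2Q_103 : rangeK d2Q (Nat.mul 103 682) 682 = true := by decide +kernel

theorem d2Q_104 : rangeK d2Q (Nat.mul 104 682) 682 = true := by decide +kernel

theorem d2Q_105 : rangeK d2Q (Nat.mul 105 682) 682 = true := by decide +kernel

theorem d2Q_106 : rangeK d2Q (Nat.mul 106 682) 682 = true := by decide +kernel

theorem d2Q_107 : rangeK d2Q (Nat.mul 107 682) 682 = true := by decide +kernel

theorem d2Q_108 : rangeK d2Q (Nat.mul 108 682) 682 = true := by decide +kernel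

theorem d2Q_109 : rangeK d2Q (Nat.mul 109 682) 682 = true := by decide +kernel

theorem d2Q_110 : rangeK d2Q (Nat.mul 110 682) 682 = true := by decide +kernel

theorem d2Q_111 : rangeK d2Q (Nat.mul 111 682) 682 = true := by decide +kernel

theorem d2Q_112 : rangeK d2Q (Nat.mul 112 682) 682 = true := by decide +kernel

theorem d2Q_113 : rangeK d2Q (Nat.mul 113 682) 682 = true := by decide +kernel

theorem d2Q_114 : rangeK d2Q (Nat.mul 114 682) 682 = true := by decide +kernel

theorem d2Q_115 : rangeK d2Q (Nat.mul 115 682) 682 = true := by decide +kernel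

theorem d2Q_116 : rangeK d2Q (Nat.mul 116 682) 682 = true := by decide +kernel

theorem d2Q_117 : rangeK d2Q (Nat.mul 117 682) 682 = true := by decide +kernel

theorem d2Q_118 : rangeK d2Q (Nat.mul 118 682) 682 = true := by decide +kernel

theorem d2Q_119 : rangeK d2Q (Nat.mul 119 682) 682 = true := by decide +kernel

theorem d2Q_120 : rangeK d2Q (Nat.mul 120 682) 682 = true := by decide +kernel

theorem d2Q_121 : rangeK d2Q (Nat.mul 121 682) 682 = true := by decide +kernel

theorem d2Q_122 : rangeK d2Q (Nat.mul 122 682) 682 = true := by decide +kernel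

theorem d2Q_123 : rangeK d2Q (Nat.mul 123 682) 682 = true := by decide +kernel

theorem d2Q_124 : rangeK d2Q (Nat.mul 124 682) 682 = true := by decide +kernel

theorem d2Q_125 : rangeK d2Q (Nat.mul 125 682) 682 = true := by decide +kernel

theorem d2Q_126 : rangeK d2Q (Nat.mul 126 682) 682 = true := by decide +kernel

theorem d2Q_127 : rangeK d2Q (Nat.mul 127 682) 682 = true := by decide +kernel

theorem d2Q_128 : rangeK d2Q (Nat.mul 128 682) 682 = true := by decide +kernel

theorem d2Q_129 : rangeK d2Q (Nat.mul 129 682) 682 = true := by decide +kernel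

theorem d2Q_130 : rangeK d2Q (Nat.mul 130 682) 682 = true := by decide +kernel

theorem d2Q_131 : rangeK d2Q (Nat.mul 131 682) 682 = true := by decide +kernel

theorem d2Q_132 : rangeK d2Q (Nat.mul 132 682) 682 = true := by decide +kernel

theorem d2Q_133 : rangeK d2Q (Nat.mul 133 682) 682 = true := by decide +kernel

theorem d2Q_134 : rangeK d2Q (Nat.mul 134 682) 682 = true := by decide +kernel

theorem d2Q_part2 : ∀ q, 61380 ≤ q → q < 92070 → d2Q q = true := by
  have h : ∀ i < 45, rangeK d2Q (Nat.mul (90 + i) 682) 682 = true := by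
    intro i hi
    interval_cases i
    · exact d2Q_90
    · exact d2Q_91
    · exact d2Q_92
    · exact d2Q_93
    · exact d2Q_94
    · exact d2Q_95
    · exact d2Q_96
    · exact d2Q_97
    · exact d2Q_98
    · exact d2Q_99
    · exact d2Q_100
    · exact d2Q_101
    · exact d2Q_102
    · exact d2Q_103
    · exact d2Q_104
    · exact d2Q_105
    · exact d2Q_106
    · exact d2Q_107
    · exact d2Q_108
    · exact d2Q_109
    · exact d2Q_110
    · exact d2Q_111
    · exact d2Q_112
    · exact d2Q_113
    · exact d2Q_114
    · exact d2Q_115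
    · exact d2Q_116
    · exact d2Q_117
    · exact d2Q_118
    · exact d2Q_119
    · exact d2Q_120
    · exact d2Q_121
    · exact d2Q_122
    · exact d2Q_123
    · exact d2Q_124
    · exact d2Q_125
    · exact d2Q_126
    · exact d2Q_127
    · exact d2Q_128
    · exact d2Q_129
    · exact d2Q_130
    · exact d2Q_131
    · exact d2Q_132
    · exact d2Q_133
    · exact d2Q_134
  exact cover_part d2Q 90 682 45 (by norm_num) h

end Cfsg.Agent.Lib.helper17.OnOut
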