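import Cfsg.Agent.Lib.helper17.OnOut.CentDefs

set_option autoImplicit false

/-! Part 3 of the test of the second orbit (generated, helper17) -/

namespace Cfsg.Agent.Lib.helper17.OnOut

open Cfsg.Agent.Lib.Helper12.TC

theorem d2Q_135 : rangeK d2Q (Nat.mul 135 682) 682 = true := by decide +kernel

theorem d2Q_136 : rangeK d2Q (Nat.mul 136 682) 682 = true := by decide +kernel

theorem d2Q_137 : rangeK d2Q (Nat.mul 137 682) 682 = true := by decide +kernel

theorem d2Q_138 : rangeK d2Q (Nat.mul 138 682) 682 = true := by decide +kernel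

theorem d2Q_139 : rangeK d2Q (Nat.mul 139 682) 682 = true := by decide +kernel

theorem d2Q_140 : rangeK d2Q (Nat.mul 140 682) 682 = true := by decide +kernel

theorem d2Q_141 : rangeK d2Q (Nat.mul 141 682) 682 = true := by decide +kernel

theorem d2Q_142 : rangeK d2Q (Nat.mul 142 682) 682 = true := by decide +kernel

theorem d2Q_143 : rangeK d2Q (Nat.mul 143 682) 682 = true := by decide +kernel

theorem d2Q_144 : rangeK d2Q (Nat.mul 144 682) 682 = true := by decide +kernel

theorem d2Q_145 : rangeK d2Q (Nat.mul 145 682) 682 = true := by decide +kernel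

theorem d2Q_146 : rangeK d2Q (Nat.mul 146 682) 682 = true := by decide +kernel

theorem d2Q_147 : rangeK d2Q (Nat.mul 147 682) 682 = true := by decide +kernel

theorem d2Q_148 : rangeK d2Q (Nat.mul 148 682) 682 = true := by decide +kernel

theorem d2Q_149 : rangeK d2Q (Nat.mul 149 682) 682 = true := by decide +kernel

theorem d2Q_150 : rangeK d2Q (Nat.mul 150 682) 682 = true := by decide +kernel

theorem d2Q_151 : rangeK d2Q (Nat.mul 151 682) 682 = true := by decide +kernel

theorem d2Q_152 : rangeK d2Q (Nat.mul 152 682) 682 = true := by decide +kernel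

theorem d2Q_153 : rangeK d2Q (Nat.mul 153 682) 682 = true := by decide +kernel

theorem d2Q_154 : rangeK d2Q (Nat.mul 154 682) 682 = true := by decide +kernel

theorem d2Q_155 : rangeK d2Q (Nat.mul 155 682) 682 = true := by decide +kernel

theorem d2Q_156 : rangeK d2Q (Nat.mul 156 682) 682 = true := by decide +kernel

theorem d2Q_157 : rangeK d2Q (Nat.mul 157 682) 682 = true := by decide +kernel

theorem d2Q_158 : rangeK d2Q (Nat.mul 158 682) 682 = true := by decide +kernel

theorem d2Q_159 : rangeK d2Q (Nat.mul 159 682) 682 = true := by decide +kernel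

theorem d2Q_160 : rangeK d2Q (Nat.mul 160 682) 682 = true := by decide +kernel

theorem d2Q_161 : rangeK d2Q (Nat.mul 161 682) 682 = true := by decide +kernel

theorem d2Q_162 : rangeK d2Q (Nat.mul 162 682) 682 = true := by decide +kernel

theorem d2Q_163 : rangeK d2Q (Nat.mul 163 682) 682 = true := by decide +kernel

theorem d2Q_164 : rangeK d2Q (Nat.mul 164 682) 682 = true := by decide +kernel

theorem d2Q_165 : rangeK d2Q (Nat.mul 165 682) 682 = true := by decide +kernel

theorem d2Q_166 : rangeK d2Q (Nat.mul 166 682) 682 = true := by decide +kernel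

theorem d2Q_167 : rangeK d2Q (Nat.mul 167 682) 682 = true := by decide +kernel

theorem d2Q_168 : rangeK d2Q (Nat.mul 168 682) 682 = true := by decide +kernel

theorem d2Q_169 : rangeK d2Q (Nat.mul 169 682) 682 = true := by decide +kernel

theorem d2Q_170 : rangeK d2Q (Nat.mul 170 682) 682 = true := by decide +kernel

theorem d2Q_171 : rangeK d2Q (Nat.mul 171 682) 682 = true := by decide +kernel

theorem d2Q_172 : rangeK d2Q (Nat.mul 172 682) 682 = true := by decide +kernel

theorem d2Q_173 : rangeK d2Q (Nat.mul 173 682) 682 = true := by decide +kernel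

theorem d2Q_174 : rangeK d2Q (Nat.mul 174 682) 682 = true := by decide +kernel

theorem d2Q_175 : rangeK d2Q (Nat.mul 175 682) 682 = true := by decide +kernel

theorem d2Q_176 : rangeK d2Q (Nat.mul 176 682) 682 = true := by decide +kernel

theorem d2Q_177 : rangeK d2Q (Nat.mul 177 682) 682 = true := by decide +kernel

theorem d2Q_178 : rangeK d2Q (Nat.mul 178 682) 682 = true := by decide +kernel

theorem d2Q_179 : rangeK d2Q (Nat.mul 179 682) 682 = true := by decide +kernel

theorem d2Q_part3 : ∀ q, 92070 ≤ q → q < 122760 → d2Q q = true := by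
  have h : ∀ i < 45, rangeK d2Q (Nat.mul (135 + i) 682) 682 = true := by
    intro i hi
    interval_cases i
    · exact d2Q_135
    · exact d2Q_136
    · exact d2Q_137
    · exact d2Q_138
    · exact d2Q_139
    · exact d2Q_140
    · exact d2Q_141
    · exact d2Q_142
    · exact d2Q_143
    · exact d2Q_144
    · exact d2Q_145
    · exact d2Q_146
    · exact d2Q_147
    · exact d2Q_148
    · exact d2Q_149
    · exact d2Q_150
    · exact d2Q_151
    · exact d2Q_152
    · exact d2Q_153
    · exact d2Q_154
    · exact d2Q_155
    · exact d2Q_156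
    · exact d2Q_157
    · exact d2Q_158
    · exact d2Q_159
    · exact d2Q_160
    · exact d2Q_161
    · exact d2Q_162
    · exact d2Q_163
    · exact d2Q_164
    · exact d2Q_165
    · exact d2Q_166
    · exact d2Q_167
    · exact d2Q_168
    · exact d2Q_169
    · exact d2Q_170
    · exact d2Q_171
    · exact d2Q_172
    · exact d2Q_173
    · exact d2Q_174
    · exact d2Q_175
    · exact d2Q_176
    · exact d2Q_177
    · exact d2Q_178
    · exact d2Q_179
  exact cover_part d2Q 135 682 45 (by norm_num) h

end Cfsg.Agent.Lib.helper17.OnOut
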