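import Cfsg.Agent.Lib.helper17.OnOut.D2Chk0
import Cfsg.Agent.Lib.helper17.OnOut.D2Chk1
import Cfsg.Agent.Lib.helper17.OnOut.D2Chk2
import Cfsg.Agent.Lib.helper17.OnOut.D2Chk3

set_option autoImplicit false

/-! All parts of the test of the second orbit (generated, helper17) -/

namespace Cfsg.Agent.Lib.helper17.OnOut

open Cfsg.Agent.Lib.Helper12.TC

theorem d2Q_cover : ∀ q < 122760, d2Q q = true := by
  intro q hq
  have hf : q / 30690 < 4 := by omega
  have h1 : q / 30690 * 30690 ≤ q := Nat.div_mul_le_self q 30690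
  have h2 : q < q / 30690 * 30690 + 30690 := Nat.lt_div_mul_add (by norm_num)
  generalize q / 30690 = f at hf h1 h2
  interval_cases f
  · exact d2Q_part0 q (by omega) (by omega)
  · exact d2Q_part1 q (by omega) (by omega)
  · exact d2Q_part2 q (by omega) (by omega)
  · exact d2Q_part3 q (by omega) (by omega)

end Cfsg.Agent.Lib.helper17.OnOut
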