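import Cfsg.Agent.Lib.helper17.OnOut.Cent

set_option autoImplicit false

/-! Counting the numbers below a bound which pass a test, in chunks (helper17). -/

namespace Cfsg.Agent.Lib.helper17.OnOut

open Cfsg.Agent.Lib.Helper12.TC Cfsg.Agent.Lib.helper17.HeOut

/-- the number of `q < n` which pass the test `f` -/
def cntF (f : ℕ → Bool) (n : ℕ) : ℕ := ((Finset.range n).filter (fun q => f q = true)).card

theorem cntF_add (f : ℕ → Bool) (a b : ℕ) :
    cntF f (a + b) = cntF f a + cntF (fun i => f (a + i)) b := by
  unfold cntF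
  rw [Finset.card_filter, Finset.card_filter, Finset.card_filter, Finset.sum_range_add]

theorem cntB_range (f : ℕ → Bool) (lo L : ℕ) :
    cntB (fun i => f (Nat.add lo i)) L 0 = cntF (fun i => f (lo + i)) L := by
  rw [cntB_eq, zero_add]
  rfl

/-- counting in chunks of the same length -/
theorem cntF_chunks (f : ℕ → Bool) (L : ℕ) (ns : ℕ → ℕ) (k : ℕ)
    (h : ∀ j < k, cntB (fun i => f (Nat.add (Nat.mul j L) i)) L 0 = ns j) :
    cntF f (k * L) = ∑ j ∈ Finset.range k, ns j := by
  induction k with
  | zero => simp [cntF]
  | succ k ih =>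
    rw [Nat.succ_mul, cntF_add, ih (fun j hj => h j (by omega)), Finset.sum_range_succ]
    congr 1
    rw [← h k (by omega), cntB_range]
    rfl

/-- the number of points of `Fin n` which pass a test -/
theorem card_filter_eq_cntF (f : ℕ → Bool) (n : ℕ) :
    (Finset.univ.filter (fun q : Fin n => f q.1 = true)).card = cntF f n :=
  card_filter_fin f n

end Cfsg.Agent.Lib.helper17.OnOut
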