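import Cfsg.Agent.Lib.helper17.OnOut.CentDefs
import Cfsg.Agent.Lib.helper17.OnOut.Count

set_option autoImplicit false

/-! The number of points of the second orbit of the stabiliser chain (generated, helper17) -/

namespace Cfsg.Agent.Lib.helper17.OnOut

open Cfsg.Agent.Lib.Helper12.TC Cfsg.Agent.Lib.helper17.HeOut

/-- the test for a point of the second orbit: it has a letter in the second Schreier vector -/
noncomputable def d2f (z0 : Nat) : Bool :=
  forceN z0 fun z => @Bool.rec (fun _ => Bool) true false (Nat.beq (lkS selS2 z) 15)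

/-- the numbers of points of the second orbit in the chunks of 8184 points -/
def d2ns (j : Nat) : Nat := [8183, 8184, 8184, 8184, 8184, 8184, 8184, 1366, 0, 0, 0, 0, 0, 0, 0].getD j 0

theorem d2cnt_0 : cntB (fun i => d2f (Nat.add (Nat.mul 0 8184) i)) 8184 0 = 8183 := by
  decide +kernel

theorem d2cnt_1 : cntB (fun i => d2f (Nat.add (Nat.mul 1 8184) i)) 8184 0 = 8184 := by
  decide +kernel

theorem d2cnt_2 : cntB (fun i => d2f (Nat.add (Nat.mul 2 8184) i)) 8184 0 = 8184 := by
  decide +kernel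

theorem d2cnt_3 : cntB (fun i => d2f (Nat.add (Nat.mul 3 8184) i)) 8184 0 = 8184 := by
  decide +kernel

theorem d2cnt_4 : cntB (fun i => d2f (Nat.add (Nat.mul 4 8184) i)) 8184 0 = 8184 := by
  decide +kernel

theorem d2cnt_5 : cntB (fun i => d2f (Nat.add (Nat.mul 5 8184) i)) 8184 0 = 8184 := by
  decide +kernel

theorem d2cnt_6 : cntB (fun i => d2f (Nat.add (Nat.mul 6 8184) i)) 8184 0 = 8184 := by
  decide +kernel

theorem d2cnt_7 : cntB (fun i => d2f (Nat.add (Nat.mul 7 8184) i)) 8184 0 = 1366 := by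
  decide +kernel

theorem d2cnt_8 : cntB (fun i => d2f (Nat.add (Nat.mul 8 8184) i)) 8184 0 = 0 := by
  decide +kernel

theorem d2cnt_9 : cntB (fun i => d2f (Nat.add (Nat.mul 9 8184) i)) 8184 0 = 0 := by
  decide +kernel

theorem d2cnt_10 : cntB (fun i => d2f (Nat.add (Nat.mul 10 8184) i)) 8184 0 = 0 := by
  decide +kernel

theorem d2cnt_11 : cntB (fun i => d2f (Nat.add (Nat.mul 11 8184) i)) 8184 0 = 0 := by
  decide +kernel

theorem d2cnt_12 : cntB (fun i => d2f (Nat.add (Nat.mul 12 8184) i)) 8184 0 = 0 := by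
  decide +kernel

theorem d2cnt_13 : cntB (fun i => d2f (Nat.add (Nat.mul 13 8184) i)) 8184 0 = 0 := by
  decide +kernel

theorem d2cnt_14 : cntB (fun i => d2f (Nat.add (Nat.mul 14 8184) i)) 8184 0 = 0 := by
  decide +kernel

theorem d2_count : cntF d2f 122760 = 58653 := by
  have h : ∀ j < 15, cntB (fun i => d2f (Nat.add (Nat.mul j 8184) i)) 8184 0 = d2ns j := by
    intro j hj
    interval_cases j
    · exact d2cnt_0
    · exact d2cnt_1
    · exact d2cnt_2
    · exact d2cnt_3
    · exact d2cnt_4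
    · exact d2cnt_5
    · exact d2cnt_6
    · exact d2cnt_7
    · exact d2cnt_8
    · exact d2cnt_9
    · exact d2cnt_10
    · exact d2cnt_11
    · exact d2cnt_12
    · exact d2cnt_13
    · exact d2cnt_14
  have := cntF_chunks d2f 8184 d2ns 15 h
  rw [show 15 * 8184 = 122760 from rfl] at this
  rw [this]
  decide

end Cfsg.Agent.Lib.helper17.OnOut
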