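import Cfsg.Agent.Lib.helper17.OnOut.ModelSem
import Cfsg.Agent.Lib.helper17.OnOut.ChainChk
import Cfsg.Agent.Lib.helper17.OnOut.D2Cnt
import Cfsg.Agent.Lib.helper17.OnOut.D2ChkAll
import Cfsg.Agent.Lib.helper17.OnOut.Chain3

set_option autoImplicit false

/-! The stabiliser chain of the O'Nan group on 122760 points with base `0, 1, 116381`: the orbits are
exactly the sets given by the tables, and an element is determined by the images of the base
(helper17). -/

namespace Cfsg.Agent.Lib.helper17.OnOut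

open Cfsg.Spor Cfsg.Agent.Lib.Helper12.TC Cfsg.Agent.Lib.Helper12.TCG
  Cfsg.Agent.Lib.Helper12.TCG.ONPres Cfsg.Agent.Lib.Helper12.TCG.ONx122760
  Cfsg.Agent.Lib.Helper12.Ord

/-- the second orbit -/
noncomputable def fD2 : Finset (Fin cN) := Finset.univ.filter (fun z : Fin cN => d2f z.1 = true)

/-- the third orbit -/
noncomputable def fD3 : Finset (Fin cN) :=
  (d3W.map (fun e => (⟨e.1 % 122760, Nat.mod_lt _ (by decide)⟩ : Fin cN))).toFinset

theorem fD2_card : fD2.card = 58653 := by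
  rw [fD2, card_filter_eq_cntF]
  exact d2_count

theorem fD3_card : fD3.card = 64 := by
  have hnd : (d3W.map (fun e => (⟨e.1 % 122760, Nat.mod_lt _ (by decide)⟩ : Fin cN))).Nodup :=
    d3_nodup
  have h := List.toFinset_card_of_nodup hnd
  rw [List.length_map, d3_len] at h
  exact h

/-- the letters `0, ..., 5` fix the first base point -/
theorem fix_pb1 : ∀ s < 6, rho (v s) pb1 = pb1 := by
  intro s hs
  apply Fin.ext
  rw [semON s pb1]
  exact Nat.eq_of_beq_eq_true ((allBelowK_iff 6 _).mp fix0_chk s hs)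

theorem d2f_iff (z : ℕ) : d2f z = true ↔ Nat.beq (lkS selS2 z) 15 = false := by
  unfold d2f
  rw [forceN_eq]
  cases Nat.beq (lkS selS2 z) 15 <;> simp

theorem reach2 : ∀ z ∈ fD2, ∃ t ∈ rho.range, t pb1 = pb1 ∧ t pb2 = z := by
  intro z hz
  have hz' : d2f z.1 = true := (Finset.mem_filter.mp hz).2
  have hb := (d2f_iff z.1).mp hz'
  have hq := d2Q_cover z.1 z.2
  unfold d2Q at hq
  rw [forceN_eq, hb] at hq
  obtain ⟨t, htS, ht⟩ := walk0_sound semON
    ((MulAction.stabilizer (Equiv.Perm (Fin cN)) pb1).comap rho) (lkS selS2) 6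
    (fun s hs => by
      show rho (v s) ∈ MulAction.stabilizer (Equiv.Perm (Fin cN)) pb1
      rw [MulAction.mem_stabilizer_iff]
      exact fix_pb1 s hs) pb2 31 z hq
  refine ⟨rho t, ⟨t, rfl⟩, ?_, ht⟩
  have : rho t ∈ MulAction.stabilizer (Equiv.Perm (Fin cN)) pb1 := htS
  rw [MulAction.mem_stabilizer_iff] at this
  exact this

theorem d3_entry (e : ℕ × List ℕ) (he : e ∈ d3W) :
    rho (wprod v e.2) pb1 = pb1 ∧ rho (wprod v e.2) pb2 = pb2 ∧
      (rho (wprod v e.2) pb3).1 = e.1 ∧ tb m3T e.1 = true := by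
  have h := (allListK_iff d3W _).mp d3_chk e he
  unfold d3OK at h
  simp only [Bool.and_eq_true] at h
  obtain ⟨h1, h2, h3, h4⟩ := h
  refine ⟨?_, ?_, ?_, h4⟩
  · apply Fin.ext
    rw [sem_evw semON]
    exact Nat.eq_of_beq_eq_true h1
  · apply Fin.ext
    rw [sem_evw semON]
    exact Nat.eq_of_beq_eq_true h2
  · rw [sem_evw semON]
    exact Nat.eq_of_beq_eq_true h3

theorem mem_fD3 (z : Fin cN) (hz : z ∈ fD3) : ∃ e ∈ d3W, z.1 = e.1 := by
  rw [fD3, List.mem_toFinset, List.mem_map] at hz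
  obtain ⟨e, he, hez⟩ := hz
  refine ⟨e, he, ?_⟩
  obtain ⟨-, -, h3, -⟩ := d3_entry e he
  have hlt : e.1 < 122760 := by rw [← h3]; exact (rho (wprod v e.2) pb3).2
  rw [← hez]
  exact Nat.mod_eq_of_lt hlt

theorem reach3 : ∀ z ∈ fD3, ∃ t ∈ rho.range, t pb1 = pb1 ∧ t pb2 = pb2 ∧ t pb3 = z := by
  intro z hz
  obtain ⟨e, he, hze⟩ := mem_fD3 z hz
  obtain ⟨h1, h2, h3, -⟩ := d3_entry e he
  exact ⟨rho (wprod v e.2), ⟨_, rfl⟩, h1, h2, Fin.ext (by rw [h3, hze])⟩

theorem chain_exact :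
    (∀ g ∈ rho.range, g pb1 = pb1 → g pb2 ∈ fD2) ∧
    (∀ g ∈ rho.range, g pb1 = pb1 → g pb2 = pb2 → g pb3 ∈ fD3) ∧
    (∀ g ∈ rho.range, g pb1 = pb1 → g pb2 = pb2 → g pb3 = pb3 → g = 1) := by
  refine chain3_exact rho.range pb1 pb2 pb3 fD2 fD3 ?_ reach2 reach3 ?_ ?_ hN0 ?_
  · intro q
    obtain ⟨γ, hγ⟩ := rho_trans q
    exact ⟨rho γ, ⟨γ, rfl⟩, hγ⟩
  · rw [fD2_card]; norm_num
  · rw [fD3_card]; norm_num
  · rw [card_range, fD2_card, fD3_card]
    show 460815505920 ≤ 122760 * 58653 * 64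
    norm_num

/-- an element which fixes the first base point maps the second into the second orbit -/
theorem orbit2 (g : ON) (h1 : rho g pb1 = pb1) : Nat.beq (lkS selS2 (rho g pb2).1) 15 = false := by
  have := chain_exact.1 (rho g) ⟨g, rfl⟩ h1
  exact (d2f_iff _).mp (Finset.mem_filter.mp this).2

/-- an element which fixes the first two base points maps the third into the third orbit -/
theorem orbit3 (g : ON) (h1 : rho g pb1 = pb1) (h2 : rho g pb2 = pb2) :
    tb m3T (rho g pb3).1 = true := by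
  have := chain_exact.2.1 (rho g) ⟨g, rfl⟩ h1 h2
  obtain ⟨e, he, hze⟩ := mem_fD3 _ this
  obtain ⟨-, -, -, h4⟩ := d3_entry e he
  rw [hze]
  exact h4

/-- an element of the group is determined by the images of the three base points -/
theorem eq_of_base (g h : ON) (h1 : rho g pb1 = rho h pb1) (h2 : rho g pb2 = rho h pb2)
    (h3 : rho g pb3 = rho h pb3) : g = h := by
  have hfix : ∀ b : Fin cN, rho g b = rho h b → rho (g⁻¹ * h) b = b := by
    intro b hb
    rw [map_mul, map_inv, Equiv.Perm.mul_apply, ← hb]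
    exact perm_inv_apply_self _ _
  have hx := chain_exact.2.2 (rho (g⁻¹ * h)) ⟨_, rfl⟩ (hfix _ h1) (hfix _ h2) (hfix _ h3)
  have : g⁻¹ * h = 1 := rho_inj (by rw [hx, map_one])
  calc g = g * (g⁻¹ * h) := by rw [this, mul_one]
    _ = h := by group

end Cfsg.Agent.Lib.helper17.OnOut
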