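import Cfsg.Agent.Lib.helper17.OnOut.CentDefs

set_option autoImplicit false

/-! Part 0 of the test of the second orbit (generated, helper17) -/

namespace Cfsg.Agent.Lib.helper17.OnOut

open Cfsg.Agent.Lib.Helper12.TC

theorem d2Q_0 : rangeK d2Q (Nat.mul 0 682) 682 = true := by decide +kernel

theorem d2Q_1 : rangeK d2Q (Nat.mul 1 682) 682 = true := by decide +kernel

theorem d2Q_2 : rangeK d2Q (Nat.mul 2 682) 682 = true := by decide +kernel

theorem d2Q_3 : rangeK d2Q (Nat.mul 3 682) 682 = true := by decide +kernel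

theorem d2Q_4 : rangeK d2Q (Nat.mul 4 682) 682 = true := by decide +kernel

theorem d2Q_5 : rangeK d2Q (Nat.mul 5 682) 682 = true := by decide +kernel

theorem d2Q_6 : rangeK d2Q (Nat.mul 6 682) 682 = true := by decide +kernel

theorem d2Q_7 : rangeK d2Q (Nat.mul 7 682) 682 = true := by decide +kernel

theorem d2Q_8 : rangeK d2Q (Nat.mul 8 682) 682 = true := by decide +kernel

theorem d2Q_9 : rangeK d2Q (Nat.mul 9 682) 682 = true := by decide +kernel

theorem d2Q_10 : rangeK d2Q (Nat.mul 10 682) 682 = true := by decide +kernel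

theorem d2Q_11 : rangeK d2Q (Nat.mul 11 682) 682 = true := by decide +kernel

theorem d2Q_12 : rangeK d2Q (Nat.mul 12 682) 682 = true := by decide +kernel

theorem d2Q_13 : rangeK d2Q (Nat.mul 13 682) 682 = true := by decide +kernel

theorem d2Q_14 : rangeK d2Q (Nat.mul 14 682) 682 = true := by decide +kernel

theorem d2Q_15 : rangeK d2Q (Nat.mul 15 682) 682 = true := by decide +kernel

theorem d2Q_16 : rangeK d2Q (Nat.mul 16 682) 682 = true := by decide +kernel

theorem d2Q_17 : rangeK d2Q (Nat.mul 17 682) 682 = true := by decide +kernel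

theorem d2Q_18 : rangeK d2Q (Nat.mul 18 682) 682 = true := by decide +kernel

theorem d2Q_19 : rangeK d2Q (Nat.mul 19 682) 682 = true := by decide +kernel

theorem d2Q_20 : rangeK d2Q (Nat.mul 20 682) 682 = true := by decide +kernel

theorem d2Q_21 : rangeK d2Q (Nat.mul 21 682) 682 = true := by decide +kernel

theorem d2Q_22 : rangeK d2Q (Nat.mul 22 682) 682 = true := by decide +kernel

theorem d2Q_23 : rangeK d2Q (Nat.mul 23 682) 682 = true := by decide +kernel

theorem d2Q_24 : rangeK d2Q (Nat.mul 24 682) 682 = true := by decide +kernel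

theorem d2Q_25 : rangeK d2Q (Nat.mul 25 682) 682 = true := by decide +kernel

theorem d2Q_26 : rangeK d2Q (Nat.mul 26 682) 682 = true := by decide +kernel

theorem d2Q_27 : rangeK d2Q (Nat.mul 27 682) 682 = true := by decide +kernel

theorem d2Q_28 : rangeK d2Q (Nat.mul 28 682) 682 = true := by decide +kernel

theorem d2Q_29 : rangeK d2Q (Nat.mul 29 682) 682 = true := by decide +kernel

theorem d2Q_30 : rangeK d2Q (Nat.mul 30 682) 682 = true := by decide +kernel

theorem d2Q_31 : rangeK d2Q (Nat.mul 31 682) 682 = true := by decide +kernel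

theorem d2Q_32 : rangeK d2Q (Nat.mul 32 682) 682 = true := by decide +kernel

theorem d2Q_33 : rangeK d2Q (Nat.mul 33 682) 682 = true := by decide +kernel

theorem d2Q_34 : rangeK d2Q (Nat.mul 34 682) 682 = true := by decide +kernel

theorem d2Q_35 : rangeK d2Q (Nat.mul 35 682) 682 = true := by decide +kernel

theorem d2Q_36 : rangeK d2Q (Nat.mul 36 682) 682 = true := by decide +kernel

theorem d2Q_37 : rangeK d2Q (Nat.mul 37 682) 682 = true := by decide +kernel

theorem d2Q_38 : rangeK d2Q (Nat.mul 38 682) 682 = true := by decide +kernel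

theorem d2Q_39 : rangeK d2Q (Nat.mul 39 682) 682 = true := by decide +kernel

theorem d2Q_40 : rangeK d2Q (Nat.mul 40 682) 682 = true := by decide +kernel

theorem d2Q_41 : rangeK d2Q (Nat.mul 41 682) 682 = true := by decide +kernel

theorem d2Q_42 : rangeK d2Q (Nat.mul 42 682) 682 = true := by decide +kernel

theorem d2Q_43 : rangeK d2Q (Nat.mul 43 682) 682 = true := by decide +kernel

theorem d2Q_44 : rangeK d2Q (Nat.mul 44 682) 682 = true := by decide +kernel

theorem d2Q_part0 : ∀ q, 0 ≤ q → q < 30690 → d2Q q = true := by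
  have h : ∀ i < 45, rangeK d2Q (Nat.mul (0 + i) 682) 682 = true := by
    intro i hi
    interval_cases i
    · exact d2Q_0
    · exact d2Q_1
    · exact d2Q_2
    · exact d2Q_3
    · exact d2Q_4
    · exact d2Q_5
    · exact d2Q_6
    · exact d2Q_7
    · exact d2Q_8
    · exact d2Q_9
    · exact d2Q_10
    · exact d2Q_11
    · exact d2Q_12
    · exact d2Q_13
    · exact d2Q_14
    · exact d2Q_15
    · exact d2Q_16
    · exact d2Q_17
    · exact d2Q_18
    · exact d2Q_19
    · exact d2Q_20
    · exact d2Q_21
    · exact d2Q_22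
    · exact d2Q_23
    · exact d2Q_24
    · exact d2Q_25
    · exact d2Q_26
    · exact d2Q_27
    · exact d2Q_28
    · exact d2Q_29
    · exact d2Q_30
    · exact d2Q_31
    · exact d2Q_32
    · exact d2Q_33
    · exact d2Q_34
    · exact d2Q_35
    · exact d2Q_36
    · exact d2Q_37
    · exact d2Q_38
    · exact d2Q_39
    · exact d2Q_40
    · exact d2Q_41
    · exact d2Q_42
    · exact d2Q_43
    · exact d2Q_44
  exact cover_part d2Q 0 682 45 (by norm_num) h

end Cfsg.Agent.Lib.helper17.OnOut
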