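set_option autoImplicit false

/-! Words for the proof that the outer automorphism group of the O'Nan group has order 2: the
conjugating element, inverses, the generators of the presentation as words in the two elements `c` and
`w`, and the images of the generators under the outer automorphism (generated, helper17) -/

namespace Cfsg.Agent.Lib.helper17.OnOut

/-- the word of the conjugating element -/
def hL : List Nat := [nat_lit 6, nat_lit 1, nat_lit 7, nat_lit 2, nat_lit 6, nat_lit 4, nat_lit 3, nat_lit 1, nat_lit 2, nat_lit 3, nat_lit 4, nat_lit 6, nat_lit 3, nat_lit 2, nat_lit 3, nat_lit 4, nat_lit 2, nat_lit 3, nat_lit 0, nat_lit 1, nat_lit 0]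

/-- the word of its inverse -/
def hinvL : List Nat := [nat_lit 0, nat_lit 1, nat_lit 0, nat_lit 3, nat_lit 2, nat_lit 4, nat_lit 3, nat_lit 2, nat_lit 3, nat_lit 7, nat_lit 4, nat_lit 3, nat_lit 2, nat_lit 1, nat_lit 3, nat_lit 4, nat_lit 7, nat_lit 2, nat_lit 6, nat_lit 1, nat_lit 7]

/-- the word of the inverse of the element of order 11 -/
def cinvL : List Nat := [nat_lit 5, nat_lit 2, nat_lit 0, nat_lit 3, nat_lit 2, nat_lit 1, nat_lit 4, nat_lit 5, nat_lit 7]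

/-- the word of the inverse of the element of order 20 -/
def winvL : List Nat := [nat_lit 6, nat_lit 1, nat_lit 7, nat_lit 2, nat_lit 6, nat_lit 4, nat_lit 3, nat_lit 1, nat_lit 2, nat_lit 3, nat_lit 4, nat_lit 6, nat_lit 3, nat_lit 2, nat_lit 3, nat_lit 4, nat_lit 2, nat_lit 3, nat_lit 0, nat_lit 1, nat_lit 0, nat_lit 0, nat_lit 4, nat_lit 3, nat_lit 2, nat_lit 1, nat_lit 3, nat_lit 2, nat_lit 1, nat_lit 0, nat_lit 3, nat_lit 4, nat_lit 3, nat_lit 2, nat_lit 3, nat_lit 1, nat_lit 2, nat_lit 3, nat_lit 4, nat_lit 3, nat_lit 0, nat_lit 1, nat_lit 2, nat_lit 3, nat_lit 1, nat_lit 2, nat_lit 3, nat_lit 4, nat_lit 2, nat_lit 1, nat_lit 0, nat_lit 4, nat_lit 3, nat_lit 2, nat_lit 1, nat_lit 5, nat_lit 4, nat_lit 3, nat_lit 2, nat_lit 1, nat_lit 3, nat_lit 2, nat_lit 1, nat_lit 0, nat_lit 4, nat_lit 3, nat_lit 2, nat_lit 1,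 nat_lit 3, nat_lit 4, nat_lit 5, nat_lit 7, nat_lit 4, nat_lit 3, nat_lit 2, nat_lit 1, nat_lit 3, nat_lit 2, nat_lit 1, nat_lit 3, nat_lit 6, nat_lit 4, nat_lit 3, nat_lit 6, nat_lit 2, nat_lit 3, nat_lit 0, nat_lit 1, nat_lit 0, nat_lit 3, nat_lit 2, nat_lit 4, nat_lit 3, nat_lit 2, nat_lit 3, nat_lit 7, nat_lit 4, nat_lit 3, nat_lit 2, nat_lit 1, nat_lit 3, nat_lit 4, nat_lit 7, nat_lit 2, nat_lit 6, nat_lit 1, nat_lit 7]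

/-- the generator 0 as a word in `c` (letter 0), `w` (1) and their inverses (2, 3) -/
def gW0 : List Nat := [nat_lit 1, nat_lit 2, nat_lit 3, nat_lit 0, nat_lit 3, nat_lit 0, nat_lit 1, nat_lit 0, nat_lit 3, nat_lit 3, nat_lit 3, nat_lit 3, nat_lit 2, nat_lit 2, nat_lit 2, nat_lit 2, nat_lit 1, nat_lit 0, nat_lit 1, nat_lit 2, nat_lit 1, nat_lit 2, nat_lit 2, nat_lit 3, nat_lit 0, nat_lit 3, nat_lit 0, nat_lit 1, nat_lit 0, nat_lit 3, nat_lit 3, nat_lit 3, nat_lit 3, nat_lit 2, nat_lit 2, nat_lit 2, nat_lit 2, nat_lit 1, nat_lit 0, nat_lit 1, nat_lit 2, nat_lit 1, nat_lit 2, nat_lit 3, nat_lit 0, nat_lit 0, nat_lit 1, nat_lit 0, nat_lit 1, nat_lit 2, nat_lit 1, nat_lit 0, nat_lit 3, nat_lit 0, nat_lit 0, nat_lit 1, nat_lit 0, nat_lit 1, nat_lit 2, nat_lit 3, nat_lit 2, nat_lit 2, nat_lit 2, nat_lit 1, nat_lit 0, nat_lit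 1, nat_lit 0, nat_lit 3, nat_lit 3, nat_lit 0, nat_lit 3, nat_lit 0, nat_lit 3, nat_lit 2, nat_lit 3, nat_lit 0, nat_lit 0, nat_lit 0, nat_lit 0, nat_lit 1, nat_lit 1, nat_lit 1, nat_lit 1, nat_lit 2, nat_lit 3, nat_lit 2, nat_lit 1, nat_lit 2, nat_lit 1, nat_lit 0, nat_lit 1, nat_lit 1, nat_lit 2, nat_lit 3, nat_lit 2, nat_lit 3, nat_lit 0, nat_lit 0, nat_lit 0, nat_lit 1, nat_lit 0, nat_lit 3, nat_lit 2, nat_lit 3, nat_lit 2, nat_lit 2, nat_lit 1, nat_lit 2, nat_lit 3, nat_lit 0, nat_lit 3, nat_lit 2, nat_lit 3, nat_lit 2, nat_lit 2, nat_lit 1, nat_lit 0, nat_lit 3, nat_lit 0, nat_lit 3, nat_lit 2, nat_lit 3, nat_lit 0, nat_lit 0, nat_lit 0, nat_lit 0, nat_lit 1, nat_lit 1, nat_lit 1, nat_lit 1, nat_lit 2, nat_lit 3, nat_lit 2, nat_lit 1, nat_lit 2, nat_lit 1, nat_lit 0, nat_lit 3, nat_lit 0, nat_lit 0, nat_lit 1, nat_lit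 0, nat_lit 1, nat_lit 2, nat_lit 1, nat_lit 0, nat_lit 3, nat_lit 0, nat_lit 0, nat_lit 1, nat_lit 0, nat_lit 1, nat_lit 2, nat_lit 3, nat_lit 2, nat_lit 2, nat_lit 2, nat_lit 1, nat_lit 0, nat_lit 1, nat_lit 0, nat_lit 3, nat_lit 3, nat_lit 0, nat_lit 3, nat_lit 0, nat_lit 3, nat_lit 2, nat_lit 3, nat_lit 0, nat_lit 0, nat_lit 0, nat_lit 0, nat_lit 1, nat_lit 1, nat_lit 1, nat_lit 1, nat_lit 2, nat_lit 3, nat_lit 2, nat_lit 1, nat_lit 2, nat_lit 1, nat_lit 0, nat_lit 0, nat_lit 3, nat_lit 0, nat_lit 3, nat_lit 2, nat_lit 3, nat_lit 0, nat_lit 0, nat_lit 0, nat_lit 0, nat_lit 1, nat_lit 1, nat_lit 1, nat_lit 1, nat_lit 2, nat_lit 3, nat_lit 2, nat_lit 1, nat_lit 2, nat_lit 1, nat_lit 0, nat_lit 1, nat_lit 1, nat_lit 2, nat_lit 3, nat_lit 2, nat_lit 3, nat_lit 0, nat_lit 0, nat_lit 0, nat_lit 1, nat_lit 0, nat_lit 3, nat_lit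 2, nat_lit 3, nat_lit 2, nat_lit 2, nat_lit 1, nat_lit 2, nat_lit 3, nat_lit 0, nat_lit 3, nat_lit 2, nat_lit 3, nat_lit 2, nat_lit 2, nat_lit 1, nat_lit 0, nat_lit 3, nat_lit 0, nat_lit 3, nat_lit 2, nat_lit 3, nat_lit 0, nat_lit 0, nat_lit 0, nat_lit 0, nat_lit 1, nat_lit 1, nat_lit 1, nat_lit 1, nat_lit 2, nat_lit 3, nat_lit 2, nat_lit 1, nat_lit 2, nat_lit 1, nat_lit 0, nat_lit 0, nat_lit 3, nat_lit 0, nat_lit 3, nat_lit 2, nat_lit 3, nat_lit 0, nat_lit 0, nat_lit 0, nat_lit 0, nat_lit 1, nat_lit 1, nat_lit 1, nat_lit 1, nat_lit 2, nat_lit 3, nat_lit 2, nat_lit 1, nat_lit 2, nat_lit 1, nat_lit 0, nat_lit 0, nat_lit 3, nat_lit 0, nat_lit 3, nat_lit 2, nat_lit 3, nat_lit 0, nat_lit 0, nat_lit 0, nat_lit 0, nat_lit 1, nat_lit 1, nat_lit 1, nat_lit 1, nat_lit 2, nat_lit 3, nat_lit 2, nat_lit 1, nat_lit 2, nat_lit 1, nat_lit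 0, nat_lit 3, nat_lit 0, nat_lit 0, nat_lit 1, nat_lit 0, nat_lit 1, nat_lit 2, nat_lit 1, nat_lit 0, nat_lit 3, nat_lit 0, nat_lit 0, nat_lit 1, nat_lit 0, nat_lit 1, nat_lit 2, nat_lit 3, nat_lit 2, nat_lit 2, nat_lit 2, nat_lit 1, nat_lit 0, nat_lit 1, nat_lit 0, nat_lit 3, nat_lit 3, nat_lit 2, nat_lit 3, nat_lit 0, nat_lit 3, nat_lit 0, nat_lit 1, nat_lit 0, nat_lit 3, nat_lit 3, nat_lit 3, nat_lit 3, nat_lit 2, nat_lit 2, nat_lit 2, nat_lit 2, nat_lit 1, nat_lit 0, nat_lit 1, nat_lit 2, nat_lit 1, nat_lit 2, nat_lit 3, nat_lit 0, nat_lit 0, nat_lit 1, nat_lit 0, nat_lit 1, nat_lit 2, nat_lit 1, nat_lit 0, nat_lit 3, nat_lit 0, nat_lit 0, nat_lit 1, nat_lit 0, nat_lit 1, nat_lit 2, nat_lit 3, nat_lit 2, nat_lit 2, nat_lit 2, nat_lit 1, nat_lit 0, nat_lit 1, nat_lit 0, nat_lit 3, nat_lit 3, nat_lit 0, nat_lit 3, nat_lit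 0, nat_lit 3, nat_lit 2, nat_lit 3, nat_lit 0, nat_lit 0, nat_lit 0, nat_lit 0, nat_lit 1, nat_lit 1, nat_lit 1, nat_lit 1, nat_lit 2, nat_lit 3, nat_lit 2, nat_lit 1, nat_lit 2, nat_lit 1, nat_lit 0, nat_lit 0, nat_lit 3, nat_lit 0, nat_lit 3, nat_lit 2, nat_lit 3, nat_lit 0, nat_lit 0, nat_lit 0, nat_lit 0, nat_lit 1, nat_lit 1, nat_lit 1, nat_lit 1, nat_lit 2, nat_lit 3, nat_lit 2, nat_lit 1, nat_lit 2, nat_lit 1, nat_lit 0, nat_lit 3, nat_lit 0, nat_lit 0, nat_lit 1, nat_lit 0, nat_lit 1, nat_lit 2, nat_lit 1, nat_lit 0, nat_lit 3, nat_lit 0, nat_lit 0, nat_lit 1, nat_lit 0, nat_lit 1, nat_lit 2, nat_lit 3, nat_lit 2, nat_lit 2, nat_lit 2, nat_lit 1, nat_lit 0, nat_lit 1, nat_lit 0, nat_lit 3, nat_lit 3, nat_lit 0, nat_lit 3, nat_lit 0, nat_lit 3, nat_lit 2, nat_lit 3, nat_lit 0, nat_lit 0, nat_lit 0, nat_lit 0, nat_lit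 1, nat_lit 1, nat_lit 1, nat_lit 1, nat_lit 2, nat_lit 3, nat_lit 2, nat_lit 1, nat_lit 2, nat_lit 1, nat_lit 0, nat_lit 1, nat_lit 1, nat_lit 2, nat_lit 3, nat_lit 2, nat_lit 3, nat_lit 0, nat_lit 0, nat_lit 0, nat_lit 1, nat_lit 0, nat_lit 3, nat_lit 2, nat_lit 3, nat_lit 2, nat_lit 2, nat_lit 1, nat_lit 2, nat_lit 3, nat_lit 0, nat_lit 3, nat_lit 2, nat_lit 3, nat_lit 2, nat_lit 2, nat_lit 1, nat_lit 0, nat_lit 3, nat_lit 0, nat_lit 3, nat_lit 2, nat_lit 3, nat_lit 0, nat_lit 0, nat_lit 0, nat_lit 0, nat_lit 1, nat_lit 1, nat_lit 1, nat_lit 1, nat_lit 2, nat_lit 3, nat_lit 2, nat_lit 1, nat_lit 2, nat_lit 1, nat_lit 0, nat_lit 0, nat_lit 3, nat_lit 0, nat_lit 3, nat_lit 2, nat_lit 3, nat_lit 0, nat_lit 0, nat_lit 0, nat_lit 0, nat_lit 1, nat_lit 1, nat_lit 1, nat_lit 1, nat_lit 2, nat_lit 3, nat_lit 2, nat_lit 1, nat_lit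 2, nat_lit 1, nat_lit 0, nat_lit 3, nat_lit 0, nat_lit 0, nat_lit 1, nat_lit 0, nat_lit 1, nat_lit 2, nat_lit 1, nat_lit 0, nat_lit 3, nat_lit 0, nat_lit 0, nat_lit 1, nat_lit 0, nat_lit 1, nat_lit 2, nat_lit 3, nat_lit 2, nat_lit 2, nat_lit 2, nat_lit 1, nat_lit 0, nat_lit 1, nat_lit 0, nat_lit 3, nat_lit 3, nat_lit 0, nat_lit 3, nat_lit 0, nat_lit 3, nat_lit 2, nat_lit 3, nat_lit 0, nat_lit 0, nat_lit 0, nat_lit 0, nat_lit 1, nat_lit 1, nat_lit 1, nat_lit 1, nat_lit 2, nat_lit 3, nat_lit 2, nat_lit 1, nat_lit 2, nat_lit 1, nat_lit 0, nat_lit 3, nat_lit 0, nat_lit 0, nat_lit 1, nat_lit 0, nat_lit 1, nat_lit 2, nat_lit 1, nat_lit 0, nat_lit 3, nat_lit 0, nat_lit 0, nat_lit 1, nat_lit 0, nat_lit 1, nat_lit 2, nat_lit 3, nat_lit 2, nat_lit 2, nat_lit 2, nat_lit 1, nat_lit 0, nat_lit 1, nat_lit 0, nat_lit 3, nat_lit 3, nat_lit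 0, nat_lit 3, nat_lit 0, nat_lit 3, nat_lit 2, nat_lit 3, nat_lit 0, nat_lit 0, nat_lit 0, nat_lit 0, nat_lit 1, nat_lit 1, nat_lit 1, nat_lit 1, nat_lit 2, nat_lit 3, nat_lit 2, nat_lit 1, nat_lit 2, nat_lit 1, nat_lit 0, nat_lit 1, nat_lit 1, nat_lit 2, nat_lit 3, nat_lit 2, nat_lit 3, nat_lit 0, nat_lit 0, nat_lit 0, nat_lit 1, nat_lit 0, nat_lit 3, nat_lit 2, nat_lit 3, nat_lit 2, nat_lit 2, nat_lit 1, nat_lit 2, nat_lit 3, nat_lit 0, nat_lit 3, nat_lit 2, nat_lit 3, nat_lit 2, nat_lit 2, nat_lit 1, nat_lit 0, nat_lit 3, nat_lit 0, nat_lit 3, nat_lit 2, nat_lit 3, nat_lit 0, nat_lit 0, nat_lit 0, nat_lit 0, nat_lit 1, nat_lit 1, nat_lit 1, nat_lit 1, nat_lit 2, nat_lit 3, nat_lit 2, nat_lit 1, nat_lit 2, nat_lit 1, nat_lit 0, nat_lit 3, nat_lit 0, nat_lit 0, nat_lit 1, nat_lit 0, nat_lit 1, nat_lit 2, nat_lit 1, nat_lit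 0, nat_lit 3, nat_lit 0, nat_lit 0, nat_lit 1, nat_lit 0, nat_lit 1, nat_lit 2, nat_lit 3, nat_lit 2, nat_lit 2, nat_lit 2, nat_lit 1, nat_lit 0, nat_lit 1, nat_lit 0, nat_lit 3, nat_lit 3, nat_lit 0, nat_lit 3, nat_lit 0, nat_lit 3, nat_lit 2, nat_lit 3, nat_lit 0, nat_lit 0, nat_lit 0, nat_lit 0, nat_lit 1, nat_lit 1, nat_lit 1, nat_lit 1, nat_lit 2, nat_lit 3, nat_lit 2, nat_lit 1, nat_lit 2, nat_lit 1, nat_lit 0, nat_lit 0, nat_lit 3, nat_lit 0, nat_lit 3, nat_lit 2, nat_lit 3, nat_lit 0, nat_lit 0, nat_lit 0, nat_lit 0, nat_lit 1, nat_lit 1, nat_lit 1, nat_lit 1, nat_lit 2, nat_lit 3, nat_lit 2, nat_lit 1, nat_lit 2, nat_lit 1, nat_lit 0, nat_lit 1, nat_lit 1, nat_lit 2, nat_lit 3, nat_lit 2, nat_lit 3, nat_lit 0, nat_lit 0, nat_lit 0, nat_lit 1, nat_lit 0, nat_lit 3, nat_lit 2, nat_lit 3, nat_lit 2, nat_lit 2, nat_lit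 1, nat_lit 2, nat_lit 3, nat_lit 0, nat_lit 3, nat_lit 2, nat_lit 3, nat_lit 2, nat_lit 2, nat_lit 1, nat_lit 0, nat_lit 3, nat_lit 0, nat_lit 3, nat_lit 2, nat_lit 3, nat_lit 0, nat_lit 0, nat_lit 0, nat_lit 0, nat_lit 1, nat_lit 1, nat_lit 1, nat_lit 1, nat_lit 2, nat_lit 3, nat_lit 2, nat_lit 1, nat_lit 2, nat_lit 1, nat_lit 0, nat_lit 0, nat_lit 3, nat_lit 0, nat_lit 3, nat_lit 2, nat_lit 3, nat_lit 0, nat_lit 0, nat_lit 0, nat_lit 0, nat_lit 1, nat_lit 1, nat_lit 1, nat_lit 1, nat_lit 2, nat_lit 3, nat_lit 2, nat_lit 1, nat_lit 2, nat_lit 1, nat_lit 0, nat_lit 0, nat_lit 3, nat_lit 0, nat_lit 3, nat_lit 2, nat_lit 3, nat_lit 0, nat_lit 0, nat_lit 0, nat_lit 0, nat_lit 1, nat_lit 1, nat_lit 1, nat_lit 1, nat_lit 2, nat_lit 3, nat_lit 2, nat_lit 1, nat_lit 2, nat_lit 1, nat_lit 0, nat_lit 1, nat_lit 1, nat_lit 2, nat_lit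 3, nat_lit 2, nat_lit 3, nat_lit 0, nat_lit 0, nat_lit 0, nat_lit 1, nat_lit 0, nat_lit 3, nat_lit 2, nat_lit 3, nat_lit 2, nat_lit 2, nat_lit 1, nat_lit 2, nat_lit 3, nat_lit 0, nat_lit 3, nat_lit 2, nat_lit 3, nat_lit 2, nat_lit 2, nat_lit 1, nat_lit 1, nat_lit 1, nat_lit 2, nat_lit 3, nat_lit 2, nat_lit 3, nat_lit 0, nat_lit 0, nat_lit 0, nat_lit 1, nat_lit 0, nat_lit 3, nat_lit 2, nat_lit 3, nat_lit 2, nat_lit 2, nat_lit 1, nat_lit 2, nat_lit 3, nat_lit 0, nat_lit 3, nat_lit 2, nat_lit 3, nat_lit 2, nat_lit 2, nat_lit 1, nat_lit 2, nat_lit 3, nat_lit 0, nat_lit 3, nat_lit 0, nat_lit 1, nat_lit 0, nat_lit 3, nat_lit 3, nat_lit 3, nat_lit 3, nat_lit 2, nat_lit 2, nat_lit 2, nat_lit 2, nat_lit 1, nat_lit 0, nat_lit 1, nat_lit 2, nat_lit 1, nat_lit 2, nat_lit 3, nat_lit 0, nat_lit 0, nat_lit 1, nat_lit 0, nat_lit 1, nat_lit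 2, nat_lit 1, nat_lit 0, nat_lit 3, nat_lit 0, nat_lit 0, nat_lit 1, nat_lit 0, nat_lit 1, nat_lit 2, nat_lit 3, nat_lit 2, nat_lit 2, nat_lit 2, nat_lit 1, nat_lit 0, nat_lit 1, nat_lit 0, nat_lit 3, nat_lit 3, nat_lit 3, nat_lit 0, nat_lit 0, nat_lit 1, nat_lit 0, nat_lit 1, nat_lit 2, nat_lit 1, nat_lit 0, nat_lit 3, nat_lit 0, nat_lit 0, nat_lit 1, nat_lit 0, nat_lit 1, nat_lit 2, nat_lit 3, nat_lit 2, nat_lit 2, nat_lit 2, nat_lit 1, nat_lit 0, nat_lit 1, nat_lit 0, nat_lit 3, nat_lit 3, nat_lit 2, nat_lit 3, nat_lit 0, nat_lit 3, nat_lit 0, nat_lit 1, nat_lit 0, nat_lit 3, nat_lit 3, nat_lit 3, nat_lit 3, nat_lit 2, nat_lit 2, nat_lit 2, nat_lit 2, nat_lit 1, nat_lit 0, nat_lit 1, nat_lit 2, nat_lit 1, nat_lit 2, nat_lit 1, nat_lit 1, nat_lit 2, nat_lit 3, nat_lit 2, nat_lit 3, nat_lit 0, nat_lit 0, nat_lit 0, nat_lit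 1, nat_lit 0, nat_lit 3, nat_lit 2, nat_lit 3, nat_lit 2, nat_lit 2, nat_lit 1, nat_lit 2, nat_lit 3, nat_lit 0, nat_lit 3, nat_lit 2, nat_lit 3, nat_lit 2, nat_lit 2, nat_lit 1, nat_lit 0, nat_lit 3, nat_lit 0, nat_lit 3, nat_lit 2, nat_lit 3, nat_lit 0, nat_lit 0, nat_lit 0, nat_lit 0, nat_lit 1, nat_lit 1, nat_lit 1, nat_lit 1, nat_lit 2, nat_lit 3, nat_lit 2, nat_lit 1, nat_lit 2, nat_lit 1, nat_lit 0, nat_lit 3, nat_lit 0, nat_lit 0, nat_lit 1, nat_lit 0, nat_lit 1, nat_lit 2, nat_lit 1, nat_lit 0, nat_lit 3, nat_lit 0, nat_lit 0, nat_lit 1, nat_lit 0, nat_lit 1, nat_lit 2, nat_lit 3, nat_lit 2, nat_lit 2, nat_lit 2, nat_lit 1, nat_lit 0, nat_lit 1, nat_lit 0, nat_lit 3, nat_lit 3, nat_lit 0, nat_lit 3, nat_lit 0, nat_lit 3, nat_lit 2, nat_lit 3, nat_lit 0, nat_lit 0, nat_lit 0, nat_lit 0, nat_lit 1, nat_lit 1, nat_lit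 1, nat_lit 1, nat_lit 2, nat_lit 3, nat_lit 2, nat_lit 1, nat_lit 2, nat_lit 1, nat_lit 0, nat_lit 0, nat_lit 3, nat_lit 0, nat_lit 3, nat_lit 2, nat_lit 3, nat_lit 0, nat_lit 0, nat_lit 0, nat_lit 0, nat_lit 1, nat_lit 1, nat_lit 1, nat_lit 1, nat_lit 2, nat_lit 3, nat_lit 2, nat_lit 1, nat_lit 2, nat_lit 1, nat_lit 0, nat_lit 3, nat_lit 0, nat_lit 0, nat_lit 1, nat_lit 0, nat_lit 1, nat_lit 2, nat_lit 1, nat_lit 0, nat_lit 3, nat_lit 0, nat_lit 0, nat_lit 1, nat_lit 0, nat_lit 1, nat_lit 2, nat_lit 3, nat_lit 2, nat_lit 2, nat_lit 2, nat_lit 1, nat_lit 0, nat_lit 1, nat_lit 0, nat_lit 3, nat_lit 3, nat_lit 3, nat_lit 0, nat_lit 0, nat_lit 1, nat_lit 0, nat_lit 1, nat_lit 2, nat_lit 1, nat_lit 0, nat_lit 3, nat_lit 0, nat_lit 0, nat_lit 1, nat_lit 0, nat_lit 1, nat_lit 2, nat_lit 3, nat_lit 2, nat_lit 2, nat_lit 2, nat_lit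 1, nat_lit 0, nat_lit 1, nat_lit 0, nat_lit 3, nat_lit 3, nat_lit 0, nat_lit 3, nat_lit 0, nat_lit 3, nat_lit 2, nat_lit 3, nat_lit 0, nat_lit 0, nat_lit 0, nat_lit 0, nat_lit 1, nat_lit 1, nat_lit 1, nat_lit 1, nat_lit 2, nat_lit 3, nat_lit 2, nat_lit 1, nat_lit 2, nat_lit 1, nat_lit 0, nat_lit 0, nat_lit 3, nat_lit 0, nat_lit 3, nat_lit 2, nat_lit 3, nat_lit 0, nat_lit 0, nat_lit 0, nat_lit 0, nat_lit 1, nat_lit 1, nat_lit 1, nat_lit 1, nat_lit 2, nat_lit 3, nat_lit 2, nat_lit 1, nat_lit 2, nat_lit 1, nat_lit 0, nat_lit 3, nat_lit 0, nat_lit 0, nat_lit 1, nat_lit 0, nat_lit 1, nat_lit 2, nat_lit 1, nat_lit 0, nat_lit 3, nat_lit 0, nat_lit 0, nat_lit 1, nat_lit 0, nat_lit 1, nat_lit 2, nat_lit 3, nat_lit 2, nat_lit 2, nat_lit 2, nat_lit 1, nat_lit 0, nat_lit 1, nat_lit 0, nat_lit 3, nat_lit 3, nat_lit 0, nat_lit 3, nat_lit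 0, nat_lit 3, nat_lit 2, nat_lit 3, nat_lit 0, nat_lit 0, nat_lit 0, nat_lit 0, nat_lit 1, nat_lit 1, nat_lit 1, nat_lit 1, nat_lit 2, nat_lit 3, nat_lit 2, nat_lit 1, nat_lit 2, nat_lit 1, nat_lit 0, nat_lit 3, nat_lit 0, nat_lit 0, nat_lit 1, nat_lit 0, nat_lit 1, nat_lit 2, nat_lit 1, nat_lit 0, nat_lit 3, nat_lit 0, nat_lit 0, nat_lit 1, nat_lit 0, nat_lit 1, nat_lit 2, nat_lit 3, nat_lit 2, nat_lit 2, nat_lit 2, nat_lit 1, nat_lit 0, nat_lit 1, nat_lit 0, nat_lit 3, nat_lit 3, nat_lit 0, nat_lit 3, nat_lit 0, nat_lit 3, nat_lit 2, nat_lit 3, nat_lit 0, nat_lit 0, nat_lit 0, nat_lit 0, nat_lit 1, nat_lit 1, nat_lit 1, nat_lit 1, nat_lit 2, nat_lit 3, nat_lit 2, nat_lit 1, nat_lit 2, nat_lit 1, nat_lit 0, nat_lit 3, nat_lit 0, nat_lit 0, nat_lit 1, nat_lit 0, nat_lit 1, nat_lit 2, nat_lit 1, nat_lit 0, nat_lit 3, nat_lit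 0, nat_lit 0, nat_lit 1, nat_lit 0, nat_lit 1, nat_lit 2, nat_lit 3, nat_lit 2, nat_lit 2, nat_lit 2, nat_lit 1, nat_lit 0, nat_lit 1, nat_lit 0, nat_lit 3, nat_lit 3, nat_lit 0, nat_lit 3, nat_lit 0, nat_lit 3, nat_lit 2, nat_lit 3, nat_lit 0, nat_lit 0, nat_lit 0, nat_lit 0, nat_lit 1, nat_lit 1, nat_lit 1, nat_lit 1, nat_lit 2, nat_lit 3, nat_lit 2, nat_lit 1, nat_lit 2, nat_lit 1, nat_lit 0, nat_lit 3, nat_lit 0, nat_lit 0, nat_lit 1, nat_lit 0, nat_lit 1, nat_lit 2, nat_lit 1, nat_lit 0, nat_lit 3, nat_lit 0, nat_lit 0, nat_lit 1, nat_lit 0, nat_lit 1, nat_lit 2, nat_lit 3, nat_lit 2, nat_lit 2, nat_lit 2, nat_lit 1, nat_lit 0, nat_lit 1, nat_lit 0, nat_lit 3, nat_lit 3, nat_lit 3, nat_lit 0, nat_lit 0, nat_lit 1, nat_lit 0, nat_lit 1, nat_lit 2, nat_lit 1, nat_lit 0, nat_lit 3, nat_lit 0, nat_lit 0, nat_lit 1, nat_lit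 0, nat_lit 1, nat_lit 2, nat_lit 3, nat_lit 2, nat_lit 2, nat_lit 2, nat_lit 1, nat_lit 0, nat_lit 1, nat_lit 0, nat_lit 3, nat_lit 3, nat_lit 3, nat_lit 0, nat_lit 0, nat_lit 1, nat_lit 0, nat_lit 1, nat_lit 2, nat_lit 1, nat_lit 0, nat_lit 3, nat_lit 0, nat_lit 0, nat_lit 1, nat_lit 0, nat_lit 1, nat_lit 2, nat_lit 3, nat_lit 2, nat_lit 2, nat_lit 2, nat_lit 1, nat_lit 0, nat_lit 1, nat_lit 0, nat_lit 3, nat_lit 3, nat_lit 0, nat_lit 3, nat_lit 0, nat_lit 3, nat_lit 2, nat_lit 3, nat_lit 0, nat_lit 0, nat_lit 0, nat_lit 0, nat_lit 1, nat_lit 1, nat_lit 1, nat_lit 1, nat_lit 2, nat_lit 3, nat_lit 2, nat_lit 1, nat_lit 2, nat_lit 1, nat_lit 0, nat_lit 3, nat_lit 0, nat_lit 0, nat_lit 1, nat_lit 0, nat_lit 1, nat_lit 2, nat_lit 1, nat_lit 0, nat_lit 3, nat_lit 0, nat_lit 0, nat_lit 1, nat_lit 0, nat_lit 1, nat_lit 2, nat_lit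 3, nat_lit 2, nat_lit 2, nat_lit 2, nat_lit 1, nat_lit 0, nat_lit 1, nat_lit 0, nat_lit 3, nat_lit 3, nat_lit 2, nat_lit 3, nat_lit 0, nat_lit 3, nat_lit 0, nat_lit 1, nat_lit 0, nat_lit 3, nat_lit 3, nat_lit 3, nat_lit 3, nat_lit 2, nat_lit 2, nat_lit 2, nat_lit 2, nat_lit 1, nat_lit 0, nat_lit 1, nat_lit 2, nat_lit 1, nat_lit 2, nat_lit 3]

/-- the generator 1 as a word in `c` (letter 0), `w` (1) and their inverses (2, 3) -/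
def gW1 : List Nat := [nat_lit 0, nat_lit 0, nat_lit 1, nat_lit 0, nat_lit 1, nat_lit 2, nat_lit 1, nat_lit 0, nat_lit 3, nat_lit 0, nat_lit 0, nat_lit 1, nat_lit 0, nat_lit 1, nat_lit 2, nat_lit 3, nat_lit 2, nat_lit 2, nat_lit 2, nat_lit 1, nat_lit 0, nat_lit 1, nat_lit 0, nat_lit 3, nat_lit 3, nat_lit 0, nat_lit 3, nat_lit 0, nat_lit 3, nat_lit 2, nat_lit 3, nat_lit 0, nat_lit 0, nat_lit 0, nat_lit 0, nat_lit 1, nat_lit 1, nat_lit 1, nat_lit 1, nat_lit 2, nat_lit 3, nat_lit 2, nat_lit 1, nat_lit 2, nat_lit 1, nat_lit 0, nat_lit 0, nat_lit 3, nat_lit 0, nat_lit 3, nat_lit 2, nat_lit 3, nat_lit 0, nat_lit 0, nat_lit 0, nat_lit 0, nat_lit 1, nat_lit 1, nat_lit 1, nat_lit 1, nat_lit 2, nat_lit 3, nat_lit 2, nat_lit 1, nat_lit 2, nat_lit 1, nat_lit 0, nat_lit 3, nat_lit 0, nat_lit 0, nat_lit 1, nat_lit 0, nat_lit 1, nat_lit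 2, nat_lit 1, nat_lit 0, nat_lit 3, nat_lit 0, nat_lit 0, nat_lit 1, nat_lit 0, nat_lit 1, nat_lit 2, nat_lit 3, nat_lit 2, nat_lit 2, nat_lit 2, nat_lit 1, nat_lit 0, nat_lit 1, nat_lit 0, nat_lit 3, nat_lit 3, nat_lit 0, nat_lit 3, nat_lit 0, nat_lit 3, nat_lit 2, nat_lit 3, nat_lit 0, nat_lit 0, nat_lit 0, nat_lit 0, nat_lit 1, nat_lit 1, nat_lit 1, nat_lit 1, nat_lit 2, nat_lit 3, nat_lit 2, nat_lit 1, nat_lit 2, nat_lit 1, nat_lit 0, nat_lit 1, nat_lit 1, nat_lit 2, nat_lit 3, nat_lit 2, nat_lit 3, nat_lit 0, nat_lit 0, nat_lit 0, nat_lit 1, nat_lit 0, nat_lit 3, nat_lit 2, nat_lit 3, nat_lit 2, nat_lit 2, nat_lit 1, nat_lit 2, nat_lit 3, nat_lit 0, nat_lit 3, nat_lit 2, nat_lit 3, nat_lit 2, nat_lit 2, nat_lit 1, nat_lit 0, nat_lit 3, nat_lit 0, nat_lit 3, nat_lit 2, nat_lit 3, nat_lit 0, nat_lit 0, nat_lit 0, nat_lit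 0, nat_lit 1, nat_lit 1, nat_lit 1, nat_lit 1, nat_lit 2, nat_lit 3, nat_lit 2, nat_lit 1, nat_lit 2, nat_lit 1, nat_lit 0, nat_lit 3, nat_lit 0, nat_lit 0, nat_lit 1, nat_lit 0, nat_lit 1, nat_lit 2, nat_lit 1, nat_lit 0, nat_lit 3, nat_lit 0, nat_lit 0, nat_lit 1, nat_lit 0, nat_lit 1, nat_lit 2, nat_lit 3, nat_lit 2, nat_lit 2, nat_lit 2, nat_lit 1, nat_lit 0, nat_lit 1, nat_lit 0, nat_lit 3, nat_lit 3, nat_lit 0, nat_lit 3, nat_lit 0, nat_lit 3, nat_lit 2, nat_lit 3, nat_lit 0, nat_lit 0, nat_lit 0, nat_lit 0, nat_lit 1, nat_lit 1, nat_lit 1, nat_lit 1, nat_lit 2, nat_lit 3, nat_lit 2, nat_lit 1, nat_lit 2, nat_lit 1, nat_lit 0, nat_lit 0, nat_lit 3, nat_lit 0, nat_lit 3, nat_lit 2, nat_lit 3, nat_lit 0, nat_lit 0, nat_lit 0, nat_lit 0, nat_lit 1, nat_lit 1, nat_lit 1, nat_lit 1, nat_lit 2, nat_lit 3, nat_lit 2, nat_lit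 1, nat_lit 2, nat_lit 1, nat_lit 0, nat_lit 3, nat_lit 0, nat_lit 0, nat_lit 1, nat_lit 0, nat_lit 1, nat_lit 2, nat_lit 1, nat_lit 0, nat_lit 3, nat_lit 0, nat_lit 0, nat_lit 1, nat_lit 0, nat_lit 1, nat_lit 2, nat_lit 3, nat_lit 2, nat_lit 2, nat_lit 2, nat_lit 1, nat_lit 0, nat_lit 1, nat_lit 0, nat_lit 3, nat_lit 3, nat_lit 0, nat_lit 3, nat_lit 0, nat_lit 3, nat_lit 2, nat_lit 3, nat_lit 0, nat_lit 0, nat_lit 0, nat_lit 0, nat_lit 1, nat_lit 1, nat_lit 1, nat_lit 1, nat_lit 2, nat_lit 3, nat_lit 2, nat_lit 1, nat_lit 2, nat_lit 1, nat_lit 0, nat_lit 3, nat_lit 0, nat_lit 0, nat_lit 1, nat_lit 0, nat_lit 1, nat_lit 2, nat_lit 1, nat_lit 0, nat_lit 3, nat_lit 0, nat_lit 0, nat_lit 1, nat_lit 0, nat_lit 1, nat_lit 2, nat_lit 3, nat_lit 2, nat_lit 2, nat_lit 2, nat_lit 1, nat_lit 0, nat_lit 1, nat_lit 0, nat_lit 3, nat_lit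 3, nat_lit 0, nat_lit 3, nat_lit 0, nat_lit 3, nat_lit 2, nat_lit 3, nat_lit 0, nat_lit 0, nat_lit 0, nat_lit 0, nat_lit 1, nat_lit 1, nat_lit 1, nat_lit 1, nat_lit 2, nat_lit 3, nat_lit 2, nat_lit 1, nat_lit 2, nat_lit 1, nat_lit 0, nat_lit 1, nat_lit 1, nat_lit 2, nat_lit 3, nat_lit 2, nat_lit 3, nat_lit 0, nat_lit 0, nat_lit 0, nat_lit 1, nat_lit 0, nat_lit 3, nat_lit 2, nat_lit 3, nat_lit 2, nat_lit 2, nat_lit 1, nat_lit 2, nat_lit 3, nat_lit 0, nat_lit 3, nat_lit 2, nat_lit 3, nat_lit 2, nat_lit 2, nat_lit 1, nat_lit 0, nat_lit 3, nat_lit 0, nat_lit 3, nat_lit 2, nat_lit 3, nat_lit 0, nat_lit 0, nat_lit 0, nat_lit 0, nat_lit 1, nat_lit 1, nat_lit 1, nat_lit 1, nat_lit 2, nat_lit 3, nat_lit 2, nat_lit 1, nat_lit 2, nat_lit 1, nat_lit 0, nat_lit 3, nat_lit 0, nat_lit 0, nat_lit 1, nat_lit 0, nat_lit 1, nat_lit 2, nat_lit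 1, nat_lit 0, nat_lit 3, nat_lit 0, nat_lit 0, nat_lit 1, nat_lit 0, nat_lit 1, nat_lit 2, nat_lit 3, nat_lit 2, nat_lit 2, nat_lit 2, nat_lit 1, nat_lit 0, nat_lit 1, nat_lit 0, nat_lit 3, nat_lit 3, nat_lit 0, nat_lit 3, nat_lit 0, nat_lit 3, nat_lit 2, nat_lit 3, nat_lit 0, nat_lit 0, nat_lit 0, nat_lit 0, nat_lit 1, nat_lit 1, nat_lit 1, nat_lit 1, nat_lit 2, nat_lit 3, nat_lit 2, nat_lit 1, nat_lit 2, nat_lit 1, nat_lit 0, nat_lit 0, nat_lit 3, nat_lit 0, nat_lit 3, nat_lit 2, nat_lit 3, nat_lit 0, nat_lit 0, nat_lit 0, nat_lit 0, nat_lit 1, nat_lit 1, nat_lit 1, nat_lit 1, nat_lit 2, nat_lit 3, nat_lit 2, nat_lit 1, nat_lit 2, nat_lit 1, nat_lit 0, nat_lit 1, nat_lit 1, nat_lit 2, nat_lit 3, nat_lit 2, nat_lit 3, nat_lit 0, nat_lit 0, nat_lit 0, nat_lit 1, nat_lit 0, nat_lit 3, nat_lit 2, nat_lit 3, nat_lit 2, nat_lit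 2, nat_lit 1, nat_lit 2, nat_lit 3, nat_lit 0, nat_lit 3, nat_lit 2, nat_lit 3, nat_lit 2, nat_lit 2, nat_lit 1, nat_lit 0, nat_lit 3, nat_lit 0, nat_lit 3, nat_lit 2, nat_lit 3, nat_lit 0, nat_lit 0, nat_lit 0, nat_lit 0, nat_lit 1, nat_lit 1, nat_lit 1, nat_lit 1, nat_lit 2, nat_lit 3, nat_lit 2, nat_lit 1, nat_lit 2, nat_lit 1, nat_lit 0, nat_lit 0, nat_lit 3, nat_lit 0, nat_lit 3, nat_lit 2, nat_lit 3, nat_lit 0, nat_lit 0, nat_lit 0, nat_lit 0, nat_lit 1, nat_lit 1, nat_lit 1, nat_lit 1, nat_lit 2, nat_lit 3, nat_lit 2, nat_lit 1, nat_lit 2, nat_lit 1, nat_lit 0, nat_lit 0, nat_lit 3, nat_lit 0, nat_lit 3, nat_lit 2, nat_lit 3, nat_lit 0, nat_lit 0, nat_lit 0, nat_lit 0, nat_lit 1, nat_lit 1, nat_lit 1, nat_lit 1, nat_lit 2, nat_lit 3, nat_lit 2, nat_lit 1, nat_lit 2, nat_lit 1, nat_lit 0, nat_lit 1, nat_lit 1, nat_lit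 2, nat_lit 3, nat_lit 2, nat_lit 3, nat_lit 0, nat_lit 0, nat_lit 0, nat_lit 1, nat_lit 0, nat_lit 3, nat_lit 2, nat_lit 3, nat_lit 2, nat_lit 2, nat_lit 1, nat_lit 2, nat_lit 3, nat_lit 0, nat_lit 3, nat_lit 2, nat_lit 3, nat_lit 2, nat_lit 2, nat_lit 1, nat_lit 1, nat_lit 1, nat_lit 2, nat_lit 3, nat_lit 2, nat_lit 3, nat_lit 0, nat_lit 0, nat_lit 0, nat_lit 1, nat_lit 0, nat_lit 3, nat_lit 2, nat_lit 3, nat_lit 2, nat_lit 2, nat_lit 1, nat_lit 2, nat_lit 3, nat_lit 0, nat_lit 3, nat_lit 2, nat_lit 3, nat_lit 2, nat_lit 2, nat_lit 1, nat_lit 2, nat_lit 3, nat_lit 0, nat_lit 3, nat_lit 0, nat_lit 1, nat_lit 0, nat_lit 3, nat_lit 3, nat_lit 3, nat_lit 3, nat_lit 2, nat_lit 2, nat_lit 2, nat_lit 2, nat_lit 1, nat_lit 0, nat_lit 1, nat_lit 2, nat_lit 1, nat_lit 2, nat_lit 3, nat_lit 0, nat_lit 0, nat_lit 1, nat_lit 0, nat_lit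 1, nat_lit 2, nat_lit 1, nat_lit 0, nat_lit 3, nat_lit 0, nat_lit 0, nat_lit 1, nat_lit 0, nat_lit 1, nat_lit 2, nat_lit 3, nat_lit 2, nat_lit 2, nat_lit 2, nat_lit 1, nat_lit 0, nat_lit 1, nat_lit 0, nat_lit 3, nat_lit 3, nat_lit 3, nat_lit 0, nat_lit 0, nat_lit 1, nat_lit 0, nat_lit 1, nat_lit 2, nat_lit 1, nat_lit 0, nat_lit 3, nat_lit 0, nat_lit 0, nat_lit 1, nat_lit 0, nat_lit 1, nat_lit 2, nat_lit 3, nat_lit 2, nat_lit 2, nat_lit 2, nat_lit 1, nat_lit 0, nat_lit 1, nat_lit 0, nat_lit 3, nat_lit 3, nat_lit 2, nat_lit 3, nat_lit 0, nat_lit 3, nat_lit 0, nat_lit 1, nat_lit 0, nat_lit 3, nat_lit 3, nat_lit 3, nat_lit 3, nat_lit 2, nat_lit 2, nat_lit 2, nat_lit 2, nat_lit 1, nat_lit 0, nat_lit 1, nat_lit 2, nat_lit 1, nat_lit 2, nat_lit 1, nat_lit 1, nat_lit 2, nat_lit 3, nat_lit 2, nat_lit 3, nat_lit 0, nat_lit 0, nat_lit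 0, nat_lit 1, nat_lit 0, nat_lit 3, nat_lit 2, nat_lit 3, nat_lit 2, nat_lit 2, nat_lit 1, nat_lit 2, nat_lit 3, nat_lit 0, nat_lit 3, nat_lit 2, nat_lit 3, nat_lit 2, nat_lit 2, nat_lit 1, nat_lit 0, nat_lit 3, nat_lit 0, nat_lit 3, nat_lit 2, nat_lit 3, nat_lit 0, nat_lit 0, nat_lit 0, nat_lit 0, nat_lit 1, nat_lit 1, nat_lit 1, nat_lit 1, nat_lit 2, nat_lit 3, nat_lit 2, nat_lit 1, nat_lit 2, nat_lit 1, nat_lit 0, nat_lit 3, nat_lit 0, nat_lit 0, nat_lit 1, nat_lit 0, nat_lit 1, nat_lit 2, nat_lit 1, nat_lit 0, nat_lit 3, nat_lit 0, nat_lit 0, nat_lit 1, nat_lit 0, nat_lit 1, nat_lit 2, nat_lit 3, nat_lit 2, nat_lit 2, nat_lit 2, nat_lit 1, nat_lit 0, nat_lit 1, nat_lit 0, nat_lit 3, nat_lit 3, nat_lit 0, nat_lit 3, nat_lit 0, nat_lit 3, nat_lit 2, nat_lit 3, nat_lit 0, nat_lit 0, nat_lit 0, nat_lit 0, nat_lit 1, nat_lit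 1, nat_lit 1, nat_lit 1, nat_lit 2, nat_lit 3, nat_lit 2, nat_lit 1, nat_lit 2, nat_lit 1, nat_lit 0, nat_lit 0, nat_lit 3, nat_lit 0, nat_lit 3, nat_lit 2, nat_lit 3, nat_lit 0, nat_lit 0, nat_lit 0, nat_lit 0, nat_lit 1, nat_lit 1, nat_lit 1, nat_lit 1, nat_lit 2, nat_lit 3, nat_lit 2, nat_lit 1, nat_lit 2, nat_lit 1, nat_lit 0, nat_lit 3, nat_lit 0, nat_lit 0, nat_lit 1, nat_lit 0, nat_lit 1, nat_lit 2, nat_lit 1, nat_lit 0, nat_lit 3, nat_lit 0, nat_lit 0, nat_lit 1, nat_lit 0, nat_lit 1, nat_lit 2, nat_lit 3, nat_lit 2, nat_lit 2, nat_lit 2, nat_lit 1, nat_lit 0, nat_lit 1, nat_lit 0, nat_lit 3, nat_lit 3, nat_lit 3, nat_lit 0, nat_lit 0, nat_lit 1, nat_lit 0, nat_lit 1, nat_lit 2, nat_lit 1, nat_lit 0, nat_lit 3, nat_lit 0, nat_lit 0, nat_lit 1, nat_lit 0, nat_lit 1, nat_lit 2, nat_lit 3, nat_lit 2, nat_lit 2, nat_lit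 2, nat_lit 1, nat_lit 0, nat_lit 1, nat_lit 0, nat_lit 3, nat_lit 3, nat_lit 0, nat_lit 3, nat_lit 0, nat_lit 3, nat_lit 2, nat_lit 3, nat_lit 0, nat_lit 0, nat_lit 0, nat_lit 0, nat_lit 1, nat_lit 1, nat_lit 1, nat_lit 1, nat_lit 2, nat_lit 3, nat_lit 2, nat_lit 1, nat_lit 2, nat_lit 1, nat_lit 0, nat_lit 0, nat_lit 3, nat_lit 0, nat_lit 3, nat_lit 2, nat_lit 3, nat_lit 0, nat_lit 0, nat_lit 0, nat_lit 0, nat_lit 1, nat_lit 1, nat_lit 1, nat_lit 1, nat_lit 2, nat_lit 3, nat_lit 2, nat_lit 1, nat_lit 2, nat_lit 1, nat_lit 0, nat_lit 3, nat_lit 0, nat_lit 0, nat_lit 1, nat_lit 0, nat_lit 1, nat_lit 2, nat_lit 1, nat_lit 0, nat_lit 3, nat_lit 0, nat_lit 0, nat_lit 1, nat_lit 0, nat_lit 1, nat_lit 2, nat_lit 3, nat_lit 2, nat_lit 2, nat_lit 2, nat_lit 1, nat_lit 0, nat_lit 1, nat_lit 0, nat_lit 3, nat_lit 3, nat_lit 0, nat_lit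 3, nat_lit 0, nat_lit 3, nat_lit 2, nat_lit 3, nat_lit 0, nat_lit 0, nat_lit 0, nat_lit 0, nat_lit 1, nat_lit 1, nat_lit 1, nat_lit 1, nat_lit 2, nat_lit 3, nat_lit 2, nat_lit 1, nat_lit 2, nat_lit 1, nat_lit 0, nat_lit 3, nat_lit 0, nat_lit 0, nat_lit 1, nat_lit 0, nat_lit 1, nat_lit 2, nat_lit 1, nat_lit 0, nat_lit 3, nat_lit 0, nat_lit 0, nat_lit 1, nat_lit 0, nat_lit 1, nat_lit 2, nat_lit 3, nat_lit 2, nat_lit 2, nat_lit 2, nat_lit 1, nat_lit 0, nat_lit 1, nat_lit 0, nat_lit 3, nat_lit 3, nat_lit 0, nat_lit 3, nat_lit 0, nat_lit 3, nat_lit 2, nat_lit 3, nat_lit 0, nat_lit 0, nat_lit 0, nat_lit 0, nat_lit 1, nat_lit 1, nat_lit 1, nat_lit 1, nat_lit 2, nat_lit 3, nat_lit 2, nat_lit 1, nat_lit 2, nat_lit 1, nat_lit 0, nat_lit 3, nat_lit 0, nat_lit 0, nat_lit 1, nat_lit 0, nat_lit 1, nat_lit 2, nat_lit 1, nat_lit 0, nat_lit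 3, nat_lit 0, nat_lit 0, nat_lit 1, nat_lit 0, nat_lit 1, nat_lit 2, nat_lit 3, nat_lit 2, nat_lit 2, nat_lit 2, nat_lit 1, nat_lit 0, nat_lit 1, nat_lit 0, nat_lit 3, nat_lit 3, nat_lit 0, nat_lit 3, nat_lit 0, nat_lit 3, nat_lit 2, nat_lit 3, nat_lit 0, nat_lit 0, nat_lit 0, nat_lit 0, nat_lit 1, nat_lit 1, nat_lit 1, nat_lit 1, nat_lit 2, nat_lit 3, nat_lit 2, nat_lit 1, nat_lit 2, nat_lit 1, nat_lit 0, nat_lit 3, nat_lit 0, nat_lit 0, nat_lit 1, nat_lit 0, nat_lit 1, nat_lit 2, nat_lit 1, nat_lit 0, nat_lit 3, nat_lit 0, nat_lit 0, nat_lit 1, nat_lit 0, nat_lit 1, nat_lit 2, nat_lit 3, nat_lit 2, nat_lit 2, nat_lit 2, nat_lit 1, nat_lit 0, nat_lit 1, nat_lit 0, nat_lit 3, nat_lit 3, nat_lit 3, nat_lit 0, nat_lit 0, nat_lit 1, nat_lit 0, nat_lit 1, nat_lit 2, nat_lit 1, nat_lit 0, nat_lit 3, nat_lit 0, nat_lit 0, nat_lit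 1, nat_lit 0, nat_lit 1, nat_lit 2, nat_lit 3, nat_lit 2, nat_lit 2, nat_lit 2, nat_lit 1, nat_lit 0, nat_lit 1, nat_lit 0, nat_lit 3, nat_lit 3, nat_lit 3, nat_lit 0, nat_lit 0, nat_lit 1, nat_lit 0, nat_lit 1, nat_lit 2, nat_lit 1, nat_lit 0, nat_lit 3, nat_lit 0, nat_lit 0, nat_lit 1, nat_lit 0, nat_lit 1, nat_lit 2, nat_lit 3, nat_lit 2, nat_lit 2, nat_lit 2, nat_lit 1, nat_lit 0, nat_lit 1, nat_lit 0, nat_lit 3, nat_lit 3, nat_lit 0, nat_lit 3, nat_lit 0, nat_lit 3, nat_lit 2, nat_lit 3, nat_lit 0, nat_lit 0, nat_lit 0, nat_lit 0, nat_lit 1, nat_lit 1, nat_lit 1, nat_lit 1, nat_lit 2, nat_lit 3, nat_lit 2, nat_lit 1, nat_lit 2, nat_lit 1, nat_lit 0, nat_lit 3, nat_lit 0, nat_lit 0, nat_lit 1, nat_lit 0, nat_lit 1, nat_lit 2, nat_lit 1, nat_lit 0, nat_lit 3, nat_lit 0, nat_lit 0, nat_lit 1, nat_lit 0, nat_lit 1, nat_lit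 2, nat_lit 3, nat_lit 2, nat_lit 2, nat_lit 2, nat_lit 1, nat_lit 0, nat_lit 1, nat_lit 0, nat_lit 3, nat_lit 3, nat_lit 2, nat_lit 3, nat_lit 0, nat_lit 3, nat_lit 0, nat_lit 1, nat_lit 0, nat_lit 3, nat_lit 3, nat_lit 3, nat_lit 3, nat_lit 2, nat_lit 2, nat_lit 2, nat_lit 2, nat_lit 1, nat_lit 0, nat_lit 1, nat_lit 2, nat_lit 1, nat_lit 2, nat_lit 2, nat_lit 3, nat_lit 0, nat_lit 3, nat_lit 0, nat_lit 1, nat_lit 0, nat_lit 3, nat_lit 3, nat_lit 3, nat_lit 3, nat_lit 2, nat_lit 2, nat_lit 2, nat_lit 2, nat_lit 1, nat_lit 0, nat_lit 1, nat_lit 2, nat_lit 1, nat_lit 2, nat_lit 2, nat_lit 3, nat_lit 0, nat_lit 3, nat_lit 0, nat_lit 1, nat_lit 0, nat_lit 3, nat_lit 3, nat_lit 3, nat_lit 3, nat_lit 2, nat_lit 2, nat_lit 2, nat_lit 2, nat_lit 1, nat_lit 0, nat_lit 1, nat_lit 2, nat_lit 1, nat_lit 2, nat_lit 3, nat_lit 0, nat_lit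 0, nat_lit 1, nat_lit 0, nat_lit 1, nat_lit 2, nat_lit 1, nat_lit 0, nat_lit 3, nat_lit 0, nat_lit 0, nat_lit 1, nat_lit 0, nat_lit 1, nat_lit 2, nat_lit 3, nat_lit 2, nat_lit 2, nat_lit 2, nat_lit 1, nat_lit 0, nat_lit 1, nat_lit 0, nat_lit 3, nat_lit 3, nat_lit 0, nat_lit 3, nat_lit 0, nat_lit 3, nat_lit 2, nat_lit 3, nat_lit 0, nat_lit 0, nat_lit 0, nat_lit 0, nat_lit 1, nat_lit 1, nat_lit 1, nat_lit 1, nat_lit 2, nat_lit 3, nat_lit 2, nat_lit 1, nat_lit 2, nat_lit 1, nat_lit 0, nat_lit 1, nat_lit 1, nat_lit 2, nat_lit 3, nat_lit 2, nat_lit 3, nat_lit 0, nat_lit 0, nat_lit 0, nat_lit 1, nat_lit 0, nat_lit 3, nat_lit 2, nat_lit 3, nat_lit 2, nat_lit 2, nat_lit 1, nat_lit 2, nat_lit 3, nat_lit 0, nat_lit 3, nat_lit 2, nat_lit 3, nat_lit 2, nat_lit 2, nat_lit 1, nat_lit 0, nat_lit 3, nat_lit 0, nat_lit 3, nat_lit 2, nat_lit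 3, nat_lit 0, nat_lit 0, nat_lit 0, nat_lit 0, nat_lit 1, nat_lit 1, nat_lit 1, nat_lit 1, nat_lit 2, nat_lit 3, nat_lit 2, nat_lit 1, nat_lit 2, nat_lit 1, nat_lit 0, nat_lit 3, nat_lit 0, nat_lit 0, nat_lit 1, nat_lit 0, nat_lit 1, nat_lit 2, nat_lit 1, nat_lit 0, nat_lit 3, nat_lit 0, nat_lit 0, nat_lit 1, nat_lit 0, nat_lit 1, nat_lit 2, nat_lit 3, nat_lit 2, nat_lit 2, nat_lit 2, nat_lit 1, nat_lit 0, nat_lit 1, nat_lit 0, nat_lit 3, nat_lit 3, nat_lit 0, nat_lit 3, nat_lit 0, nat_lit 3, nat_lit 2, nat_lit 3, nat_lit 0, nat_lit 0, nat_lit 0, nat_lit 0, nat_lit 1, nat_lit 1, nat_lit 1, nat_lit 1, nat_lit 2, nat_lit 3, nat_lit 2, nat_lit 1, nat_lit 2, nat_lit 1, nat_lit 0, nat_lit 0, nat_lit 3, nat_lit 0, nat_lit 3, nat_lit 2, nat_lit 3, nat_lit 0, nat_lit 0, nat_lit 0, nat_lit 0, nat_lit 1, nat_lit 1, nat_lit 1, nat_lit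 1, nat_lit 2, nat_lit 3, nat_lit 2, nat_lit 1, nat_lit 2, nat_lit 1, nat_lit 0, nat_lit 1, nat_lit 1, nat_lit 2, nat_lit 3, nat_lit 2, nat_lit 3, nat_lit 0, nat_lit 0, nat_lit 0, nat_lit 1, nat_lit 0, nat_lit 3, nat_lit 2, nat_lit 3, nat_lit 2, nat_lit 2, nat_lit 1, nat_lit 2, nat_lit 3, nat_lit 0, nat_lit 3, nat_lit 2, nat_lit 3, nat_lit 2, nat_lit 2, nat_lit 1, nat_lit 0, nat_lit 3, nat_lit 0, nat_lit 3, nat_lit 2, nat_lit 3, nat_lit 0, nat_lit 0, nat_lit 0, nat_lit 0, nat_lit 1, nat_lit 1, nat_lit 1, nat_lit 1, nat_lit 2, nat_lit 3, nat_lit 2, nat_lit 1, nat_lit 2, nat_lit 1, nat_lit 0, nat_lit 0, nat_lit 3, nat_lit 0, nat_lit 3, nat_lit 2, nat_lit 3, nat_lit 0, nat_lit 0, nat_lit 0, nat_lit 0, nat_lit 1, nat_lit 1, nat_lit 1, nat_lit 1, nat_lit 2, nat_lit 3, nat_lit 2, nat_lit 1, nat_lit 2, nat_lit 1, nat_lit 0, nat_lit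 0, nat_lit 3, nat_lit 0, nat_lit 3, nat_lit 2, nat_lit 3, nat_lit 0, nat_lit 0, nat_lit 0, nat_lit 0, nat_lit 1, nat_lit 1, nat_lit 1, nat_lit 1, nat_lit 2, nat_lit 3, nat_lit 2, nat_lit 1, nat_lit 2, nat_lit 1, nat_lit 0, nat_lit 3, nat_lit 0, nat_lit 0, nat_lit 1, nat_lit 0, nat_lit 1, nat_lit 2, nat_lit 1, nat_lit 0, nat_lit 3, nat_lit 0, nat_lit 0, nat_lit 1, nat_lit 0, nat_lit 1, nat_lit 2, nat_lit 3, nat_lit 2, nat_lit 2, nat_lit 2, nat_lit 1, nat_lit 0, nat_lit 1, nat_lit 0, nat_lit 3, nat_lit 3, nat_lit 2, nat_lit 3, nat_lit 0, nat_lit 3, nat_lit 0, nat_lit 1, nat_lit 0, nat_lit 3, nat_lit 3, nat_lit 3, nat_lit 3, nat_lit 2, nat_lit 2, nat_lit 2, nat_lit 2, nat_lit 1, nat_lit 0, nat_lit 1, nat_lit 2, nat_lit 1, nat_lit 2, nat_lit 3, nat_lit 0, nat_lit 0, nat_lit 1, nat_lit 0, nat_lit 1, nat_lit 2, nat_lit 1, nat_lit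 0, nat_lit 3, nat_lit 0, nat_lit 0, nat_lit 1, nat_lit 0, nat_lit 1, nat_lit 2, nat_lit 3, nat_lit 2, nat_lit 2, nat_lit 2, nat_lit 1, nat_lit 0, nat_lit 1, nat_lit 0, nat_lit 3, nat_lit 3, nat_lit 0, nat_lit 3, nat_lit 0, nat_lit 3, nat_lit 2, nat_lit 3, nat_lit 0, nat_lit 0, nat_lit 0, nat_lit 0, nat_lit 1, nat_lit 1, nat_lit 1, nat_lit 1, nat_lit 2, nat_lit 3, nat_lit 2, nat_lit 1, nat_lit 2, nat_lit 1, nat_lit 0, nat_lit 0, nat_lit 3, nat_lit 0, nat_lit 3, nat_lit 2, nat_lit 3, nat_lit 0, nat_lit 0, nat_lit 0, nat_lit 0, nat_lit 1, nat_lit 1, nat_lit 1, nat_lit 1, nat_lit 2, nat_lit 3, nat_lit 2, nat_lit 1, nat_lit 2, nat_lit 1, nat_lit 0, nat_lit 3, nat_lit 0, nat_lit 0, nat_lit 1, nat_lit 0, nat_lit 1, nat_lit 2, nat_lit 1, nat_lit 0, nat_lit 3, nat_lit 0, nat_lit 0, nat_lit 1, nat_lit 0, nat_lit 1, nat_lit 2, nat_lit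 3, nat_lit 2, nat_lit 2, nat_lit 2, nat_lit 1, nat_lit 0, nat_lit 1, nat_lit 0, nat_lit 3, nat_lit 3, nat_lit 0, nat_lit 3, nat_lit 0, nat_lit 3, nat_lit 2, nat_lit 3, nat_lit 0, nat_lit 0, nat_lit 0, nat_lit 0, nat_lit 1, nat_lit 1, nat_lit 1, nat_lit 1, nat_lit 2, nat_lit 3, nat_lit 2, nat_lit 1, nat_lit 2, nat_lit 1, nat_lit 0, nat_lit 1, nat_lit 1, nat_lit 2, nat_lit 3, nat_lit 2, nat_lit 3, nat_lit 0, nat_lit 0, nat_lit 0, nat_lit 1, nat_lit 0, nat_lit 3, nat_lit 2, nat_lit 3, nat_lit 2, nat_lit 2, nat_lit 1, nat_lit 2, nat_lit 3, nat_lit 0, nat_lit 3, nat_lit 2, nat_lit 3, nat_lit 2, nat_lit 2]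

/-- the generator 2 as a word in `c` (letter 0), `w` (1) and their inverses (2, 3) -/
def gW2 : List Nat := [nat_lit 1, nat_lit 2, nat_lit 3, nat_lit 0, nat_lit 3, nat_lit 0, nat_lit 1, nat_lit 0, nat_lit 3, nat_lit 3, nat_lit 3, nat_lit 3, nat_lit 2, nat_lit 2, nat_lit 2, nat_lit 2, nat_lit 1, nat_lit 0, nat_lit 1, nat_lit 2, nat_lit 1, nat_lit 2, nat_lit 1, nat_lit 1, nat_lit 2, nat_lit 3, nat_lit 2, nat_lit 3, nat_lit 0, nat_lit 0, nat_lit 0, nat_lit 1, nat_lit 0, nat_lit 3, nat_lit 2, nat_lit 3, nat_lit 2, nat_lit 2, nat_lit 1, nat_lit 2, nat_lit 3, nat_lit 0, nat_lit 3, nat_lit 2, nat_lit 3, nat_lit 2, nat_lit 2, nat_lit 1, nat_lit 2, nat_lit 3, nat_lit 0, nat_lit 3, nat_lit 0, nat_lit 1, nat_lit 0, nat_lit 3, nat_lit 3, nat_lit 3, nat_lit 3, nat_lit 2, nat_lit 2, nat_lit 2, nat_lit 2, nat_lit 1, nat_lit 0, nat_lit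 1, nat_lit 2, nat_lit 1, nat_lit 2, nat_lit 2, nat_lit 3, nat_lit 0, nat_lit 3, nat_lit 0, nat_lit 1, nat_lit 0, nat_lit 3, nat_lit 3, nat_lit 3, nat_lit 3, nat_lit 2, nat_lit 2, nat_lit 2, nat_lit 2, nat_lit 1, nat_lit 0, nat_lit 1, nat_lit 2, nat_lit 1, nat_lit 2, nat_lit 1, nat_lit 1, nat_lit 2, nat_lit 3, nat_lit 2, nat_lit 3, nat_lit 0, nat_lit 0, nat_lit 0, nat_lit 1, nat_lit 0, nat_lit 3, nat_lit 2, nat_lit 3, nat_lit 2, nat_lit 2, nat_lit 1, nat_lit 2, nat_lit 3, nat_lit 0, nat_lit 3, nat_lit 2, nat_lit 3, nat_lit 2, nat_lit 2, nat_lit 1, nat_lit 0, nat_lit 3, nat_lit 0, nat_lit 3, nat_lit 2, nat_lit 3, nat_lit 0, nat_lit 0, nat_lit 0, nat_lit 0, nat_lit 1, nat_lit 1, nat_lit 1, nat_lit 1, nat_lit 2, nat_lit 3, nat_lit 2, nat_lit 1, nat_lit 2, nat_lit 1, nat_lit 0, nat_lit 1, nat_lit 1, nat_lit 2, nat_lit 3, nat_lit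 2, nat_lit 3, nat_lit 0, nat_lit 0, nat_lit 0, nat_lit 1, nat_lit 0, nat_lit 3, nat_lit 2, nat_lit 3, nat_lit 2, nat_lit 2, nat_lit 1, nat_lit 2, nat_lit 3, nat_lit 0, nat_lit 3, nat_lit 2, nat_lit 3, nat_lit 2, nat_lit 2, nat_lit 1, nat_lit 2, nat_lit 3, nat_lit 0, nat_lit 3, nat_lit 0, nat_lit 1, nat_lit 0, nat_lit 3, nat_lit 3, nat_lit 3, nat_lit 3, nat_lit 2, nat_lit 2, nat_lit 2, nat_lit 2, nat_lit 1, nat_lit 0, nat_lit 1, nat_lit 2, nat_lit 1, nat_lit 2, nat_lit 1, nat_lit 1, nat_lit 2, nat_lit 3, nat_lit 2, nat_lit 3, nat_lit 0, nat_lit 0, nat_lit 0, nat_lit 1, nat_lit 0, nat_lit 3, nat_lit 2, nat_lit 3, nat_lit 2, nat_lit 2, nat_lit 1, nat_lit 2, nat_lit 3, nat_lit 0, nat_lit 3, nat_lit 2, nat_lit 3, nat_lit 2, nat_lit 2, nat_lit 1, nat_lit 2, nat_lit 3, nat_lit 0, nat_lit 3, nat_lit 0, nat_lit 1, nat_lit 0, nat_lit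 3, nat_lit 3, nat_lit 3, nat_lit 3, nat_lit 2, nat_lit 2, nat_lit 2, nat_lit 2, nat_lit 1, nat_lit 0, nat_lit 1, nat_lit 2, nat_lit 1, nat_lit 2, nat_lit 2, nat_lit 3, nat_lit 0, nat_lit 3, nat_lit 0, nat_lit 1, nat_lit 0, nat_lit 3, nat_lit 3, nat_lit 3, nat_lit 3, nat_lit 2, nat_lit 2, nat_lit 2, nat_lit 2, nat_lit 1, nat_lit 0, nat_lit 1, nat_lit 2, nat_lit 1, nat_lit 2, nat_lit 2, nat_lit 3, nat_lit 0, nat_lit 3, nat_lit 0, nat_lit 1, nat_lit 0, nat_lit 3, nat_lit 3, nat_lit 3, nat_lit 3, nat_lit 2, nat_lit 2, nat_lit 2, nat_lit 2, nat_lit 1, nat_lit 0, nat_lit 1, nat_lit 2, nat_lit 1, nat_lit 2, nat_lit 2, nat_lit 3, nat_lit 0, nat_lit 3, nat_lit 0, nat_lit 1, nat_lit 0, nat_lit 3, nat_lit 3, nat_lit 3, nat_lit 3, nat_lit 2, nat_lit 2, nat_lit 2, nat_lit 2, nat_lit 1, nat_lit 0, nat_lit 1, nat_lit 2, nat_lit 1, nat_lit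 2, nat_lit 3, nat_lit 0, nat_lit 0, nat_lit 1, nat_lit 0, nat_lit 1, nat_lit 2, nat_lit 1, nat_lit 0, nat_lit 3, nat_lit 0, nat_lit 0, nat_lit 1, nat_lit 0, nat_lit 1, nat_lit 2, nat_lit 3, nat_lit 2, nat_lit 2, nat_lit 2, nat_lit 1, nat_lit 0, nat_lit 1, nat_lit 0, nat_lit 3, nat_lit 3, nat_lit 0, nat_lit 3, nat_lit 0, nat_lit 3, nat_lit 2, nat_lit 3, nat_lit 0, nat_lit 0, nat_lit 0, nat_lit 0, nat_lit 1, nat_lit 1, nat_lit 1, nat_lit 1, nat_lit 2, nat_lit 3, nat_lit 2, nat_lit 1, nat_lit 2, nat_lit 1, nat_lit 0, nat_lit 1, nat_lit 1, nat_lit 2, nat_lit 3, nat_lit 2, nat_lit 3, nat_lit 0, nat_lit 0, nat_lit 0, nat_lit 1, nat_lit 0, nat_lit 3, nat_lit 2, nat_lit 3, nat_lit 2, nat_lit 2, nat_lit 1, nat_lit 2, nat_lit 3, nat_lit 0, nat_lit 3, nat_lit 2, nat_lit 3, nat_lit 2, nat_lit 2, nat_lit 1, nat_lit 0, nat_lit 3, nat_lit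 0, nat_lit 3, nat_lit 2, nat_lit 3, nat_lit 0, nat_lit 0, nat_lit 0, nat_lit 0, nat_lit 1, nat_lit 1, nat_lit 1, nat_lit 1, nat_lit 2, nat_lit 3, nat_lit 2, nat_lit 1, nat_lit 2, nat_lit 1, nat_lit 0, nat_lit 3, nat_lit 0, nat_lit 0, nat_lit 1, nat_lit 0, nat_lit 1, nat_lit 2, nat_lit 1, nat_lit 0, nat_lit 3, nat_lit 0, nat_lit 0, nat_lit 1, nat_lit 0, nat_lit 1, nat_lit 2, nat_lit 3, nat_lit 2, nat_lit 2, nat_lit 2, nat_lit 1, nat_lit 0, nat_lit 1, nat_lit 0, nat_lit 3, nat_lit 3, nat_lit 0, nat_lit 3, nat_lit 0, nat_lit 3, nat_lit 2, nat_lit 3, nat_lit 0, nat_lit 0, nat_lit 0, nat_lit 0, nat_lit 1, nat_lit 1, nat_lit 1, nat_lit 1, nat_lit 2, nat_lit 3, nat_lit 2, nat_lit 1, nat_lit 2, nat_lit 1, nat_lit 0, nat_lit 0, nat_lit 3, nat_lit 0, nat_lit 3, nat_lit 2, nat_lit 3, nat_lit 0, nat_lit 0, nat_lit 0, nat_lit 0, nat_lit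 1, nat_lit 1, nat_lit 1, nat_lit 1, nat_lit 2, nat_lit 3, nat_lit 2, nat_lit 1, nat_lit 2, nat_lit 1, nat_lit 0, nat_lit 1, nat_lit 1, nat_lit 2, nat_lit 3, nat_lit 2, nat_lit 3, nat_lit 0, nat_lit 0, nat_lit 0, nat_lit 1, nat_lit 0, nat_lit 3, nat_lit 2, nat_lit 3, nat_lit 2, nat_lit 2, nat_lit 1, nat_lit 2, nat_lit 3, nat_lit 0, nat_lit 3, nat_lit 2, nat_lit 3, nat_lit 2, nat_lit 2, nat_lit 1, nat_lit 0, nat_lit 3, nat_lit 0, nat_lit 3, nat_lit 2, nat_lit 3, nat_lit 0, nat_lit 0, nat_lit 0, nat_lit 0, nat_lit 1, nat_lit 1, nat_lit 1, nat_lit 1, nat_lit 2, nat_lit 3, nat_lit 2, nat_lit 1, nat_lit 2, nat_lit 1, nat_lit 0, nat_lit 0, nat_lit 3, nat_lit 0, nat_lit 3, nat_lit 2, nat_lit 3, nat_lit 0, nat_lit 0, nat_lit 0, nat_lit 0, nat_lit 1, nat_lit 1, nat_lit 1, nat_lit 1, nat_lit 2, nat_lit 3, nat_lit 2, nat_lit 1, nat_lit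 2, nat_lit 1, nat_lit 0, nat_lit 0, nat_lit 3, nat_lit 0, nat_lit 3, nat_lit 2, nat_lit 3, nat_lit 0, nat_lit 0, nat_lit 0, nat_lit 0, nat_lit 1, nat_lit 1, nat_lit 1, nat_lit 1, nat_lit 2, nat_lit 3, nat_lit 2, nat_lit 1, nat_lit 2, nat_lit 1, nat_lit 0, nat_lit 3, nat_lit 0, nat_lit 0, nat_lit 1, nat_lit 0, nat_lit 1, nat_lit 2, nat_lit 1, nat_lit 0, nat_lit 3, nat_lit 0, nat_lit 0, nat_lit 1, nat_lit 0, nat_lit 1, nat_lit 2, nat_lit 3, nat_lit 2, nat_lit 2, nat_lit 2, nat_lit 1, nat_lit 0, nat_lit 1, nat_lit 0, nat_lit 3, nat_lit 3, nat_lit 2, nat_lit 3, nat_lit 0, nat_lit 3, nat_lit 0, nat_lit 1, nat_lit 0, nat_lit 3, nat_lit 3, nat_lit 3, nat_lit 3, nat_lit 2, nat_lit 2, nat_lit 2, nat_lit 2, nat_lit 1, nat_lit 0, nat_lit 1, nat_lit 2, nat_lit 1, nat_lit 2, nat_lit 3, nat_lit 0, nat_lit 0, nat_lit 1, nat_lit 0, nat_lit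 1, nat_lit 2, nat_lit 1, nat_lit 0, nat_lit 3, nat_lit 0, nat_lit 0, nat_lit 1, nat_lit 0, nat_lit 1, nat_lit 2, nat_lit 3, nat_lit 2, nat_lit 2, nat_lit 2, nat_lit 1, nat_lit 0, nat_lit 1, nat_lit 0, nat_lit 3, nat_lit 3, nat_lit 0, nat_lit 3, nat_lit 0, nat_lit 3, nat_lit 2, nat_lit 3, nat_lit 0, nat_lit 0, nat_lit 0, nat_lit 0, nat_lit 1, nat_lit 1, nat_lit 1, nat_lit 1, nat_lit 2, nat_lit 3, nat_lit 2, nat_lit 1, nat_lit 2, nat_lit 1, nat_lit 0, nat_lit 0, nat_lit 3, nat_lit 0, nat_lit 3, nat_lit 2, nat_lit 3, nat_lit 0, nat_lit 0, nat_lit 0, nat_lit 0, nat_lit 1, nat_lit 1, nat_lit 1, nat_lit 1, nat_lit 2, nat_lit 3, nat_lit 2, nat_lit 1, nat_lit 2, nat_lit 1, nat_lit 0, nat_lit 3, nat_lit 0, nat_lit 0, nat_lit 1, nat_lit 0, nat_lit 1, nat_lit 2, nat_lit 1, nat_lit 0, nat_lit 3, nat_lit 0, nat_lit 0, nat_lit 1, nat_lit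 0, nat_lit 1, nat_lit 2, nat_lit 3, nat_lit 2, nat_lit 2, nat_lit 2, nat_lit 1, nat_lit 0, nat_lit 1, nat_lit 0, nat_lit 3, nat_lit 3, nat_lit 0, nat_lit 3, nat_lit 0, nat_lit 3, nat_lit 2, nat_lit 3, nat_lit 0, nat_lit 0, nat_lit 0, nat_lit 0, nat_lit 1, nat_lit 1, nat_lit 1, nat_lit 1, nat_lit 2, nat_lit 3, nat_lit 2, nat_lit 1, nat_lit 2, nat_lit 1, nat_lit 0, nat_lit 1, nat_lit 1, nat_lit 2, nat_lit 3, nat_lit 2, nat_lit 3, nat_lit 0, nat_lit 0, nat_lit 0, nat_lit 1, nat_lit 0, nat_lit 3, nat_lit 2, nat_lit 3, nat_lit 2, nat_lit 2, nat_lit 1, nat_lit 2, nat_lit 3, nat_lit 0, nat_lit 3, nat_lit 2, nat_lit 3, nat_lit 2, nat_lit 2, nat_lit 1, nat_lit 2, nat_lit 3, nat_lit 0, nat_lit 3, nat_lit 0, nat_lit 1, nat_lit 0, nat_lit 3, nat_lit 3, nat_lit 3, nat_lit 3, nat_lit 2, nat_lit 2, nat_lit 2, nat_lit 2, nat_lit 1, nat_lit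 0, nat_lit 1, nat_lit 2, nat_lit 1, nat_lit 2, nat_lit 2, nat_lit 3, nat_lit 0, nat_lit 3, nat_lit 0, nat_lit 1, nat_lit 0, nat_lit 3, nat_lit 3, nat_lit 3, nat_lit 3, nat_lit 2, nat_lit 2, nat_lit 2, nat_lit 2, nat_lit 1, nat_lit 0, nat_lit 1, nat_lit 2, nat_lit 1, nat_lit 2, nat_lit 3, nat_lit 0, nat_lit 0, nat_lit 1, nat_lit 0, nat_lit 1, nat_lit 2, nat_lit 1, nat_lit 0, nat_lit 3, nat_lit 0, nat_lit 0, nat_lit 1, nat_lit 0, nat_lit 1, nat_lit 2, nat_lit 3, nat_lit 2, nat_lit 2, nat_lit 2, nat_lit 1, nat_lit 0, nat_lit 1, nat_lit 0, nat_lit 3, nat_lit 3, nat_lit 0, nat_lit 3, nat_lit 0, nat_lit 3, nat_lit 2, nat_lit 3, nat_lit 0, nat_lit 0, nat_lit 0, nat_lit 0, nat_lit 1, nat_lit 1, nat_lit 1, nat_lit 1, nat_lit 2, nat_lit 3, nat_lit 2, nat_lit 1, nat_lit 2, nat_lit 1, nat_lit 0, nat_lit 1, nat_lit 1, nat_lit 2, nat_lit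 3, nat_lit 2, nat_lit 3, nat_lit 0, nat_lit 0, nat_lit 0, nat_lit 1, nat_lit 0, nat_lit 3, nat_lit 2, nat_lit 3, nat_lit 2, nat_lit 2, nat_lit 1, nat_lit 2, nat_lit 3, nat_lit 0, nat_lit 3, nat_lit 2, nat_lit 3, nat_lit 2, nat_lit 2, nat_lit 1, nat_lit 0, nat_lit 3, nat_lit 0, nat_lit 3, nat_lit 2, nat_lit 3, nat_lit 0, nat_lit 0, nat_lit 0, nat_lit 0, nat_lit 1, nat_lit 1, nat_lit 1, nat_lit 1, nat_lit 2, nat_lit 3, nat_lit 2, nat_lit 1, nat_lit 2, nat_lit 1, nat_lit 0, nat_lit 3, nat_lit 0, nat_lit 0, nat_lit 1, nat_lit 0, nat_lit 1, nat_lit 2, nat_lit 1, nat_lit 0, nat_lit 3, nat_lit 0, nat_lit 0, nat_lit 1, nat_lit 0, nat_lit 1, nat_lit 2, nat_lit 3, nat_lit 2, nat_lit 2, nat_lit 2, nat_lit 1, nat_lit 0, nat_lit 1, nat_lit 0, nat_lit 3, nat_lit 3, nat_lit 0, nat_lit 3, nat_lit 0, nat_lit 3, nat_lit 2, nat_lit 3, nat_lit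 0, nat_lit 0, nat_lit 0, nat_lit 0, nat_lit 1, nat_lit 1, nat_lit 1, nat_lit 1, nat_lit 2, nat_lit 3, nat_lit 2, nat_lit 1, nat_lit 2, nat_lit 1, nat_lit 0, nat_lit 0, nat_lit 3, nat_lit 0, nat_lit 3, nat_lit 2, nat_lit 3, nat_lit 0, nat_lit 0, nat_lit 0, nat_lit 0, nat_lit 1, nat_lit 1, nat_lit 1, nat_lit 1, nat_lit 2, nat_lit 3, nat_lit 2, nat_lit 1, nat_lit 2, nat_lit 1, nat_lit 0, nat_lit 1, nat_lit 1, nat_lit 2, nat_lit 3, nat_lit 2, nat_lit 3, nat_lit 0, nat_lit 0, nat_lit 0, nat_lit 1, nat_lit 0, nat_lit 3, nat_lit 2, nat_lit 3, nat_lit 2, nat_lit 2, nat_lit 1, nat_lit 2, nat_lit 3, nat_lit 0, nat_lit 3, nat_lit 2, nat_lit 3, nat_lit 2, nat_lit 2, nat_lit 1, nat_lit 0, nat_lit 3, nat_lit 0, nat_lit 3, nat_lit 2, nat_lit 3, nat_lit 0, nat_lit 0, nat_lit 0, nat_lit 0, nat_lit 1, nat_lit 1, nat_lit 1, nat_lit 1, nat_lit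 2, nat_lit 3, nat_lit 2, nat_lit 1, nat_lit 2, nat_lit 1, nat_lit 0, nat_lit 0, nat_lit 3, nat_lit 0, nat_lit 3, nat_lit 2, nat_lit 3, nat_lit 0, nat_lit 0, nat_lit 0, nat_lit 0, nat_lit 1, nat_lit 1, nat_lit 1, nat_lit 1, nat_lit 2, nat_lit 3, nat_lit 2, nat_lit 1, nat_lit 2, nat_lit 1, nat_lit 0, nat_lit 0, nat_lit 3, nat_lit 0, nat_lit 3, nat_lit 2, nat_lit 3, nat_lit 0, nat_lit 0, nat_lit 0, nat_lit 0, nat_lit 1, nat_lit 1, nat_lit 1, nat_lit 1, nat_lit 2, nat_lit 3, nat_lit 2, nat_lit 1, nat_lit 2, nat_lit 1, nat_lit 0, nat_lit 3, nat_lit 0, nat_lit 0, nat_lit 1, nat_lit 0, nat_lit 1, nat_lit 2, nat_lit 1, nat_lit 0, nat_lit 3, nat_lit 0, nat_lit 0, nat_lit 1, nat_lit 0, nat_lit 1, nat_lit 2, nat_lit 3, nat_lit 2, nat_lit 2, nat_lit 2, nat_lit 1, nat_lit 0, nat_lit 1, nat_lit 0, nat_lit 3, nat_lit 3, nat_lit 2, nat_lit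 3, nat_lit 0, nat_lit 3, nat_lit 0, nat_lit 1, nat_lit 0, nat_lit 3, nat_lit 3, nat_lit 3, nat_lit 3, nat_lit 2, nat_lit 2, nat_lit 2, nat_lit 2, nat_lit 1, nat_lit 0, nat_lit 1, nat_lit 2, nat_lit 1, nat_lit 2, nat_lit 3, nat_lit 0, nat_lit 0, nat_lit 1, nat_lit 0, nat_lit 1, nat_lit 2, nat_lit 1, nat_lit 0, nat_lit 3, nat_lit 0, nat_lit 0, nat_lit 1, nat_lit 0, nat_lit 1, nat_lit 2, nat_lit 3, nat_lit 2, nat_lit 2, nat_lit 2, nat_lit 1, nat_lit 0, nat_lit 1, nat_lit 0, nat_lit 3, nat_lit 3, nat_lit 0, nat_lit 3, nat_lit 0, nat_lit 3, nat_lit 2, nat_lit 3, nat_lit 0, nat_lit 0, nat_lit 0, nat_lit 0, nat_lit 1, nat_lit 1, nat_lit 1, nat_lit 1, nat_lit 2, nat_lit 3, nat_lit 2, nat_lit 1, nat_lit 2, nat_lit 1, nat_lit 0, nat_lit 0, nat_lit 3, nat_lit 0, nat_lit 3, nat_lit 2, nat_lit 3, nat_lit 0, nat_lit 0, nat_lit 0, nat_lit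 0, nat_lit 1, nat_lit 1, nat_lit 1, nat_lit 1, nat_lit 2, nat_lit 3, nat_lit 2, nat_lit 1, nat_lit 2, nat_lit 1, nat_lit 0, nat_lit 3, nat_lit 0, nat_lit 0, nat_lit 1, nat_lit 0, nat_lit 1, nat_lit 2, nat_lit 1, nat_lit 0, nat_lit 3, nat_lit 0, nat_lit 0, nat_lit 1, nat_lit 0, nat_lit 1, nat_lit 2, nat_lit 3, nat_lit 2, nat_lit 2, nat_lit 2, nat_lit 1, nat_lit 0, nat_lit 1, nat_lit 0, nat_lit 3, nat_lit 3, nat_lit 0, nat_lit 3, nat_lit 0, nat_lit 3, nat_lit 2, nat_lit 3, nat_lit 0, nat_lit 0, nat_lit 0, nat_lit 0, nat_lit 1, nat_lit 1, nat_lit 1, nat_lit 1, nat_lit 2, nat_lit 3, nat_lit 2, nat_lit 1, nat_lit 2, nat_lit 1, nat_lit 0, nat_lit 1, nat_lit 1, nat_lit 2, nat_lit 3, nat_lit 2, nat_lit 3, nat_lit 0, nat_lit 0, nat_lit 0, nat_lit 1, nat_lit 0, nat_lit 3, nat_lit 2, nat_lit 3, nat_lit 2, nat_lit 2, nat_lit 1, nat_lit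 2, nat_lit 3, nat_lit 0, nat_lit 3, nat_lit 2, nat_lit 3, nat_lit 2, nat_lit 2]

/-- the generator 3 as a word in `c` (letter 0), `w` (1) and their inverses (2, 3) -/
def gW3 : List Nat := [nat_lit 0, nat_lit 0, nat_lit 1, nat_lit 0, nat_lit 1, nat_lit 2, nat_lit 1, nat_lit 0, nat_lit 3, nat_lit 0, nat_lit 0, nat_lit 1, nat_lit 0, nat_lit 1, nat_lit 2, nat_lit 3, nat_lit 2, nat_lit 2, nat_lit 2, nat_lit 1, nat_lit 0, nat_lit 1, nat_lit 0, nat_lit 3, nat_lit 3, nat_lit 0, nat_lit 3, nat_lit 0, nat_lit 3, nat_lit 2, nat_lit 3, nat_lit 0, nat_lit 0, nat_lit 0, nat_lit 0, nat_lit 1, nat_lit 1, nat_lit 1, nat_lit 1, nat_lit 2, nat_lit 3, nat_lit 2, nat_lit 1, nat_lit 2, nat_lit 1, nat_lit 0, nat_lit 1, nat_lit 1, nat_lit 2, nat_lit 3, nat_lit 2, nat_lit 3, nat_lit 0, nat_lit 0, nat_lit 0, nat_lit 1, nat_lit 0, nat_lit 3, nat_lit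 2, nat_lit 3, nat_lit 2, nat_lit 2, nat_lit 1, nat_lit 2, nat_lit 3, nat_lit 0, nat_lit 3, nat_lit 2, nat_lit 3, nat_lit 2, nat_lit 2, nat_lit 1, nat_lit 2, nat_lit 3, nat_lit 0, nat_lit 3, nat_lit 0, nat_lit 1, nat_lit 0, nat_lit 3, nat_lit 3, nat_lit 3, nat_lit 3, nat_lit 2, nat_lit 2, nat_lit 2, nat_lit 2, nat_lit 1, nat_lit 0, nat_lit 1, nat_lit 2, nat_lit 1, nat_lit 2, nat_lit 2, nat_lit 3, nat_lit 0, nat_lit 3, nat_lit 0, nat_lit 1, nat_lit 0, nat_lit 3, nat_lit 3, nat_lit 3, nat_lit 3, nat_lit 2, nat_lit 2, nat_lit 2, nat_lit 2, nat_lit 1, nat_lit 0, nat_lit 1, nat_lit 2, nat_lit 1, nat_lit 2, nat_lit 2, nat_lit 3, nat_lit 0, nat_lit 3, nat_lit 0, nat_lit 1, nat_lit 0, nat_lit 3, nat_lit 3, nat_lit 3, nat_lit 3, nat_lit 2, nat_lit 2, nat_lit 2, nat_lit 2, nat_lit 1, nat_lit 0, nat_lit 1, nat_lit 2, nat_lit 1, nat_lit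 2, nat_lit 3, nat_lit 0, nat_lit 0, nat_lit 1, nat_lit 0, nat_lit 1, nat_lit 2, nat_lit 1, nat_lit 0, nat_lit 3, nat_lit 0, nat_lit 0, nat_lit 1, nat_lit 0, nat_lit 1, nat_lit 2, nat_lit 3, nat_lit 2, nat_lit 2, nat_lit 2, nat_lit 1, nat_lit 0, nat_lit 1, nat_lit 0, nat_lit 3, nat_lit 3, nat_lit 3, nat_lit 0, nat_lit 0, nat_lit 1, nat_lit 0, nat_lit 1, nat_lit 2, nat_lit 1, nat_lit 0, nat_lit 3, nat_lit 0, nat_lit 0, nat_lit 1, nat_lit 0, nat_lit 1, nat_lit 2, nat_lit 3, nat_lit 2, nat_lit 2, nat_lit 2, nat_lit 1, nat_lit 0, nat_lit 1, nat_lit 0, nat_lit 3, nat_lit 3, nat_lit 0, nat_lit 3, nat_lit 0, nat_lit 3, nat_lit 2, nat_lit 3, nat_lit 0, nat_lit 0, nat_lit 0, nat_lit 0, nat_lit 1, nat_lit 1, nat_lit 1, nat_lit 1, nat_lit 2, nat_lit 3, nat_lit 2, nat_lit 1, nat_lit 2, nat_lit 1, nat_lit 0, nat_lit 0, nat_lit 3, nat_lit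 0, nat_lit 3, nat_lit 2, nat_lit 3, nat_lit 0, nat_lit 0, nat_lit 0, nat_lit 0, nat_lit 1, nat_lit 1, nat_lit 1, nat_lit 1, nat_lit 2, nat_lit 3, nat_lit 2, nat_lit 1, nat_lit 2, nat_lit 1, nat_lit 0, nat_lit 3, nat_lit 0, nat_lit 0, nat_lit 1, nat_lit 0, nat_lit 1, nat_lit 2, nat_lit 1, nat_lit 0, nat_lit 3, nat_lit 0, nat_lit 0, nat_lit 1, nat_lit 0, nat_lit 1, nat_lit 2, nat_lit 3, nat_lit 2, nat_lit 2, nat_lit 2, nat_lit 1, nat_lit 0, nat_lit 1, nat_lit 0, nat_lit 3, nat_lit 3, nat_lit 2, nat_lit 3, nat_lit 0, nat_lit 3, nat_lit 0, nat_lit 1, nat_lit 0, nat_lit 3, nat_lit 3, nat_lit 3, nat_lit 3, nat_lit 2, nat_lit 2, nat_lit 2, nat_lit 2, nat_lit 1, nat_lit 0, nat_lit 1, nat_lit 2, nat_lit 1, nat_lit 2, nat_lit 2, nat_lit 3, nat_lit 0, nat_lit 3, nat_lit 0, nat_lit 1, nat_lit 0, nat_lit 3, nat_lit 3, nat_lit 3, nat_lit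 3, nat_lit 2, nat_lit 2, nat_lit 2, nat_lit 2, nat_lit 1, nat_lit 0, nat_lit 1, nat_lit 2, nat_lit 1, nat_lit 2, nat_lit 3, nat_lit 0, nat_lit 0, nat_lit 1, nat_lit 0, nat_lit 1, nat_lit 2, nat_lit 1, nat_lit 0, nat_lit 3, nat_lit 0, nat_lit 0, nat_lit 1, nat_lit 0, nat_lit 1, nat_lit 2, nat_lit 3, nat_lit 2, nat_lit 2, nat_lit 2, nat_lit 1, nat_lit 0, nat_lit 1, nat_lit 0, nat_lit 3, nat_lit 3, nat_lit 2, nat_lit 3, nat_lit 0, nat_lit 3, nat_lit 0, nat_lit 1, nat_lit 0, nat_lit 3, nat_lit 3, nat_lit 3, nat_lit 3, nat_lit 2, nat_lit 2, nat_lit 2, nat_lit 2, nat_lit 1, nat_lit 0, nat_lit 1, nat_lit 2, nat_lit 1, nat_lit 2, nat_lit 2, nat_lit 3, nat_lit 0, nat_lit 3, nat_lit 0, nat_lit 1, nat_lit 0, nat_lit 3, nat_lit 3, nat_lit 3, nat_lit 3, nat_lit 2, nat_lit 2, nat_lit 2, nat_lit 2, nat_lit 1, nat_lit 0, nat_lit 1, nat_lit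 2, nat_lit 1, nat_lit 2, nat_lit 3, nat_lit 0, nat_lit 0, nat_lit 1, nat_lit 0, nat_lit 1, nat_lit 2, nat_lit 1, nat_lit 0, nat_lit 3, nat_lit 0, nat_lit 0, nat_lit 1, nat_lit 0, nat_lit 1, nat_lit 2, nat_lit 3, nat_lit 2, nat_lit 2, nat_lit 2, nat_lit 1, nat_lit 0, nat_lit 1, nat_lit 0, nat_lit 3, nat_lit 3, nat_lit 2, nat_lit 3, nat_lit 0, nat_lit 3, nat_lit 0, nat_lit 1, nat_lit 0, nat_lit 3, nat_lit 3, nat_lit 3, nat_lit 3, nat_lit 2, nat_lit 2, nat_lit 2, nat_lit 2, nat_lit 1, nat_lit 0, nat_lit 1, nat_lit 2, nat_lit 1, nat_lit 2, nat_lit 1, nat_lit 1, nat_lit 2, nat_lit 3, nat_lit 2, nat_lit 3, nat_lit 0, nat_lit 0, nat_lit 0, nat_lit 1, nat_lit 0, nat_lit 3, nat_lit 2, nat_lit 3, nat_lit 2, nat_lit 2, nat_lit 1, nat_lit 2, nat_lit 3, nat_lit 0, nat_lit 3, nat_lit 2, nat_lit 3, nat_lit 2, nat_lit 2, nat_lit 1, nat_lit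 1, nat_lit 1, nat_lit 2, nat_lit 3, nat_lit 2, nat_lit 3, nat_lit 0, nat_lit 0, nat_lit 0, nat_lit 1, nat_lit 0, nat_lit 3, nat_lit 2, nat_lit 3, nat_lit 2, nat_lit 2, nat_lit 1, nat_lit 2, nat_lit 3, nat_lit 0, nat_lit 3, nat_lit 2, nat_lit 3, nat_lit 2, nat_lit 2, nat_lit 1, nat_lit 1, nat_lit 1, nat_lit 2, nat_lit 3, nat_lit 2, nat_lit 3, nat_lit 0, nat_lit 0, nat_lit 0, nat_lit 1, nat_lit 0, nat_lit 3, nat_lit 2, nat_lit 3, nat_lit 2, nat_lit 2, nat_lit 1, nat_lit 2, nat_lit 3, nat_lit 0, nat_lit 3, nat_lit 2, nat_lit 3, nat_lit 2, nat_lit 2, nat_lit 1, nat_lit 2, nat_lit 3, nat_lit 0, nat_lit 3, nat_lit 0, nat_lit 1, nat_lit 0, nat_lit 3, nat_lit 3, nat_lit 3, nat_lit 3, nat_lit 2, nat_lit 2, nat_lit 2, nat_lit 2, nat_lit 1, nat_lit 0, nat_lit 1, nat_lit 2, nat_lit 1, nat_lit 2, nat_lit 2, nat_lit 3, nat_lit 0, nat_lit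 3, nat_lit 0, nat_lit 1, nat_lit 0, nat_lit 3, nat_lit 3, nat_lit 3, nat_lit 3, nat_lit 2, nat_lit 2, nat_lit 2, nat_lit 2, nat_lit 1, nat_lit 0, nat_lit 1, nat_lit 2, nat_lit 1, nat_lit 2, nat_lit 3, nat_lit 0, nat_lit 0, nat_lit 1, nat_lit 0, nat_lit 1, nat_lit 2, nat_lit 1, nat_lit 0, nat_lit 3, nat_lit 0, nat_lit 0, nat_lit 1, nat_lit 0, nat_lit 1, nat_lit 2, nat_lit 3, nat_lit 2, nat_lit 2, nat_lit 2, nat_lit 1, nat_lit 0, nat_lit 1, nat_lit 0, nat_lit 3, nat_lit 3, nat_lit 2, nat_lit 3, nat_lit 0, nat_lit 3, nat_lit 0, nat_lit 1, nat_lit 0, nat_lit 3, nat_lit 3, nat_lit 3, nat_lit 3, nat_lit 2, nat_lit 2, nat_lit 2, nat_lit 2, nat_lit 1, nat_lit 0, nat_lit 1, nat_lit 2, nat_lit 1, nat_lit 2, nat_lit 1, nat_lit 1, nat_lit 2, nat_lit 3, nat_lit 2, nat_lit 3, nat_lit 0, nat_lit 0, nat_lit 0, nat_lit 1, nat_lit 0, nat_lit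 3, nat_lit 2, nat_lit 3, nat_lit 2, nat_lit 2, nat_lit 1, nat_lit 2, nat_lit 3, nat_lit 0, nat_lit 3, nat_lit 2, nat_lit 3, nat_lit 2, nat_lit 2, nat_lit 1, nat_lit 1, nat_lit 1, nat_lit 2, nat_lit 3, nat_lit 2, nat_lit 3, nat_lit 0, nat_lit 0, nat_lit 0, nat_lit 1, nat_lit 0, nat_lit 3, nat_lit 2, nat_lit 3, nat_lit 2, nat_lit 2, nat_lit 1, nat_lit 2, nat_lit 3, nat_lit 0, nat_lit 3, nat_lit 2, nat_lit 3, nat_lit 2, nat_lit 2, nat_lit 1, nat_lit 2, nat_lit 3, nat_lit 0, nat_lit 3, nat_lit 0, nat_lit 1, nat_lit 0, nat_lit 3, nat_lit 3, nat_lit 3, nat_lit 3, nat_lit 2, nat_lit 2, nat_lit 2, nat_lit 2, nat_lit 1, nat_lit 0, nat_lit 1, nat_lit 2, nat_lit 1, nat_lit 2, nat_lit 3, nat_lit 0, nat_lit 0, nat_lit 1, nat_lit 0, nat_lit 1, nat_lit 2, nat_lit 1, nat_lit 0, nat_lit 3, nat_lit 0, nat_lit 0, nat_lit 1, nat_lit 0, nat_lit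 1, nat_lit 2, nat_lit 3, nat_lit 2, nat_lit 2, nat_lit 2, nat_lit 1, nat_lit 0, nat_lit 1, nat_lit 0, nat_lit 3, nat_lit 3, nat_lit 0, nat_lit 3, nat_lit 0, nat_lit 3, nat_lit 2, nat_lit 3, nat_lit 0, nat_lit 0, nat_lit 0, nat_lit 0, nat_lit 1, nat_lit 1, nat_lit 1, nat_lit 1, nat_lit 2, nat_lit 3, nat_lit 2, nat_lit 1, nat_lit 2, nat_lit 1, nat_lit 0, nat_lit 3, nat_lit 0, nat_lit 0, nat_lit 1, nat_lit 0, nat_lit 1, nat_lit 2, nat_lit 1, nat_lit 0, nat_lit 3, nat_lit 0, nat_lit 0, nat_lit 1, nat_lit 0, nat_lit 1, nat_lit 2, nat_lit 3, nat_lit 2, nat_lit 2, nat_lit 2, nat_lit 1, nat_lit 0, nat_lit 1, nat_lit 0, nat_lit 3, nat_lit 3, nat_lit 0, nat_lit 3, nat_lit 0, nat_lit 3, nat_lit 2, nat_lit 3, nat_lit 0, nat_lit 0, nat_lit 0, nat_lit 0, nat_lit 1, nat_lit 1, nat_lit 1, nat_lit 1, nat_lit 2, nat_lit 3, nat_lit 2, nat_lit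 1, nat_lit 2, nat_lit 1, nat_lit 0, nat_lit 3, nat_lit 0, nat_lit 0, nat_lit 1, nat_lit 0, nat_lit 1, nat_lit 2, nat_lit 1, nat_lit 0, nat_lit 3, nat_lit 0, nat_lit 0, nat_lit 1, nat_lit 0, nat_lit 1, nat_lit 2, nat_lit 3, nat_lit 2, nat_lit 2, nat_lit 2, nat_lit 1, nat_lit 0, nat_lit 1, nat_lit 0, nat_lit 3, nat_lit 3, nat_lit 0, nat_lit 3, nat_lit 0, nat_lit 3, nat_lit 2, nat_lit 3, nat_lit 0, nat_lit 0, nat_lit 0, nat_lit 0, nat_lit 1, nat_lit 1, nat_lit 1, nat_lit 1, nat_lit 2, nat_lit 3, nat_lit 2, nat_lit 1, nat_lit 2, nat_lit 1, nat_lit 0, nat_lit 1, nat_lit 1, nat_lit 2, nat_lit 3, nat_lit 2, nat_lit 3, nat_lit 0, nat_lit 0, nat_lit 0, nat_lit 1, nat_lit 0, nat_lit 3, nat_lit 2, nat_lit 3, nat_lit 2, nat_lit 2, nat_lit 1, nat_lit 2, nat_lit 3, nat_lit 0, nat_lit 3, nat_lit 2, nat_lit 3, nat_lit 2, nat_lit 2, nat_lit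 1, nat_lit 0, nat_lit 3, nat_lit 0, nat_lit 3, nat_lit 2, nat_lit 3, nat_lit 0, nat_lit 0, nat_lit 0, nat_lit 0, nat_lit 1, nat_lit 1, nat_lit 1, nat_lit 1, nat_lit 2, nat_lit 3, nat_lit 2, nat_lit 1, nat_lit 2, nat_lit 1, nat_lit 0, nat_lit 3, nat_lit 0, nat_lit 0, nat_lit 1, nat_lit 0, nat_lit 1, nat_lit 2, nat_lit 1, nat_lit 0, nat_lit 3, nat_lit 0, nat_lit 0, nat_lit 1, nat_lit 0, nat_lit 1, nat_lit 2, nat_lit 3, nat_lit 2, nat_lit 2, nat_lit 2, nat_lit 1, nat_lit 0, nat_lit 1, nat_lit 0, nat_lit 3, nat_lit 3, nat_lit 0, nat_lit 3, nat_lit 0, nat_lit 3, nat_lit 2, nat_lit 3, nat_lit 0, nat_lit 0, nat_lit 0, nat_lit 0, nat_lit 1, nat_lit 1, nat_lit 1, nat_lit 1, nat_lit 2, nat_lit 3, nat_lit 2, nat_lit 1, nat_lit 2, nat_lit 1, nat_lit 0, nat_lit 0, nat_lit 3, nat_lit 0, nat_lit 3, nat_lit 2, nat_lit 3, nat_lit 0, nat_lit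 0, nat_lit 0, nat_lit 0, nat_lit 1, nat_lit 1, nat_lit 1, nat_lit 1, nat_lit 2, nat_lit 3, nat_lit 2, nat_lit 1, nat_lit 2, nat_lit 1, nat_lit 0, nat_lit 1, nat_lit 1, nat_lit 2, nat_lit 3, nat_lit 2, nat_lit 3, nat_lit 0, nat_lit 0, nat_lit 0, nat_lit 1, nat_lit 0, nat_lit 3, nat_lit 2, nat_lit 3, nat_lit 2, nat_lit 2, nat_lit 1, nat_lit 2, nat_lit 3, nat_lit 0, nat_lit 3, nat_lit 2, nat_lit 3, nat_lit 2, nat_lit 2, nat_lit 1, nat_lit 0, nat_lit 3, nat_lit 0, nat_lit 3, nat_lit 2, nat_lit 3, nat_lit 0, nat_lit 0, nat_lit 0, nat_lit 0, nat_lit 1, nat_lit 1, nat_lit 1, nat_lit 1, nat_lit 2, nat_lit 3, nat_lit 2, nat_lit 1, nat_lit 2, nat_lit 1, nat_lit 0, nat_lit 0, nat_lit 3, nat_lit 0, nat_lit 3, nat_lit 2, nat_lit 3, nat_lit 0, nat_lit 0, nat_lit 0, nat_lit 0, nat_lit 1, nat_lit 1, nat_lit 1, nat_lit 1, nat_lit 2, nat_lit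 3, nat_lit 2, nat_lit 1, nat_lit 2, nat_lit 1, nat_lit 0, nat_lit 0, nat_lit 3, nat_lit 0, nat_lit 3, nat_lit 2, nat_lit 3, nat_lit 0, nat_lit 0, nat_lit 0, nat_lit 0, nat_lit 1, nat_lit 1, nat_lit 1, nat_lit 1, nat_lit 2, nat_lit 3, nat_lit 2, nat_lit 1, nat_lit 2, nat_lit 1, nat_lit 0, nat_lit 1, nat_lit 1, nat_lit 2, nat_lit 3, nat_lit 2, nat_lit 3, nat_lit 0, nat_lit 0, nat_lit 0, nat_lit 1, nat_lit 0, nat_lit 3, nat_lit 2, nat_lit 3, nat_lit 2, nat_lit 2, nat_lit 1, nat_lit 2, nat_lit 3, nat_lit 0, nat_lit 3, nat_lit 2, nat_lit 3, nat_lit 2, nat_lit 2, nat_lit 1, nat_lit 1, nat_lit 1, nat_lit 2, nat_lit 3, nat_lit 2, nat_lit 3, nat_lit 0, nat_lit 0, nat_lit 0, nat_lit 1, nat_lit 0, nat_lit 3, nat_lit 2, nat_lit 3, nat_lit 2, nat_lit 2, nat_lit 1, nat_lit 2, nat_lit 3, nat_lit 0, nat_lit 3, nat_lit 2, nat_lit 3, nat_lit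 2, nat_lit 2, nat_lit 1, nat_lit 2, nat_lit 3, nat_lit 0, nat_lit 3, nat_lit 0, nat_lit 1, nat_lit 0, nat_lit 3, nat_lit 3, nat_lit 3, nat_lit 3, nat_lit 2, nat_lit 2, nat_lit 2, nat_lit 2, nat_lit 1, nat_lit 0, nat_lit 1, nat_lit 2, nat_lit 1, nat_lit 2, nat_lit 3, nat_lit 0, nat_lit 0, nat_lit 1, nat_lit 0, nat_lit 1, nat_lit 2, nat_lit 1, nat_lit 0, nat_lit 3, nat_lit 0, nat_lit 0, nat_lit 1, nat_lit 0, nat_lit 1, nat_lit 2, nat_lit 3, nat_lit 2, nat_lit 2, nat_lit 2, nat_lit 1, nat_lit 0, nat_lit 1, nat_lit 0, nat_lit 3, nat_lit 3, nat_lit 3, nat_lit 0, nat_lit 0, nat_lit 1, nat_lit 0, nat_lit 1, nat_lit 2, nat_lit 1, nat_lit 0, nat_lit 3, nat_lit 0, nat_lit 0, nat_lit 1, nat_lit 0, nat_lit 1, nat_lit 2, nat_lit 3, nat_lit 2, nat_lit 2, nat_lit 2, nat_lit 1, nat_lit 0, nat_lit 1, nat_lit 0, nat_lit 3, nat_lit 3, nat_lit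 2, nat_lit 3, nat_lit 0, nat_lit 3, nat_lit 0, nat_lit 1, nat_lit 0, nat_lit 3, nat_lit 3, nat_lit 3, nat_lit 3, nat_lit 2, nat_lit 2, nat_lit 2, nat_lit 2, nat_lit 1, nat_lit 0, nat_lit 1, nat_lit 2, nat_lit 1, nat_lit 2, nat_lit 2, nat_lit 3, nat_lit 0, nat_lit 3, nat_lit 0, nat_lit 1, nat_lit 0, nat_lit 3, nat_lit 3, nat_lit 3, nat_lit 3, nat_lit 2, nat_lit 2, nat_lit 2, nat_lit 2, nat_lit 1, nat_lit 0, nat_lit 1, nat_lit 2, nat_lit 1, nat_lit 2, nat_lit 2, nat_lit 3, nat_lit 0, nat_lit 3, nat_lit 0, nat_lit 1, nat_lit 0, nat_lit 3, nat_lit 3, nat_lit 3, nat_lit 3, nat_lit 2, nat_lit 2, nat_lit 2, nat_lit 2, nat_lit 1, nat_lit 0, nat_lit 1, nat_lit 2, nat_lit 1, nat_lit 2, nat_lit 3, nat_lit 0, nat_lit 0, nat_lit 1, nat_lit 0, nat_lit 1, nat_lit 2, nat_lit 1, nat_lit 0, nat_lit 3, nat_lit 0, nat_lit 0, nat_lit 1, nat_lit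 0, nat_lit 1, nat_lit 2, nat_lit 3, nat_lit 2, nat_lit 2, nat_lit 2, nat_lit 1, nat_lit 0, nat_lit 1, nat_lit 0, nat_lit 3, nat_lit 3, nat_lit 0, nat_lit 3, nat_lit 0, nat_lit 3, nat_lit 2, nat_lit 3, nat_lit 0, nat_lit 0, nat_lit 0, nat_lit 0, nat_lit 1, nat_lit 1, nat_lit 1, nat_lit 1, nat_lit 2, nat_lit 3, nat_lit 2, nat_lit 1, nat_lit 2, nat_lit 1, nat_lit 0, nat_lit 1, nat_lit 1, nat_lit 2, nat_lit 3, nat_lit 2, nat_lit 3, nat_lit 0, nat_lit 0, nat_lit 0, nat_lit 1, nat_lit 0, nat_lit 3, nat_lit 2, nat_lit 3, nat_lit 2, nat_lit 2, nat_lit 1, nat_lit 2, nat_lit 3, nat_lit 0, nat_lit 3, nat_lit 2, nat_lit 3, nat_lit 2, nat_lit 2, nat_lit 1, nat_lit 0, nat_lit 3, nat_lit 0, nat_lit 3, nat_lit 2, nat_lit 3, nat_lit 0, nat_lit 0, nat_lit 0, nat_lit 0, nat_lit 1, nat_lit 1, nat_lit 1, nat_lit 1, nat_lit 2, nat_lit 3, nat_lit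 2, nat_lit 1, nat_lit 2, nat_lit 1, nat_lit 0, nat_lit 3, nat_lit 0, nat_lit 0, nat_lit 1, nat_lit 0, nat_lit 1, nat_lit 2, nat_lit 1, nat_lit 0, nat_lit 3, nat_lit 0, nat_lit 0, nat_lit 1, nat_lit 0, nat_lit 1, nat_lit 2, nat_lit 3, nat_lit 2, nat_lit 2, nat_lit 2, nat_lit 1, nat_lit 0, nat_lit 1, nat_lit 0, nat_lit 3, nat_lit 3, nat_lit 0, nat_lit 3, nat_lit 0, nat_lit 3, nat_lit 2, nat_lit 3, nat_lit 0, nat_lit 0, nat_lit 0, nat_lit 0, nat_lit 1, nat_lit 1, nat_lit 1, nat_lit 1, nat_lit 2, nat_lit 3, nat_lit 2, nat_lit 1, nat_lit 2, nat_lit 1, nat_lit 0, nat_lit 0, nat_lit 3, nat_lit 0, nat_lit 3, nat_lit 2, nat_lit 3, nat_lit 0, nat_lit 0, nat_lit 0, nat_lit 0, nat_lit 1, nat_lit 1, nat_lit 1, nat_lit 1, nat_lit 2, nat_lit 3, nat_lit 2, nat_lit 1, nat_lit 2, nat_lit 1, nat_lit 0, nat_lit 1, nat_lit 1, nat_lit 2, nat_lit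 3, nat_lit 2, nat_lit 3, nat_lit 0, nat_lit 0, nat_lit 0, nat_lit 1, nat_lit 0, nat_lit 3, nat_lit 2, nat_lit 3, nat_lit 2, nat_lit 2, nat_lit 1, nat_lit 2, nat_lit 3, nat_lit 0, nat_lit 3, nat_lit 2, nat_lit 3, nat_lit 2, nat_lit 2, nat_lit 1, nat_lit 0, nat_lit 3, nat_lit 0, nat_lit 3, nat_lit 2, nat_lit 3, nat_lit 0, nat_lit 0, nat_lit 0, nat_lit 0, nat_lit 1, nat_lit 1, nat_lit 1, nat_lit 1, nat_lit 2, nat_lit 3, nat_lit 2, nat_lit 1, nat_lit 2, nat_lit 1, nat_lit 0, nat_lit 0, nat_lit 3, nat_lit 0, nat_lit 3, nat_lit 2, nat_lit 3, nat_lit 0, nat_lit 0, nat_lit 0, nat_lit 0, nat_lit 1, nat_lit 1, nat_lit 1, nat_lit 1, nat_lit 2, nat_lit 3, nat_lit 2, nat_lit 1, nat_lit 2, nat_lit 1, nat_lit 0, nat_lit 0, nat_lit 3, nat_lit 0, nat_lit 3, nat_lit 2, nat_lit 3, nat_lit 0, nat_lit 0, nat_lit 0, nat_lit 0, nat_lit 1, nat_lit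 1, nat_lit 1, nat_lit 1, nat_lit 2, nat_lit 3, nat_lit 2, nat_lit 1, nat_lit 2, nat_lit 1, nat_lit 0, nat_lit 3, nat_lit 0, nat_lit 0, nat_lit 1, nat_lit 0, nat_lit 1, nat_lit 2, nat_lit 1, nat_lit 0, nat_lit 3, nat_lit 0, nat_lit 0, nat_lit 1, nat_lit 0, nat_lit 1, nat_lit 2, nat_lit 3, nat_lit 2, nat_lit 2, nat_lit 2, nat_lit 1, nat_lit 0, nat_lit 1, nat_lit 0, nat_lit 3, nat_lit 3, nat_lit 2, nat_lit 3, nat_lit 0, nat_lit 3, nat_lit 0, nat_lit 1, nat_lit 0, nat_lit 3, nat_lit 3, nat_lit 3, nat_lit 3, nat_lit 2, nat_lit 2, nat_lit 2, nat_lit 2, nat_lit 1, nat_lit 0, nat_lit 1, nat_lit 2, nat_lit 1, nat_lit 2, nat_lit 3, nat_lit 0, nat_lit 0, nat_lit 1, nat_lit 0, nat_lit 1, nat_lit 2, nat_lit 1, nat_lit 0, nat_lit 3, nat_lit 0, nat_lit 0, nat_lit 1, nat_lit 0, nat_lit 1, nat_lit 2, nat_lit 3, nat_lit 2, nat_lit 2, nat_lit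 2, nat_lit 1, nat_lit 0, nat_lit 1, nat_lit 0, nat_lit 3, nat_lit 3, nat_lit 0, nat_lit 3, nat_lit 0, nat_lit 3, nat_lit 2, nat_lit 3, nat_lit 0, nat_lit 0, nat_lit 0, nat_lit 0, nat_lit 1, nat_lit 1, nat_lit 1, nat_lit 1, nat_lit 2, nat_lit 3, nat_lit 2, nat_lit 1, nat_lit 2, nat_lit 1, nat_lit 0, nat_lit 0, nat_lit 3, nat_lit 0, nat_lit 3, nat_lit 2, nat_lit 3, nat_lit 0, nat_lit 0, nat_lit 0, nat_lit 0, nat_lit 1, nat_lit 1, nat_lit 1, nat_lit 1, nat_lit 2, nat_lit 3, nat_lit 2, nat_lit 1, nat_lit 2, nat_lit 1, nat_lit 0, nat_lit 3, nat_lit 0, nat_lit 0, nat_lit 1, nat_lit 0, nat_lit 1, nat_lit 2, nat_lit 1, nat_lit 0, nat_lit 3, nat_lit 0, nat_lit 0, nat_lit 1, nat_lit 0, nat_lit 1, nat_lit 2, nat_lit 3, nat_lit 2, nat_lit 2, nat_lit 2, nat_lit 1, nat_lit 0, nat_lit 1, nat_lit 0, nat_lit 3, nat_lit 3, nat_lit 0, nat_lit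 3, nat_lit 0, nat_lit 3, nat_lit 2, nat_lit 3, nat_lit 0, nat_lit 0, nat_lit 0, nat_lit 0, nat_lit 1, nat_lit 1, nat_lit 1, nat_lit 1, nat_lit 2, nat_lit 3, nat_lit 2, nat_lit 1, nat_lit 2, nat_lit 1, nat_lit 0, nat_lit 1, nat_lit 1, nat_lit 2, nat_lit 3, nat_lit 2, nat_lit 3, nat_lit 0, nat_lit 0, nat_lit 0, nat_lit 1, nat_lit 0, nat_lit 3, nat_lit 2, nat_lit 3, nat_lit 2, nat_lit 2, nat_lit 1, nat_lit 2, nat_lit 3, nat_lit 0, nat_lit 3, nat_lit 2, nat_lit 3, nat_lit 2, nat_lit 2]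

/-- the generator 4 as a word in `c` (letter 0), `w` (1) and their inverses (2, 3) -/
def gW4 : List Nat := [nat_lit 0, nat_lit 0, nat_lit 1, nat_lit 0, nat_lit 1, nat_lit 2, nat_lit 1, nat_lit 0, nat_lit 3, nat_lit 0, nat_lit 0, nat_lit 1, nat_lit 0, nat_lit 1, nat_lit 2, nat_lit 3, nat_lit 2, nat_lit 2, nat_lit 2, nat_lit 1, nat_lit 0, nat_lit 1, nat_lit 0, nat_lit 3, nat_lit 3, nat_lit 2, nat_lit 3, nat_lit 0, nat_lit 3, nat_lit 0, nat_lit 1, nat_lit 0, nat_lit 3, nat_lit 3, nat_lit 3, nat_lit 3, nat_lit 2, nat_lit 2, nat_lit 2, nat_lit 2, nat_lit 1, nat_lit 0, nat_lit 1, nat_lit 2, nat_lit 1, nat_lit 2, nat_lit 1, nat_lit 1, nat_lit 2, nat_lit 3, nat_lit 2, nat_lit 3, nat_lit 0, nat_lit 0, nat_lit 0, nat_lit 1, nat_lit 0, nat_lit 3, nat_lit 2, nat_lit 3, nat_lit 2, nat_lit 2, nat_lit 1, nat_lit 2, nat_lit 3, nat_lit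 0, nat_lit 3, nat_lit 2, nat_lit 3, nat_lit 2, nat_lit 2, nat_lit 1, nat_lit 2, nat_lit 3, nat_lit 0, nat_lit 3, nat_lit 0, nat_lit 1, nat_lit 0, nat_lit 3, nat_lit 3, nat_lit 3, nat_lit 3, nat_lit 2, nat_lit 2, nat_lit 2, nat_lit 2, nat_lit 1, nat_lit 0, nat_lit 1, nat_lit 2, nat_lit 1, nat_lit 2, nat_lit 3, nat_lit 0, nat_lit 0, nat_lit 1, nat_lit 0, nat_lit 1, nat_lit 2, nat_lit 1, nat_lit 0, nat_lit 3, nat_lit 0, nat_lit 0, nat_lit 1, nat_lit 0, nat_lit 1, nat_lit 2, nat_lit 3, nat_lit 2, nat_lit 2, nat_lit 2, nat_lit 1, nat_lit 0, nat_lit 1, nat_lit 0, nat_lit 3, nat_lit 3, nat_lit 3, nat_lit 0, nat_lit 0, nat_lit 1, nat_lit 0, nat_lit 1, nat_lit 2, nat_lit 1, nat_lit 0, nat_lit 3, nat_lit 0, nat_lit 0, nat_lit 1, nat_lit 0, nat_lit 1, nat_lit 2, nat_lit 3, nat_lit 2, nat_lit 2, nat_lit 2, nat_lit 1, nat_lit 0, nat_lit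 1, nat_lit 0, nat_lit 3, nat_lit 3, nat_lit 0, nat_lit 3, nat_lit 0, nat_lit 3, nat_lit 2, nat_lit 3, nat_lit 0, nat_lit 0, nat_lit 0, nat_lit 0, nat_lit 1, nat_lit 1, nat_lit 1, nat_lit 1, nat_lit 2, nat_lit 3, nat_lit 2, nat_lit 1, nat_lit 2, nat_lit 1, nat_lit 0, nat_lit 3, nat_lit 0, nat_lit 0, nat_lit 1, nat_lit 0, nat_lit 1, nat_lit 2, nat_lit 1, nat_lit 0, nat_lit 3, nat_lit 0, nat_lit 0, nat_lit 1, nat_lit 0, nat_lit 1, nat_lit 2, nat_lit 3, nat_lit 2, nat_lit 2, nat_lit 2, nat_lit 1, nat_lit 0, nat_lit 1, nat_lit 0, nat_lit 3, nat_lit 3, nat_lit 3, nat_lit 0, nat_lit 0, nat_lit 1, nat_lit 0, nat_lit 1, nat_lit 2, nat_lit 1, nat_lit 0, nat_lit 3, nat_lit 0, nat_lit 0, nat_lit 1, nat_lit 0, nat_lit 1, nat_lit 2, nat_lit 3, nat_lit 2, nat_lit 2, nat_lit 2, nat_lit 1, nat_lit 0, nat_lit 1, nat_lit 0, nat_lit 3, nat_lit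 3, nat_lit 0, nat_lit 3, nat_lit 0, nat_lit 3, nat_lit 2, nat_lit 3, nat_lit 0, nat_lit 0, nat_lit 0, nat_lit 0, nat_lit 1, nat_lit 1, nat_lit 1, nat_lit 1, nat_lit 2, nat_lit 3, nat_lit 2, nat_lit 1, nat_lit 2, nat_lit 1, nat_lit 0, nat_lit 0, nat_lit 3, nat_lit 0, nat_lit 3, nat_lit 2, nat_lit 3, nat_lit 0, nat_lit 0, nat_lit 0, nat_lit 0, nat_lit 1, nat_lit 1, nat_lit 1, nat_lit 1, nat_lit 2, nat_lit 3, nat_lit 2, nat_lit 1, nat_lit 2, nat_lit 1, nat_lit 0, nat_lit 3, nat_lit 0, nat_lit 0, nat_lit 1, nat_lit 0, nat_lit 1, nat_lit 2, nat_lit 1, nat_lit 0, nat_lit 3, nat_lit 0, nat_lit 0, nat_lit 1, nat_lit 0, nat_lit 1, nat_lit 2, nat_lit 3, nat_lit 2, nat_lit 2, nat_lit 2, nat_lit 1, nat_lit 0, nat_lit 1, nat_lit 0, nat_lit 3, nat_lit 3, nat_lit 0, nat_lit 3, nat_lit 0, nat_lit 3, nat_lit 2, nat_lit 3, nat_lit 0, nat_lit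 0, nat_lit 0, nat_lit 0, nat_lit 1, nat_lit 1, nat_lit 1, nat_lit 1, nat_lit 2, nat_lit 3, nat_lit 2, nat_lit 1, nat_lit 2, nat_lit 1, nat_lit 0, nat_lit 3, nat_lit 0, nat_lit 0, nat_lit 1, nat_lit 0, nat_lit 1, nat_lit 2, nat_lit 1, nat_lit 0, nat_lit 3, nat_lit 0, nat_lit 0, nat_lit 1, nat_lit 0, nat_lit 1, nat_lit 2, nat_lit 3, nat_lit 2, nat_lit 2, nat_lit 2, nat_lit 1, nat_lit 0, nat_lit 1, nat_lit 0, nat_lit 3, nat_lit 3, nat_lit 0, nat_lit 3, nat_lit 0, nat_lit 3, nat_lit 2, nat_lit 3, nat_lit 0, nat_lit 0, nat_lit 0, nat_lit 0, nat_lit 1, nat_lit 1, nat_lit 1, nat_lit 1, nat_lit 2, nat_lit 3, nat_lit 2, nat_lit 1, nat_lit 2, nat_lit 1, nat_lit 0, nat_lit 1, nat_lit 1, nat_lit 2, nat_lit 3, nat_lit 2, nat_lit 3, nat_lit 0, nat_lit 0, nat_lit 0, nat_lit 1, nat_lit 0, nat_lit 3, nat_lit 2, nat_lit 3, nat_lit 2, nat_lit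 2, nat_lit 1, nat_lit 2, nat_lit 3, nat_lit 0, nat_lit 3, nat_lit 2, nat_lit 3, nat_lit 2, nat_lit 2, nat_lit 1, nat_lit 0, nat_lit 3, nat_lit 0, nat_lit 3, nat_lit 2, nat_lit 3, nat_lit 0, nat_lit 0, nat_lit 0, nat_lit 0, nat_lit 1, nat_lit 1, nat_lit 1, nat_lit 1, nat_lit 2, nat_lit 3, nat_lit 2, nat_lit 1, nat_lit 2, nat_lit 1, nat_lit 0, nat_lit 3, nat_lit 0, nat_lit 0, nat_lit 1, nat_lit 0, nat_lit 1, nat_lit 2, nat_lit 1, nat_lit 0, nat_lit 3, nat_lit 0, nat_lit 0, nat_lit 1, nat_lit 0, nat_lit 1, nat_lit 2, nat_lit 3, nat_lit 2, nat_lit 2, nat_lit 2, nat_lit 1, nat_lit 0, nat_lit 1, nat_lit 0, nat_lit 3, nat_lit 3, nat_lit 0, nat_lit 3, nat_lit 0, nat_lit 3, nat_lit 2, nat_lit 3, nat_lit 0, nat_lit 0, nat_lit 0, nat_lit 0, nat_lit 1, nat_lit 1, nat_lit 1, nat_lit 1, nat_lit 2, nat_lit 3, nat_lit 2, nat_lit 1, nat_lit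 2, nat_lit 1, nat_lit 0, nat_lit 0, nat_lit 3, nat_lit 0, nat_lit 3, nat_lit 2, nat_lit 3, nat_lit 0, nat_lit 0, nat_lit 0, nat_lit 0, nat_lit 1, nat_lit 1, nat_lit 1, nat_lit 1, nat_lit 2, nat_lit 3, nat_lit 2, nat_lit 1, nat_lit 2, nat_lit 1, nat_lit 0, nat_lit 1, nat_lit 1, nat_lit 2, nat_lit 3, nat_lit 2, nat_lit 3, nat_lit 0, nat_lit 0, nat_lit 0, nat_lit 1, nat_lit 0, nat_lit 3, nat_lit 2, nat_lit 3, nat_lit 2, nat_lit 2, nat_lit 1, nat_lit 2, nat_lit 3, nat_lit 0, nat_lit 3, nat_lit 2, nat_lit 3, nat_lit 2, nat_lit 2, nat_lit 1, nat_lit 0, nat_lit 3, nat_lit 0, nat_lit 3, nat_lit 2, nat_lit 3, nat_lit 0, nat_lit 0, nat_lit 0, nat_lit 0, nat_lit 1, nat_lit 1, nat_lit 1, nat_lit 1, nat_lit 2, nat_lit 3, nat_lit 2, nat_lit 1, nat_lit 2, nat_lit 1, nat_lit 0, nat_lit 0, nat_lit 3, nat_lit 0, nat_lit 3, nat_lit 2, nat_lit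 3, nat_lit 0, nat_lit 0, nat_lit 0, nat_lit 0, nat_lit 1, nat_lit 1, nat_lit 1, nat_lit 1, nat_lit 2, nat_lit 3, nat_lit 2, nat_lit 1, nat_lit 2, nat_lit 1, nat_lit 0, nat_lit 0, nat_lit 3, nat_lit 0, nat_lit 3, nat_lit 2, nat_lit 3, nat_lit 0, nat_lit 0, nat_lit 0, nat_lit 0, nat_lit 1, nat_lit 1, nat_lit 1, nat_lit 1, nat_lit 2, nat_lit 3, nat_lit 2, nat_lit 1, nat_lit 2, nat_lit 1, nat_lit 0, nat_lit 1, nat_lit 1, nat_lit 2, nat_lit 3, nat_lit 2, nat_lit 3, nat_lit 0, nat_lit 0, nat_lit 0, nat_lit 1, nat_lit 0, nat_lit 3, nat_lit 2, nat_lit 3, nat_lit 2, nat_lit 2, nat_lit 1, nat_lit 2, nat_lit 3, nat_lit 0, nat_lit 3, nat_lit 2, nat_lit 3, nat_lit 2, nat_lit 2, nat_lit 1, nat_lit 1, nat_lit 1, nat_lit 2, nat_lit 3, nat_lit 2, nat_lit 3, nat_lit 0, nat_lit 0, nat_lit 0, nat_lit 1, nat_lit 0, nat_lit 3, nat_lit 2, nat_lit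 3, nat_lit 2, nat_lit 2, nat_lit 1, nat_lit 2, nat_lit 3, nat_lit 0, nat_lit 3, nat_lit 2, nat_lit 3, nat_lit 2, nat_lit 2, nat_lit 1, nat_lit 2, nat_lit 3, nat_lit 0, nat_lit 3, nat_lit 0, nat_lit 1, nat_lit 0, nat_lit 3, nat_lit 3, nat_lit 3, nat_lit 3, nat_lit 2, nat_lit 2, nat_lit 2, nat_lit 2, nat_lit 1, nat_lit 0, nat_lit 1, nat_lit 2, nat_lit 1, nat_lit 2, nat_lit 3, nat_lit 0, nat_lit 0, nat_lit 1, nat_lit 0, nat_lit 1, nat_lit 2, nat_lit 1, nat_lit 0, nat_lit 3, nat_lit 0, nat_lit 0, nat_lit 1, nat_lit 0, nat_lit 1, nat_lit 2, nat_lit 3, nat_lit 2, nat_lit 2, nat_lit 2, nat_lit 1, nat_lit 0, nat_lit 1, nat_lit 0, nat_lit 3, nat_lit 3, nat_lit 3, nat_lit 0, nat_lit 0, nat_lit 1, nat_lit 0, nat_lit 1, nat_lit 2, nat_lit 1, nat_lit 0, nat_lit 3, nat_lit 0, nat_lit 0, nat_lit 1, nat_lit 0, nat_lit 1, nat_lit 2, nat_lit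 3, nat_lit 2, nat_lit 2, nat_lit 2, nat_lit 1, nat_lit 0, nat_lit 1, nat_lit 0, nat_lit 3, nat_lit 3, nat_lit 2, nat_lit 3, nat_lit 0, nat_lit 3, nat_lit 0, nat_lit 1, nat_lit 0, nat_lit 3, nat_lit 3, nat_lit 3, nat_lit 3, nat_lit 2, nat_lit 2, nat_lit 2, nat_lit 2, nat_lit 1, nat_lit 0, nat_lit 1, nat_lit 2, nat_lit 1, nat_lit 2, nat_lit 1, nat_lit 1, nat_lit 2, nat_lit 3, nat_lit 2, nat_lit 3, nat_lit 0, nat_lit 0, nat_lit 0, nat_lit 1, nat_lit 0, nat_lit 3, nat_lit 2, nat_lit 3, nat_lit 2, nat_lit 2, nat_lit 1, nat_lit 2, nat_lit 3, nat_lit 0, nat_lit 3, nat_lit 2, nat_lit 3, nat_lit 2, nat_lit 2, nat_lit 1, nat_lit 1, nat_lit 1, nat_lit 2, nat_lit 3, nat_lit 2, nat_lit 3, nat_lit 0, nat_lit 0, nat_lit 0, nat_lit 1, nat_lit 0, nat_lit 3, nat_lit 2, nat_lit 3, nat_lit 2, nat_lit 2, nat_lit 1, nat_lit 2, nat_lit 3, nat_lit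 0, nat_lit 3, nat_lit 2, nat_lit 3, nat_lit 2, nat_lit 2, nat_lit 1, nat_lit 1, nat_lit 1, nat_lit 2, nat_lit 3, nat_lit 2, nat_lit 3, nat_lit 0, nat_lit 0, nat_lit 0, nat_lit 1, nat_lit 0, nat_lit 3, nat_lit 2, nat_lit 3, nat_lit 2, nat_lit 2, nat_lit 1, nat_lit 2, nat_lit 3, nat_lit 0, nat_lit 3, nat_lit 2, nat_lit 3, nat_lit 2, nat_lit 2, nat_lit 1, nat_lit 0, nat_lit 3, nat_lit 0, nat_lit 3, nat_lit 2, nat_lit 3, nat_lit 0, nat_lit 0, nat_lit 0, nat_lit 0, nat_lit 1, nat_lit 1, nat_lit 1, nat_lit 1, nat_lit 2, nat_lit 3, nat_lit 2, nat_lit 1, nat_lit 2, nat_lit 1, nat_lit 0, nat_lit 0, nat_lit 3, nat_lit 0, nat_lit 3, nat_lit 2, nat_lit 3, nat_lit 0, nat_lit 0, nat_lit 0, nat_lit 0, nat_lit 1, nat_lit 1, nat_lit 1, nat_lit 1, nat_lit 2, nat_lit 3, nat_lit 2, nat_lit 1, nat_lit 2, nat_lit 1, nat_lit 0, nat_lit 3, nat_lit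 0, nat_lit 0, nat_lit 1, nat_lit 0, nat_lit 1, nat_lit 2, nat_lit 1, nat_lit 0, nat_lit 3, nat_lit 0, nat_lit 0, nat_lit 1, nat_lit 0, nat_lit 1, nat_lit 2, nat_lit 3, nat_lit 2, nat_lit 2, nat_lit 2, nat_lit 1, nat_lit 0, nat_lit 1, nat_lit 0, nat_lit 3, nat_lit 3, nat_lit 0, nat_lit 3, nat_lit 0, nat_lit 3, nat_lit 2, nat_lit 3, nat_lit 0, nat_lit 0, nat_lit 0, nat_lit 0, nat_lit 1, nat_lit 1, nat_lit 1, nat_lit 1, nat_lit 2, nat_lit 3, nat_lit 2, nat_lit 1, nat_lit 2, nat_lit 1, nat_lit 0, nat_lit 1, nat_lit 1, nat_lit 2, nat_lit 3, nat_lit 2, nat_lit 3, nat_lit 0, nat_lit 0, nat_lit 0, nat_lit 1, nat_lit 0, nat_lit 3, nat_lit 2, nat_lit 3, nat_lit 2, nat_lit 2, nat_lit 1, nat_lit 2, nat_lit 3, nat_lit 0, nat_lit 3, nat_lit 2, nat_lit 3, nat_lit 2, nat_lit 2, nat_lit 1, nat_lit 0, nat_lit 3, nat_lit 0, nat_lit 3, nat_lit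 2, nat_lit 3, nat_lit 0, nat_lit 0, nat_lit 0, nat_lit 0, nat_lit 1, nat_lit 1, nat_lit 1, nat_lit 1, nat_lit 2, nat_lit 3, nat_lit 2, nat_lit 1, nat_lit 2, nat_lit 1, nat_lit 0, nat_lit 3, nat_lit 0, nat_lit 0, nat_lit 1, nat_lit 0, nat_lit 1, nat_lit 2, nat_lit 1, nat_lit 0, nat_lit 3, nat_lit 0, nat_lit 0, nat_lit 1, nat_lit 0, nat_lit 1, nat_lit 2, nat_lit 3, nat_lit 2, nat_lit 2, nat_lit 2, nat_lit 1, nat_lit 0, nat_lit 1, nat_lit 0, nat_lit 3, nat_lit 3, nat_lit 3, nat_lit 0, nat_lit 0, nat_lit 1, nat_lit 0, nat_lit 1, nat_lit 2, nat_lit 1, nat_lit 0, nat_lit 3, nat_lit 0, nat_lit 0, nat_lit 1, nat_lit 0, nat_lit 1, nat_lit 2, nat_lit 3, nat_lit 2, nat_lit 2, nat_lit 2, nat_lit 1, nat_lit 0, nat_lit 1, nat_lit 0, nat_lit 3, nat_lit 3, nat_lit 2, nat_lit 3, nat_lit 0, nat_lit 3, nat_lit 0, nat_lit 1, nat_lit 0, nat_lit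 3, nat_lit 3, nat_lit 3, nat_lit 3, nat_lit 2, nat_lit 2, nat_lit 2, nat_lit 2, nat_lit 1, nat_lit 0, nat_lit 1, nat_lit 2, nat_lit 1, nat_lit 2, nat_lit 3, nat_lit 0, nat_lit 0, nat_lit 1, nat_lit 0, nat_lit 1, nat_lit 2, nat_lit 1, nat_lit 0, nat_lit 3, nat_lit 0, nat_lit 0, nat_lit 1, nat_lit 0, nat_lit 1, nat_lit 2, nat_lit 3, nat_lit 2, nat_lit 2, nat_lit 2, nat_lit 1, nat_lit 0, nat_lit 1, nat_lit 0, nat_lit 3, nat_lit 3, nat_lit 3, nat_lit 0, nat_lit 0, nat_lit 1, nat_lit 0, nat_lit 1, nat_lit 2, nat_lit 1, nat_lit 0, nat_lit 3, nat_lit 0, nat_lit 0, nat_lit 1, nat_lit 0, nat_lit 1, nat_lit 2, nat_lit 3, nat_lit 2, nat_lit 2, nat_lit 2, nat_lit 1, nat_lit 0, nat_lit 1, nat_lit 0, nat_lit 3, nat_lit 3, nat_lit 2, nat_lit 3, nat_lit 0, nat_lit 3, nat_lit 0, nat_lit 1, nat_lit 0, nat_lit 3, nat_lit 3, nat_lit 3, nat_lit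 3, nat_lit 2, nat_lit 2, nat_lit 2, nat_lit 2, nat_lit 1, nat_lit 0, nat_lit 1, nat_lit 2, nat_lit 1, nat_lit 2, nat_lit 1, nat_lit 1, nat_lit 2, nat_lit 3, nat_lit 2, nat_lit 3, nat_lit 0, nat_lit 0, nat_lit 0, nat_lit 1, nat_lit 0, nat_lit 3, nat_lit 2, nat_lit 3, nat_lit 2, nat_lit 2, nat_lit 1, nat_lit 2, nat_lit 3, nat_lit 0, nat_lit 3, nat_lit 2, nat_lit 3, nat_lit 2, nat_lit 2, nat_lit 1, nat_lit 2, nat_lit 3, nat_lit 0, nat_lit 3, nat_lit 0, nat_lit 1, nat_lit 0, nat_lit 3, nat_lit 3, nat_lit 3, nat_lit 3, nat_lit 2, nat_lit 2, nat_lit 2, nat_lit 2, nat_lit 1, nat_lit 0, nat_lit 1, nat_lit 2, nat_lit 1, nat_lit 2, nat_lit 1, nat_lit 1, nat_lit 2, nat_lit 3, nat_lit 2, nat_lit 3, nat_lit 0, nat_lit 0, nat_lit 0, nat_lit 1, nat_lit 0, nat_lit 3, nat_lit 2, nat_lit 3, nat_lit 2, nat_lit 2, nat_lit 1, nat_lit 2, nat_lit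 3, nat_lit 0, nat_lit 3, nat_lit 2, nat_lit 3, nat_lit 2, nat_lit 2, nat_lit 1, nat_lit 0, nat_lit 3, nat_lit 0, nat_lit 3, nat_lit 2, nat_lit 3, nat_lit 0, nat_lit 0, nat_lit 0, nat_lit 0, nat_lit 1, nat_lit 1, nat_lit 1, nat_lit 1, nat_lit 2, nat_lit 3, nat_lit 2, nat_lit 1, nat_lit 2, nat_lit 1, nat_lit 0, nat_lit 3, nat_lit 0, nat_lit 0, nat_lit 1, nat_lit 0, nat_lit 1, nat_lit 2, nat_lit 1, nat_lit 0, nat_lit 3, nat_lit 0, nat_lit 0, nat_lit 1, nat_lit 0, nat_lit 1, nat_lit 2, nat_lit 3, nat_lit 2, nat_lit 2, nat_lit 2, nat_lit 1, nat_lit 0, nat_lit 1, nat_lit 0, nat_lit 3, nat_lit 3, nat_lit 3, nat_lit 0, nat_lit 0, nat_lit 1, nat_lit 0, nat_lit 1, nat_lit 2, nat_lit 1, nat_lit 0, nat_lit 3, nat_lit 0, nat_lit 0, nat_lit 1, nat_lit 0, nat_lit 1, nat_lit 2, nat_lit 3, nat_lit 2, nat_lit 2, nat_lit 2, nat_lit 1, nat_lit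 0, nat_lit 1, nat_lit 0, nat_lit 3, nat_lit 3, nat_lit 3, nat_lit 0, nat_lit 0, nat_lit 1, nat_lit 0, nat_lit 1, nat_lit 2, nat_lit 1, nat_lit 0, nat_lit 3, nat_lit 0, nat_lit 0, nat_lit 1, nat_lit 0, nat_lit 1, nat_lit 2, nat_lit 3, nat_lit 2, nat_lit 2, nat_lit 2, nat_lit 1, nat_lit 0, nat_lit 1, nat_lit 0, nat_lit 3, nat_lit 3, nat_lit 3]

/-- the generator 5 as a word in `c` (letter 0), `w` (1) and their inverses (2, 3) -/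
def gW5 : List Nat := [nat_lit 1, nat_lit 0, nat_lit 3, nat_lit 0, nat_lit 3, nat_lit 2, nat_lit 3, nat_lit 0, nat_lit 0, nat_lit 0, nat_lit 0, nat_lit 1, nat_lit 1, nat_lit 1, nat_lit 1, nat_lit 2, nat_lit 3, nat_lit 2, nat_lit 1, nat_lit 2, nat_lit 1, nat_lit 0, nat_lit 0, nat_lit 3, nat_lit 0, nat_lit 3, nat_lit 2, nat_lit 3, nat_lit 0, nat_lit 0, nat_lit 0, nat_lit 0, nat_lit 1, nat_lit 1, nat_lit 1, nat_lit 1, nat_lit 2, nat_lit 3, nat_lit 2, nat_lit 1, nat_lit 2, nat_lit 1, nat_lit 0, nat_lit 3, nat_lit 0, nat_lit 0, nat_lit 1, nat_lit 0, nat_lit 1, nat_lit 2, nat_lit 1, nat_lit 0, nat_lit 3, nat_lit 0, nat_lit 0, nat_lit 1, nat_lit 0, nat_lit 1, nat_lit 2, nat_lit 3, nat_lit 2, nat_lit 2, nat_lit 2, nat_lit 1, nat_lit 0, nat_lit 1, nat_lit 0, nat_lit 3, nat_lit 3, nat_lit 0, nat_lit 3, nat_lit 0, nat_lit 3, nat_lit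 2, nat_lit 3, nat_lit 0, nat_lit 0, nat_lit 0, nat_lit 0, nat_lit 1, nat_lit 1, nat_lit 1, nat_lit 1, nat_lit 2, nat_lit 3, nat_lit 2, nat_lit 1, nat_lit 2, nat_lit 1, nat_lit 0, nat_lit 3, nat_lit 0, nat_lit 0, nat_lit 1, nat_lit 0, nat_lit 1, nat_lit 2, nat_lit 1, nat_lit 0, nat_lit 3, nat_lit 0, nat_lit 0, nat_lit 1, nat_lit 0, nat_lit 1, nat_lit 2, nat_lit 3, nat_lit 2, nat_lit 2, nat_lit 2, nat_lit 1, nat_lit 0, nat_lit 1, nat_lit 0, nat_lit 3, nat_lit 3, nat_lit 0, nat_lit 3, nat_lit 0, nat_lit 3, nat_lit 2, nat_lit 3, nat_lit 0, nat_lit 0, nat_lit 0, nat_lit 0, nat_lit 1, nat_lit 1, nat_lit 1, nat_lit 1, nat_lit 2, nat_lit 3, nat_lit 2, nat_lit 1, nat_lit 2, nat_lit 1, nat_lit 0, nat_lit 1, nat_lit 1, nat_lit 2, nat_lit 3, nat_lit 2, nat_lit 3, nat_lit 0, nat_lit 0, nat_lit 0, nat_lit 1, nat_lit 0, nat_lit 3, nat_lit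 2, nat_lit 3, nat_lit 2, nat_lit 2, nat_lit 1, nat_lit 2, nat_lit 3, nat_lit 0, nat_lit 3, nat_lit 2, nat_lit 3, nat_lit 2, nat_lit 2, nat_lit 1, nat_lit 0, nat_lit 3, nat_lit 0, nat_lit 3, nat_lit 2, nat_lit 3, nat_lit 0, nat_lit 0, nat_lit 0, nat_lit 0, nat_lit 1, nat_lit 1, nat_lit 1, nat_lit 1, nat_lit 2, nat_lit 3, nat_lit 2, nat_lit 1, nat_lit 2, nat_lit 1, nat_lit 0, nat_lit 3, nat_lit 0, nat_lit 0, nat_lit 1, nat_lit 0, nat_lit 1, nat_lit 2, nat_lit 1, nat_lit 0, nat_lit 3, nat_lit 0, nat_lit 0, nat_lit 1, nat_lit 0, nat_lit 1, nat_lit 2, nat_lit 3, nat_lit 2, nat_lit 2, nat_lit 2, nat_lit 1, nat_lit 0, nat_lit 1, nat_lit 0, nat_lit 3, nat_lit 3, nat_lit 0, nat_lit 3, nat_lit 0, nat_lit 3, nat_lit 2, nat_lit 3, nat_lit 0, nat_lit 0, nat_lit 0, nat_lit 0, nat_lit 1, nat_lit 1, nat_lit 1, nat_lit 1, nat_lit 2, nat_lit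 3, nat_lit 2, nat_lit 1, nat_lit 2, nat_lit 1, nat_lit 0, nat_lit 0, nat_lit 3, nat_lit 0, nat_lit 3, nat_lit 2, nat_lit 3, nat_lit 0, nat_lit 0, nat_lit 0, nat_lit 0, nat_lit 1, nat_lit 1, nat_lit 1, nat_lit 1, nat_lit 2, nat_lit 3, nat_lit 2, nat_lit 1, nat_lit 2, nat_lit 1, nat_lit 0, nat_lit 1, nat_lit 1, nat_lit 2, nat_lit 3, nat_lit 2, nat_lit 3, nat_lit 0, nat_lit 0, nat_lit 0, nat_lit 1, nat_lit 0, nat_lit 3, nat_lit 2, nat_lit 3, nat_lit 2, nat_lit 2, nat_lit 1, nat_lit 2, nat_lit 3, nat_lit 0, nat_lit 3, nat_lit 2, nat_lit 3, nat_lit 2, nat_lit 2, nat_lit 1, nat_lit 0, nat_lit 3, nat_lit 0, nat_lit 3, nat_lit 2, nat_lit 3, nat_lit 0, nat_lit 0, nat_lit 0, nat_lit 0, nat_lit 1, nat_lit 1, nat_lit 1, nat_lit 1, nat_lit 2, nat_lit 3, nat_lit 2, nat_lit 1, nat_lit 2, nat_lit 1, nat_lit 0, nat_lit 0, nat_lit 3, nat_lit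 0, nat_lit 3, nat_lit 2, nat_lit 3, nat_lit 0, nat_lit 0, nat_lit 0, nat_lit 0, nat_lit 1, nat_lit 1, nat_lit 1, nat_lit 1, nat_lit 2, nat_lit 3, nat_lit 2, nat_lit 1, nat_lit 2, nat_lit 1, nat_lit 0, nat_lit 0, nat_lit 3, nat_lit 0, nat_lit 3, nat_lit 2, nat_lit 3, nat_lit 0, nat_lit 0, nat_lit 0, nat_lit 0, nat_lit 1, nat_lit 1, nat_lit 1, nat_lit 1, nat_lit 2, nat_lit 3, nat_lit 2, nat_lit 1, nat_lit 2, nat_lit 1, nat_lit 0, nat_lit 1, nat_lit 1, nat_lit 2, nat_lit 3, nat_lit 2, nat_lit 3, nat_lit 0, nat_lit 0, nat_lit 0, nat_lit 1, nat_lit 0, nat_lit 3, nat_lit 2, nat_lit 3, nat_lit 2, nat_lit 2, nat_lit 1, nat_lit 2, nat_lit 3, nat_lit 0, nat_lit 3, nat_lit 2, nat_lit 3, nat_lit 2, nat_lit 2, nat_lit 1, nat_lit 1, nat_lit 1, nat_lit 2, nat_lit 3, nat_lit 2, nat_lit 3, nat_lit 0, nat_lit 0, nat_lit 0, nat_lit 1, nat_lit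 0, nat_lit 3, nat_lit 2, nat_lit 3, nat_lit 2, nat_lit 2, nat_lit 1, nat_lit 2, nat_lit 3, nat_lit 0, nat_lit 3, nat_lit 2, nat_lit 3, nat_lit 2, nat_lit 2, nat_lit 1, nat_lit 2, nat_lit 3, nat_lit 0, nat_lit 3, nat_lit 0, nat_lit 1, nat_lit 0, nat_lit 3, nat_lit 3, nat_lit 3, nat_lit 3, nat_lit 2, nat_lit 2, nat_lit 2, nat_lit 2, nat_lit 1, nat_lit 0, nat_lit 1, nat_lit 2, nat_lit 1, nat_lit 2, nat_lit 3, nat_lit 0, nat_lit 0, nat_lit 1, nat_lit 0, nat_lit 1, nat_lit 2, nat_lit 1, nat_lit 0, nat_lit 3, nat_lit 0, nat_lit 0, nat_lit 1, nat_lit 0, nat_lit 1, nat_lit 2, nat_lit 3, nat_lit 2, nat_lit 2, nat_lit 2, nat_lit 1, nat_lit 0, nat_lit 1, nat_lit 0, nat_lit 3, nat_lit 3, nat_lit 3, nat_lit 0, nat_lit 0, nat_lit 1, nat_lit 0, nat_lit 1, nat_lit 2, nat_lit 1, nat_lit 0, nat_lit 3, nat_lit 0, nat_lit 0, nat_lit 1, nat_lit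 0, nat_lit 1, nat_lit 2, nat_lit 3, nat_lit 2, nat_lit 2, nat_lit 2, nat_lit 1, nat_lit 0, nat_lit 1, nat_lit 0, nat_lit 3, nat_lit 3, nat_lit 2, nat_lit 3, nat_lit 0, nat_lit 3, nat_lit 0, nat_lit 1, nat_lit 0, nat_lit 3, nat_lit 3, nat_lit 3, nat_lit 3, nat_lit 2, nat_lit 2, nat_lit 2, nat_lit 2, nat_lit 1, nat_lit 0, nat_lit 1, nat_lit 2, nat_lit 1, nat_lit 2, nat_lit 1, nat_lit 1, nat_lit 2, nat_lit 3, nat_lit 2, nat_lit 3, nat_lit 0, nat_lit 0, nat_lit 0, nat_lit 1, nat_lit 0, nat_lit 3, nat_lit 2, nat_lit 3, nat_lit 2, nat_lit 2, nat_lit 1, nat_lit 2, nat_lit 3, nat_lit 0, nat_lit 3, nat_lit 2, nat_lit 3, nat_lit 2, nat_lit 2, nat_lit 1, nat_lit 0, nat_lit 3, nat_lit 0, nat_lit 3, nat_lit 2, nat_lit 3, nat_lit 0, nat_lit 0, nat_lit 0, nat_lit 0, nat_lit 1, nat_lit 1, nat_lit 1, nat_lit 1, nat_lit 2, nat_lit 3, nat_lit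 2, nat_lit 1, nat_lit 2, nat_lit 1, nat_lit 0, nat_lit 3, nat_lit 0, nat_lit 0, nat_lit 1, nat_lit 0, nat_lit 1, nat_lit 2, nat_lit 1, nat_lit 0, nat_lit 3, nat_lit 0, nat_lit 0, nat_lit 1, nat_lit 0, nat_lit 1, nat_lit 2, nat_lit 3, nat_lit 2, nat_lit 2, nat_lit 2, nat_lit 1, nat_lit 0, nat_lit 1, nat_lit 0, nat_lit 3, nat_lit 3, nat_lit 0, nat_lit 3, nat_lit 0, nat_lit 3, nat_lit 2, nat_lit 3, nat_lit 0, nat_lit 0, nat_lit 0, nat_lit 0, nat_lit 1, nat_lit 1, nat_lit 1, nat_lit 1, nat_lit 2, nat_lit 3, nat_lit 2, nat_lit 1, nat_lit 2, nat_lit 1, nat_lit 0, nat_lit 0, nat_lit 3, nat_lit 0, nat_lit 3, nat_lit 2, nat_lit 3, nat_lit 0, nat_lit 0, nat_lit 0, nat_lit 0, nat_lit 1, nat_lit 1, nat_lit 1, nat_lit 1, nat_lit 2, nat_lit 3, nat_lit 2, nat_lit 1, nat_lit 2, nat_lit 1, nat_lit 0, nat_lit 3, nat_lit 0, nat_lit 0, nat_lit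 1, nat_lit 0, nat_lit 1, nat_lit 2, nat_lit 1, nat_lit 0, nat_lit 3, nat_lit 0, nat_lit 0, nat_lit 1, nat_lit 0, nat_lit 1, nat_lit 2, nat_lit 3, nat_lit 2, nat_lit 2, nat_lit 2, nat_lit 1, nat_lit 0, nat_lit 1, nat_lit 0, nat_lit 3, nat_lit 3, nat_lit 3, nat_lit 0, nat_lit 0, nat_lit 1, nat_lit 0, nat_lit 1, nat_lit 2, nat_lit 1, nat_lit 0, nat_lit 3, nat_lit 0, nat_lit 0, nat_lit 1, nat_lit 0, nat_lit 1, nat_lit 2, nat_lit 3, nat_lit 2, nat_lit 2, nat_lit 2, nat_lit 1, nat_lit 0, nat_lit 1, nat_lit 0, nat_lit 3, nat_lit 3, nat_lit 0, nat_lit 3, nat_lit 0, nat_lit 3, nat_lit 2, nat_lit 3, nat_lit 0, nat_lit 0, nat_lit 0, nat_lit 0, nat_lit 1, nat_lit 1, nat_lit 1, nat_lit 1, nat_lit 2, nat_lit 3, nat_lit 2, nat_lit 1, nat_lit 2, nat_lit 1, nat_lit 0, nat_lit 0, nat_lit 3, nat_lit 0, nat_lit 3, nat_lit 2, nat_lit 3, nat_lit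 0, nat_lit 0, nat_lit 0, nat_lit 0, nat_lit 1, nat_lit 1, nat_lit 1, nat_lit 1, nat_lit 2, nat_lit 3, nat_lit 2, nat_lit 1, nat_lit 2, nat_lit 1, nat_lit 0, nat_lit 3, nat_lit 0, nat_lit 0, nat_lit 1, nat_lit 0, nat_lit 1, nat_lit 2, nat_lit 1, nat_lit 0, nat_lit 3, nat_lit 0, nat_lit 0, nat_lit 1, nat_lit 0, nat_lit 1, nat_lit 2, nat_lit 3, nat_lit 2, nat_lit 2, nat_lit 2, nat_lit 1, nat_lit 0, nat_lit 1, nat_lit 0, nat_lit 3, nat_lit 3, nat_lit 0, nat_lit 3, nat_lit 0, nat_lit 3, nat_lit 2, nat_lit 3, nat_lit 0, nat_lit 0, nat_lit 0, nat_lit 0, nat_lit 1, nat_lit 1, nat_lit 1, nat_lit 1, nat_lit 2, nat_lit 3, nat_lit 2, nat_lit 1, nat_lit 2, nat_lit 1, nat_lit 0, nat_lit 3, nat_lit 0, nat_lit 0, nat_lit 1, nat_lit 0, nat_lit 1, nat_lit 2, nat_lit 1, nat_lit 0, nat_lit 3, nat_lit 0, nat_lit 0, nat_lit 1, nat_lit 0, nat_lit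 1, nat_lit 2, nat_lit 3, nat_lit 2, nat_lit 2, nat_lit 2, nat_lit 1, nat_lit 0, nat_lit 1, nat_lit 0, nat_lit 3, nat_lit 3, nat_lit 0, nat_lit 3, nat_lit 0, nat_lit 3, nat_lit 2, nat_lit 3, nat_lit 0, nat_lit 0, nat_lit 0, nat_lit 0, nat_lit 1, nat_lit 1, nat_lit 1, nat_lit 1, nat_lit 2, nat_lit 3, nat_lit 2, nat_lit 1, nat_lit 2, nat_lit 1, nat_lit 0, nat_lit 3, nat_lit 0, nat_lit 0, nat_lit 1, nat_lit 0, nat_lit 1, nat_lit 2, nat_lit 1, nat_lit 0, nat_lit 3, nat_lit 0, nat_lit 0, nat_lit 1, nat_lit 0, nat_lit 1, nat_lit 2, nat_lit 3, nat_lit 2, nat_lit 2, nat_lit 2, nat_lit 1, nat_lit 0, nat_lit 1, nat_lit 0, nat_lit 3, nat_lit 3, nat_lit 0, nat_lit 3, nat_lit 0, nat_lit 3, nat_lit 2, nat_lit 3, nat_lit 0, nat_lit 0, nat_lit 0, nat_lit 0, nat_lit 1, nat_lit 1, nat_lit 1, nat_lit 1, nat_lit 2, nat_lit 3, nat_lit 2, nat_lit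 1, nat_lit 2, nat_lit 1, nat_lit 0, nat_lit 3, nat_lit 0, nat_lit 0, nat_lit 1, nat_lit 0, nat_lit 1, nat_lit 2, nat_lit 1, nat_lit 0, nat_lit 3, nat_lit 0, nat_lit 0, nat_lit 1, nat_lit 0, nat_lit 1, nat_lit 2, nat_lit 3, nat_lit 2, nat_lit 2, nat_lit 2, nat_lit 1, nat_lit 0, nat_lit 1, nat_lit 0, nat_lit 3, nat_lit 3, nat_lit 3, nat_lit 0, nat_lit 0, nat_lit 1, nat_lit 0, nat_lit 1, nat_lit 2, nat_lit 1, nat_lit 0, nat_lit 3, nat_lit 0, nat_lit 0, nat_lit 1, nat_lit 0, nat_lit 1, nat_lit 2, nat_lit 3, nat_lit 2, nat_lit 2, nat_lit 2, nat_lit 1, nat_lit 0, nat_lit 1, nat_lit 0, nat_lit 3, nat_lit 3, nat_lit 3, nat_lit 0, nat_lit 0, nat_lit 1, nat_lit 0, nat_lit 1, nat_lit 2, nat_lit 1, nat_lit 0, nat_lit 3, nat_lit 0, nat_lit 0, nat_lit 1, nat_lit 0, nat_lit 1, nat_lit 2, nat_lit 3, nat_lit 2, nat_lit 2, nat_lit 2, nat_lit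 1, nat_lit 0, nat_lit 1, nat_lit 0, nat_lit 3, nat_lit 3, nat_lit 0, nat_lit 3, nat_lit 0, nat_lit 3, nat_lit 2, nat_lit 3, nat_lit 0, nat_lit 0, nat_lit 0, nat_lit 0, nat_lit 1, nat_lit 1, nat_lit 1, nat_lit 1, nat_lit 2, nat_lit 3, nat_lit 2, nat_lit 1, nat_lit 2, nat_lit 1, nat_lit 0, nat_lit 3, nat_lit 0, nat_lit 0, nat_lit 1, nat_lit 0, nat_lit 1, nat_lit 2, nat_lit 1, nat_lit 0, nat_lit 3, nat_lit 0, nat_lit 0, nat_lit 1, nat_lit 0, nat_lit 1, nat_lit 2, nat_lit 3, nat_lit 2, nat_lit 2, nat_lit 2, nat_lit 1, nat_lit 0, nat_lit 1, nat_lit 0, nat_lit 3, nat_lit 3, nat_lit 2, nat_lit 3, nat_lit 0, nat_lit 3, nat_lit 0, nat_lit 1, nat_lit 0, nat_lit 3, nat_lit 3, nat_lit 3, nat_lit 3, nat_lit 2, nat_lit 2, nat_lit 2, nat_lit 2, nat_lit 1, nat_lit 0, nat_lit 1, nat_lit 2, nat_lit 1, nat_lit 2, nat_lit 1, nat_lit 1, nat_lit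 2, nat_lit 3, nat_lit 2, nat_lit 3, nat_lit 0, nat_lit 0, nat_lit 0, nat_lit 1, nat_lit 0, nat_lit 3, nat_lit 2, nat_lit 3, nat_lit 2, nat_lit 2, nat_lit 1, nat_lit 2, nat_lit 3, nat_lit 0, nat_lit 3, nat_lit 2, nat_lit 3, nat_lit 2, nat_lit 2, nat_lit 1, nat_lit 0, nat_lit 3, nat_lit 0, nat_lit 3, nat_lit 2, nat_lit 3, nat_lit 0, nat_lit 0, nat_lit 0, nat_lit 0, nat_lit 1, nat_lit 1, nat_lit 1, nat_lit 1, nat_lit 2, nat_lit 3, nat_lit 2, nat_lit 1, nat_lit 2, nat_lit 1, nat_lit 0, nat_lit 3, nat_lit 0, nat_lit 0, nat_lit 1, nat_lit 0, nat_lit 1, nat_lit 2, nat_lit 1, nat_lit 0, nat_lit 3, nat_lit 0, nat_lit 0, nat_lit 1, nat_lit 0, nat_lit 1, nat_lit 2, nat_lit 3, nat_lit 2, nat_lit 2, nat_lit 2, nat_lit 1, nat_lit 0, nat_lit 1, nat_lit 0, nat_lit 3, nat_lit 3, nat_lit 0, nat_lit 3, nat_lit 0, nat_lit 3, nat_lit 2, nat_lit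 3, nat_lit 0, nat_lit 0, nat_lit 0, nat_lit 0, nat_lit 1, nat_lit 1, nat_lit 1, nat_lit 1, nat_lit 2, nat_lit 3, nat_lit 2, nat_lit 1, nat_lit 2, nat_lit 1, nat_lit 0, nat_lit 0, nat_lit 3, nat_lit 0, nat_lit 3, nat_lit 2, nat_lit 3, nat_lit 0, nat_lit 0, nat_lit 0, nat_lit 0, nat_lit 1, nat_lit 1, nat_lit 1, nat_lit 1, nat_lit 2, nat_lit 3, nat_lit 2, nat_lit 1, nat_lit 2, nat_lit 1, nat_lit 0, nat_lit 3, nat_lit 0, nat_lit 0, nat_lit 1, nat_lit 0, nat_lit 1, nat_lit 2, nat_lit 1, nat_lit 0, nat_lit 3, nat_lit 0, nat_lit 0, nat_lit 1, nat_lit 0, nat_lit 1, nat_lit 2, nat_lit 3, nat_lit 2, nat_lit 2, nat_lit 2, nat_lit 1, nat_lit 0, nat_lit 1, nat_lit 0, nat_lit 3, nat_lit 3, nat_lit 3, nat_lit 0, nat_lit 0, nat_lit 1, nat_lit 0, nat_lit 1, nat_lit 2, nat_lit 1, nat_lit 0, nat_lit 3, nat_lit 0, nat_lit 0, nat_lit 1, nat_lit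 0, nat_lit 1, nat_lit 2, nat_lit 3, nat_lit 2, nat_lit 2, nat_lit 2, nat_lit 1, nat_lit 0, nat_lit 1, nat_lit 0, nat_lit 3, nat_lit 3, nat_lit 0, nat_lit 3, nat_lit 0, nat_lit 3, nat_lit 2, nat_lit 3, nat_lit 0, nat_lit 0, nat_lit 0, nat_lit 0, nat_lit 1, nat_lit 1, nat_lit 1, nat_lit 1, nat_lit 2, nat_lit 3, nat_lit 2, nat_lit 1, nat_lit 2, nat_lit 1, nat_lit 0, nat_lit 0, nat_lit 3, nat_lit 0, nat_lit 3, nat_lit 2, nat_lit 3, nat_lit 0, nat_lit 0, nat_lit 0, nat_lit 0, nat_lit 1, nat_lit 1, nat_lit 1, nat_lit 1, nat_lit 2, nat_lit 3, nat_lit 2, nat_lit 1, nat_lit 2, nat_lit 1, nat_lit 0, nat_lit 3, nat_lit 0, nat_lit 0, nat_lit 1, nat_lit 0, nat_lit 1, nat_lit 2, nat_lit 1, nat_lit 0, nat_lit 3, nat_lit 0, nat_lit 0, nat_lit 1, nat_lit 0, nat_lit 1, nat_lit 2, nat_lit 3, nat_lit 2, nat_lit 2, nat_lit 2, nat_lit 1, nat_lit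 0, nat_lit 1, nat_lit 0, nat_lit 3, nat_lit 3, nat_lit 0, nat_lit 3, nat_lit 0, nat_lit 3, nat_lit 2, nat_lit 3, nat_lit 0, nat_lit 0, nat_lit 0, nat_lit 0, nat_lit 1, nat_lit 1, nat_lit 1, nat_lit 1, nat_lit 2, nat_lit 3, nat_lit 2, nat_lit 1, nat_lit 2, nat_lit 1, nat_lit 0, nat_lit 3, nat_lit 0, nat_lit 0, nat_lit 1, nat_lit 0, nat_lit 1, nat_lit 2, nat_lit 1, nat_lit 0, nat_lit 3, nat_lit 0, nat_lit 0, nat_lit 1, nat_lit 0, nat_lit 1, nat_lit 2, nat_lit 3, nat_lit 2, nat_lit 2, nat_lit 2, nat_lit 1, nat_lit 0, nat_lit 1, nat_lit 0, nat_lit 3, nat_lit 3, nat_lit 0, nat_lit 3, nat_lit 0, nat_lit 3, nat_lit 2, nat_lit 3, nat_lit 0, nat_lit 0, nat_lit 0, nat_lit 0, nat_lit 1, nat_lit 1, nat_lit 1, nat_lit 1, nat_lit 2, nat_lit 3, nat_lit 2, nat_lit 1, nat_lit 2, nat_lit 1, nat_lit 0, nat_lit 3, nat_lit 0, nat_lit 0, nat_lit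 1, nat_lit 0, nat_lit 1, nat_lit 2, nat_lit 1, nat_lit 0, nat_lit 3, nat_lit 0, nat_lit 0, nat_lit 1, nat_lit 0, nat_lit 1, nat_lit 2, nat_lit 3, nat_lit 2, nat_lit 2, nat_lit 2, nat_lit 1, nat_lit 0, nat_lit 1, nat_lit 0, nat_lit 3, nat_lit 3, nat_lit 0, nat_lit 3, nat_lit 0, nat_lit 3, nat_lit 2, nat_lit 3, nat_lit 0, nat_lit 0, nat_lit 0, nat_lit 0, nat_lit 1, nat_lit 1, nat_lit 1, nat_lit 1, nat_lit 2, nat_lit 3, nat_lit 2, nat_lit 1, nat_lit 2, nat_lit 1, nat_lit 0, nat_lit 3, nat_lit 0, nat_lit 0, nat_lit 1, nat_lit 0, nat_lit 1, nat_lit 2, nat_lit 1, nat_lit 0, nat_lit 3, nat_lit 0, nat_lit 0, nat_lit 1, nat_lit 0, nat_lit 1, nat_lit 2, nat_lit 3, nat_lit 2, nat_lit 2, nat_lit 2, nat_lit 1, nat_lit 0, nat_lit 1, nat_lit 0, nat_lit 3, nat_lit 3, nat_lit 3, nat_lit 0, nat_lit 0, nat_lit 1, nat_lit 0, nat_lit 1, nat_lit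 2, nat_lit 1, nat_lit 0, nat_lit 3, nat_lit 0, nat_lit 0, nat_lit 1, nat_lit 0, nat_lit 1, nat_lit 2, nat_lit 3, nat_lit 2, nat_lit 2, nat_lit 2, nat_lit 1, nat_lit 0, nat_lit 1, nat_lit 0, nat_lit 3, nat_lit 3, nat_lit 3, nat_lit 0, nat_lit 0, nat_lit 1, nat_lit 0, nat_lit 1, nat_lit 2, nat_lit 1, nat_lit 0, nat_lit 3, nat_lit 0, nat_lit 0, nat_lit 1, nat_lit 0, nat_lit 1, nat_lit 2, nat_lit 3, nat_lit 2, nat_lit 2, nat_lit 2, nat_lit 1, nat_lit 0, nat_lit 1, nat_lit 0, nat_lit 3, nat_lit 3, nat_lit 0, nat_lit 3, nat_lit 0, nat_lit 3, nat_lit 2, nat_lit 3, nat_lit 0, nat_lit 0, nat_lit 0, nat_lit 0, nat_lit 1, nat_lit 1, nat_lit 1, nat_lit 1, nat_lit 2, nat_lit 3, nat_lit 2, nat_lit 1, nat_lit 2, nat_lit 1, nat_lit 0, nat_lit 3, nat_lit 0, nat_lit 0, nat_lit 1, nat_lit 0, nat_lit 1, nat_lit 2, nat_lit 1, nat_lit 0, nat_lit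 3, nat_lit 0, nat_lit 0, nat_lit 1, nat_lit 0, nat_lit 1, nat_lit 2, nat_lit 3, nat_lit 2, nat_lit 2, nat_lit 2, nat_lit 1, nat_lit 0, nat_lit 1, nat_lit 0, nat_lit 3, nat_lit 3, nat_lit 2, nat_lit 3, nat_lit 0, nat_lit 3, nat_lit 0, nat_lit 1, nat_lit 0, nat_lit 3, nat_lit 3, nat_lit 3, nat_lit 3, nat_lit 2, nat_lit 2, nat_lit 2, nat_lit 2, nat_lit 1, nat_lit 0, nat_lit 1, nat_lit 2, nat_lit 1, nat_lit 2, nat_lit 2, nat_lit 3, nat_lit 0, nat_lit 3, nat_lit 0, nat_lit 1, nat_lit 0, nat_lit 3, nat_lit 3, nat_lit 3, nat_lit 3, nat_lit 2, nat_lit 2, nat_lit 2, nat_lit 2, nat_lit 1, nat_lit 0, nat_lit 1, nat_lit 2, nat_lit 1, nat_lit 2, nat_lit 2, nat_lit 3, nat_lit 0, nat_lit 3, nat_lit 0, nat_lit 1, nat_lit 0, nat_lit 3, nat_lit 3, nat_lit 3, nat_lit 3, nat_lit 2, nat_lit 2, nat_lit 2, nat_lit 2, nat_lit 1, nat_lit 0, nat_lit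 1, nat_lit 2, nat_lit 1, nat_lit 2, nat_lit 3, nat_lit 0, nat_lit 0, nat_lit 1, nat_lit 0, nat_lit 1, nat_lit 2, nat_lit 1, nat_lit 0, nat_lit 3, nat_lit 0, nat_lit 0, nat_lit 1, nat_lit 0, nat_lit 1, nat_lit 2, nat_lit 3, nat_lit 2, nat_lit 2, nat_lit 2, nat_lit 1, nat_lit 0, nat_lit 1, nat_lit 0, nat_lit 3, nat_lit 3, nat_lit 0, nat_lit 3, nat_lit 0, nat_lit 3, nat_lit 2, nat_lit 3, nat_lit 0, nat_lit 0, nat_lit 0, nat_lit 0, nat_lit 1, nat_lit 1, nat_lit 1, nat_lit 1, nat_lit 2, nat_lit 3, nat_lit 2, nat_lit 1, nat_lit 2, nat_lit 1, nat_lit 0, nat_lit 1, nat_lit 1, nat_lit 2, nat_lit 3, nat_lit 2, nat_lit 3, nat_lit 0, nat_lit 0, nat_lit 0, nat_lit 1, nat_lit 0, nat_lit 3, nat_lit 2, nat_lit 3, nat_lit 2, nat_lit 2, nat_lit 1, nat_lit 2, nat_lit 3, nat_lit 0, nat_lit 3, nat_lit 2, nat_lit 3, nat_lit 2, nat_lit 2, nat_lit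 1, nat_lit 0, nat_lit 3, nat_lit 0, nat_lit 3, nat_lit 2, nat_lit 3, nat_lit 0, nat_lit 0, nat_lit 0, nat_lit 0, nat_lit 1, nat_lit 1, nat_lit 1, nat_lit 1, nat_lit 2, nat_lit 3, nat_lit 2, nat_lit 1, nat_lit 2, nat_lit 1, nat_lit 0, nat_lit 3, nat_lit 0, nat_lit 0, nat_lit 1, nat_lit 0, nat_lit 1, nat_lit 2, nat_lit 1, nat_lit 0, nat_lit 3, nat_lit 0, nat_lit 0, nat_lit 1, nat_lit 0, nat_lit 1, nat_lit 2, nat_lit 3, nat_lit 2, nat_lit 2, nat_lit 2, nat_lit 1, nat_lit 0, nat_lit 1, nat_lit 0, nat_lit 3, nat_lit 3, nat_lit 0, nat_lit 3, nat_lit 0, nat_lit 3, nat_lit 2, nat_lit 3, nat_lit 0, nat_lit 0, nat_lit 0, nat_lit 0, nat_lit 1, nat_lit 1, nat_lit 1, nat_lit 1, nat_lit 2, nat_lit 3, nat_lit 2, nat_lit 1, nat_lit 2, nat_lit 1, nat_lit 0, nat_lit 0, nat_lit 3, nat_lit 0, nat_lit 3, nat_lit 2, nat_lit 3, nat_lit 0, nat_lit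 0, nat_lit 0, nat_lit 0, nat_lit 1, nat_lit 1, nat_lit 1, nat_lit 1, nat_lit 2, nat_lit 3, nat_lit 2, nat_lit 1, nat_lit 2, nat_lit 1, nat_lit 0, nat_lit 1, nat_lit 1, nat_lit 2, nat_lit 3, nat_lit 2, nat_lit 3, nat_lit 0, nat_lit 0, nat_lit 0, nat_lit 1, nat_lit 0, nat_lit 3, nat_lit 2, nat_lit 3, nat_lit 2, nat_lit 2, nat_lit 1, nat_lit 2, nat_lit 3, nat_lit 0, nat_lit 3, nat_lit 2, nat_lit 3, nat_lit 2, nat_lit 2, nat_lit 1, nat_lit 0, nat_lit 3, nat_lit 0, nat_lit 3, nat_lit 2, nat_lit 3, nat_lit 0, nat_lit 0, nat_lit 0, nat_lit 0, nat_lit 1, nat_lit 1, nat_lit 1, nat_lit 1, nat_lit 2, nat_lit 3, nat_lit 2, nat_lit 1, nat_lit 2, nat_lit 1, nat_lit 0, nat_lit 0, nat_lit 3, nat_lit 0, nat_lit 3, nat_lit 2, nat_lit 3, nat_lit 0, nat_lit 0, nat_lit 0, nat_lit 0, nat_lit 1, nat_lit 1, nat_lit 1, nat_lit 1, nat_lit 2, nat_lit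 3, nat_lit 2, nat_lit 1, nat_lit 2, nat_lit 1, nat_lit 0, nat_lit 0, nat_lit 3, nat_lit 0, nat_lit 3, nat_lit 2, nat_lit 3, nat_lit 0, nat_lit 0, nat_lit 0, nat_lit 0, nat_lit 1, nat_lit 1, nat_lit 1, nat_lit 1, nat_lit 2, nat_lit 3, nat_lit 2, nat_lit 1, nat_lit 2, nat_lit 1, nat_lit 0, nat_lit 3, nat_lit 0, nat_lit 0, nat_lit 1, nat_lit 0, nat_lit 1, nat_lit 2, nat_lit 1, nat_lit 0, nat_lit 3, nat_lit 0, nat_lit 0, nat_lit 1, nat_lit 0, nat_lit 1, nat_lit 2, nat_lit 3, nat_lit 2, nat_lit 2, nat_lit 2, nat_lit 1, nat_lit 0, nat_lit 1, nat_lit 0, nat_lit 3, nat_lit 3, nat_lit 2, nat_lit 3, nat_lit 0, nat_lit 3, nat_lit 0, nat_lit 1, nat_lit 0, nat_lit 3, nat_lit 3, nat_lit 3, nat_lit 3, nat_lit 2, nat_lit 2, nat_lit 2, nat_lit 2, nat_lit 1, nat_lit 0, nat_lit 1, nat_lit 2, nat_lit 1, nat_lit 2, nat_lit 3, nat_lit 0, nat_lit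 0, nat_lit 1, nat_lit 0, nat_lit 1, nat_lit 2, nat_lit 1, nat_lit 0, nat_lit 3, nat_lit 0, nat_lit 0, nat_lit 1, nat_lit 0, nat_lit 1, nat_lit 2, nat_lit 3, nat_lit 2, nat_lit 2, nat_lit 2, nat_lit 1, nat_lit 0, nat_lit 1, nat_lit 0, nat_lit 3, nat_lit 3, nat_lit 0, nat_lit 3, nat_lit 0, nat_lit 3, nat_lit 2, nat_lit 3, nat_lit 0, nat_lit 0, nat_lit 0, nat_lit 0, nat_lit 1, nat_lit 1, nat_lit 1, nat_lit 1, nat_lit 2, nat_lit 3, nat_lit 2, nat_lit 1, nat_lit 2, nat_lit 1, nat_lit 0, nat_lit 0, nat_lit 3, nat_lit 0, nat_lit 3, nat_lit 2, nat_lit 3, nat_lit 0, nat_lit 0, nat_lit 0, nat_lit 0, nat_lit 1, nat_lit 1, nat_lit 1, nat_lit 1, nat_lit 2, nat_lit 3, nat_lit 2, nat_lit 1, nat_lit 2, nat_lit 1, nat_lit 0, nat_lit 3, nat_lit 0, nat_lit 0, nat_lit 1, nat_lit 0, nat_lit 1, nat_lit 2, nat_lit 1, nat_lit 0, nat_lit 3, nat_lit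 0, nat_lit 0, nat_lit 1, nat_lit 0, nat_lit 1, nat_lit 2, nat_lit 3, nat_lit 2, nat_lit 2, nat_lit 2, nat_lit 1, nat_lit 0, nat_lit 1, nat_lit 0, nat_lit 3, nat_lit 3, nat_lit 0, nat_lit 3, nat_lit 0, nat_lit 3, nat_lit 2, nat_lit 3, nat_lit 0, nat_lit 0, nat_lit 0, nat_lit 0, nat_lit 1, nat_lit 1, nat_lit 1, nat_lit 1, nat_lit 2, nat_lit 3, nat_lit 2, nat_lit 1, nat_lit 2, nat_lit 1, nat_lit 0, nat_lit 1, nat_lit 1, nat_lit 2, nat_lit 3, nat_lit 2, nat_lit 3, nat_lit 0, nat_lit 0, nat_lit 0, nat_lit 1, nat_lit 0, nat_lit 3, nat_lit 2, nat_lit 3, nat_lit 2, nat_lit 2, nat_lit 1, nat_lit 2, nat_lit 3, nat_lit 0, nat_lit 3, nat_lit 2, nat_lit 3, nat_lit 2, nat_lit 2]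

/-- the generator 6 as a word in `c` (letter 0), `w` (1) and their inverses (2, 3) -/
def gW6 : List Nat := [nat_lit 0, nat_lit 1, nat_lit 2, nat_lit 3, nat_lit 0, nat_lit 3, nat_lit 0, nat_lit 1, nat_lit 0, nat_lit 3, nat_lit 3, nat_lit 3, nat_lit 3, nat_lit 2, nat_lit 2, nat_lit 2, nat_lit 2, nat_lit 1, nat_lit 0, nat_lit 1, nat_lit 2, nat_lit 1, nat_lit 2, nat_lit 2, nat_lit 3, nat_lit 0, nat_lit 3, nat_lit 0, nat_lit 1, nat_lit 0, nat_lit 3, nat_lit 3, nat_lit 3, nat_lit 3, nat_lit 2, nat_lit 2, nat_lit 2, nat_lit 2, nat_lit 1, nat_lit 0, nat_lit 1, nat_lit 2, nat_lit 1, nat_lit 2, nat_lit 2, nat_lit 3, nat_lit 0, nat_lit 3, nat_lit 0, nat_lit 1, nat_lit 0, nat_lit 3, nat_lit 3, nat_lit 3, nat_lit 3, nat_lit 2, nat_lit 2, nat_lit 2, nat_lit 2, nat_lit 1, nat_lit 0, nat_lit 1, nat_lit 2, nat_lit 1, nat_lit 2, nat_lit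 3, nat_lit 0, nat_lit 0, nat_lit 1, nat_lit 0, nat_lit 1, nat_lit 2, nat_lit 1, nat_lit 0, nat_lit 3, nat_lit 0, nat_lit 0, nat_lit 1, nat_lit 0, nat_lit 1, nat_lit 2, nat_lit 3, nat_lit 2, nat_lit 2, nat_lit 2, nat_lit 1, nat_lit 0, nat_lit 1, nat_lit 0, nat_lit 3, nat_lit 3, nat_lit 2, nat_lit 3, nat_lit 0, nat_lit 3, nat_lit 0, nat_lit 1, nat_lit 0, nat_lit 3, nat_lit 3, nat_lit 3, nat_lit 3, nat_lit 2, nat_lit 2, nat_lit 2, nat_lit 2, nat_lit 1, nat_lit 0, nat_lit 1, nat_lit 2, nat_lit 1, nat_lit 2, nat_lit 1, nat_lit 1, nat_lit 2, nat_lit 3, nat_lit 2, nat_lit 3, nat_lit 0, nat_lit 0, nat_lit 0, nat_lit 1, nat_lit 0, nat_lit 3, nat_lit 2, nat_lit 3, nat_lit 2, nat_lit 2, nat_lit 1, nat_lit 2, nat_lit 3, nat_lit 0, nat_lit 3, nat_lit 2, nat_lit 3, nat_lit 2, nat_lit 2, nat_lit 1, nat_lit 0, nat_lit 3, nat_lit 0, nat_lit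 3, nat_lit 2, nat_lit 3, nat_lit 0, nat_lit 0, nat_lit 0, nat_lit 0, nat_lit 1, nat_lit 1, nat_lit 1, nat_lit 1, nat_lit 2, nat_lit 3, nat_lit 2, nat_lit 1, nat_lit 2, nat_lit 1, nat_lit 0, nat_lit 3, nat_lit 0, nat_lit 0, nat_lit 1, nat_lit 0, nat_lit 1, nat_lit 2, nat_lit 1, nat_lit 0, nat_lit 3, nat_lit 0, nat_lit 0, nat_lit 1, nat_lit 0, nat_lit 1, nat_lit 2, nat_lit 3, nat_lit 2, nat_lit 2, nat_lit 2, nat_lit 1, nat_lit 0, nat_lit 1, nat_lit 0, nat_lit 3, nat_lit 3, nat_lit 2, nat_lit 3, nat_lit 0, nat_lit 3, nat_lit 0, nat_lit 1, nat_lit 0, nat_lit 3, nat_lit 3, nat_lit 3, nat_lit 3, nat_lit 2, nat_lit 2, nat_lit 2, nat_lit 2, nat_lit 1, nat_lit 0, nat_lit 1, nat_lit 2, nat_lit 1, nat_lit 2, nat_lit 1, nat_lit 1, nat_lit 2, nat_lit 3, nat_lit 2, nat_lit 3, nat_lit 0, nat_lit 0, nat_lit 0, nat_lit 1, nat_lit 0, nat_lit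 3, nat_lit 2, nat_lit 3, nat_lit 2, nat_lit 2, nat_lit 1, nat_lit 2, nat_lit 3, nat_lit 0, nat_lit 3, nat_lit 2, nat_lit 3, nat_lit 2, nat_lit 2, nat_lit 1, nat_lit 2, nat_lit 3, nat_lit 0, nat_lit 3, nat_lit 0, nat_lit 1, nat_lit 0, nat_lit 3, nat_lit 3, nat_lit 3, nat_lit 3, nat_lit 2, nat_lit 2, nat_lit 2, nat_lit 2, nat_lit 1, nat_lit 0, nat_lit 1, nat_lit 2, nat_lit 1, nat_lit 2, nat_lit 3, nat_lit 0, nat_lit 0, nat_lit 1, nat_lit 0, nat_lit 1, nat_lit 2, nat_lit 1, nat_lit 0, nat_lit 3, nat_lit 0, nat_lit 0, nat_lit 1, nat_lit 0, nat_lit 1, nat_lit 2, nat_lit 3, nat_lit 2, nat_lit 2, nat_lit 2, nat_lit 1, nat_lit 0, nat_lit 1, nat_lit 0, nat_lit 3, nat_lit 3, nat_lit 2, nat_lit 3, nat_lit 0, nat_lit 3, nat_lit 0, nat_lit 1, nat_lit 0, nat_lit 3, nat_lit 3, nat_lit 3, nat_lit 3, nat_lit 2, nat_lit 2, nat_lit 2, nat_lit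 2, nat_lit 1, nat_lit 0, nat_lit 1, nat_lit 2, nat_lit 1, nat_lit 2, nat_lit 1, nat_lit 1, nat_lit 2, nat_lit 3, nat_lit 2, nat_lit 3, nat_lit 0, nat_lit 0, nat_lit 0, nat_lit 1, nat_lit 0, nat_lit 3, nat_lit 2, nat_lit 3, nat_lit 2, nat_lit 2, nat_lit 1, nat_lit 2, nat_lit 3, nat_lit 0, nat_lit 3, nat_lit 2, nat_lit 3, nat_lit 2, nat_lit 2, nat_lit 1, nat_lit 0, nat_lit 3, nat_lit 0, nat_lit 3, nat_lit 2, nat_lit 3, nat_lit 0, nat_lit 0, nat_lit 0, nat_lit 0, nat_lit 1, nat_lit 1, nat_lit 1, nat_lit 1, nat_lit 2, nat_lit 3, nat_lit 2, nat_lit 1, nat_lit 2, nat_lit 1, nat_lit 0, nat_lit 1, nat_lit 1, nat_lit 2, nat_lit 3, nat_lit 2, nat_lit 3, nat_lit 0, nat_lit 0, nat_lit 0, nat_lit 1, nat_lit 0, nat_lit 3, nat_lit 2, nat_lit 3, nat_lit 2, nat_lit 2, nat_lit 1, nat_lit 2, nat_lit 3, nat_lit 0, nat_lit 3, nat_lit 2, nat_lit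 3, nat_lit 2, nat_lit 2, nat_lit 1, nat_lit 1, nat_lit 1, nat_lit 2, nat_lit 3, nat_lit 2, nat_lit 3, nat_lit 0, nat_lit 0, nat_lit 0, nat_lit 1, nat_lit 0, nat_lit 3, nat_lit 2, nat_lit 3, nat_lit 2, nat_lit 2, nat_lit 1, nat_lit 2, nat_lit 3, nat_lit 0, nat_lit 3, nat_lit 2, nat_lit 3, nat_lit 2, nat_lit 2, nat_lit 1, nat_lit 1, nat_lit 1, nat_lit 2, nat_lit 3, nat_lit 2, nat_lit 3, nat_lit 0, nat_lit 0, nat_lit 0, nat_lit 1, nat_lit 0, nat_lit 3, nat_lit 2, nat_lit 3, nat_lit 2, nat_lit 2, nat_lit 1, nat_lit 2, nat_lit 3, nat_lit 0, nat_lit 3, nat_lit 2, nat_lit 3, nat_lit 2, nat_lit 2, nat_lit 1, nat_lit 1, nat_lit 1, nat_lit 2, nat_lit 3, nat_lit 2, nat_lit 3, nat_lit 0, nat_lit 0, nat_lit 0, nat_lit 1, nat_lit 0, nat_lit 3, nat_lit 2, nat_lit 3, nat_lit 2, nat_lit 2, nat_lit 1, nat_lit 2, nat_lit 3, nat_lit 0, nat_lit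 3, nat_lit 2, nat_lit 3, nat_lit 2, nat_lit 2, nat_lit 1, nat_lit 2, nat_lit 3, nat_lit 0, nat_lit 3, nat_lit 0, nat_lit 1, nat_lit 0, nat_lit 3, nat_lit 3, nat_lit 3, nat_lit 3, nat_lit 2, nat_lit 2, nat_lit 2, nat_lit 2, nat_lit 1, nat_lit 0, nat_lit 1, nat_lit 2, nat_lit 1, nat_lit 2, nat_lit 1, nat_lit 1, nat_lit 2, nat_lit 3, nat_lit 2, nat_lit 3, nat_lit 0, nat_lit 0, nat_lit 0, nat_lit 1, nat_lit 0, nat_lit 3, nat_lit 2, nat_lit 3, nat_lit 2, nat_lit 2, nat_lit 1, nat_lit 2, nat_lit 3, nat_lit 0, nat_lit 3, nat_lit 2, nat_lit 3, nat_lit 2, nat_lit 2, nat_lit 1, nat_lit 1, nat_lit 1, nat_lit 2, nat_lit 3, nat_lit 2, nat_lit 3, nat_lit 0, nat_lit 0, nat_lit 0, nat_lit 1, nat_lit 0, nat_lit 3, nat_lit 2, nat_lit 3, nat_lit 2, nat_lit 2, nat_lit 1, nat_lit 2, nat_lit 3, nat_lit 0, nat_lit 3, nat_lit 2, nat_lit 3, nat_lit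 2, nat_lit 2, nat_lit 1, nat_lit 0, nat_lit 3, nat_lit 0, nat_lit 3, nat_lit 2, nat_lit 3, nat_lit 0, nat_lit 0, nat_lit 0, nat_lit 0, nat_lit 1, nat_lit 1, nat_lit 1, nat_lit 1, nat_lit 2, nat_lit 3, nat_lit 2, nat_lit 1, nat_lit 2, nat_lit 1, nat_lit 0, nat_lit 1, nat_lit 1, nat_lit 2, nat_lit 3, nat_lit 2, nat_lit 3, nat_lit 0, nat_lit 0, nat_lit 0, nat_lit 1, nat_lit 0, nat_lit 3, nat_lit 2, nat_lit 3, nat_lit 2, nat_lit 2, nat_lit 1, nat_lit 2, nat_lit 3, nat_lit 0, nat_lit 3, nat_lit 2, nat_lit 3, nat_lit 2, nat_lit 2, nat_lit 1, nat_lit 1, nat_lit 1, nat_lit 2, nat_lit 3, nat_lit 2, nat_lit 3, nat_lit 0, nat_lit 0, nat_lit 0, nat_lit 1, nat_lit 0, nat_lit 3, nat_lit 2, nat_lit 3, nat_lit 2, nat_lit 2, nat_lit 1, nat_lit 2, nat_lit 3, nat_lit 0, nat_lit 3, nat_lit 2, nat_lit 3, nat_lit 2, nat_lit 2, nat_lit 1, nat_lit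 1, nat_lit 1, nat_lit 2, nat_lit 3, nat_lit 2, nat_lit 3, nat_lit 0, nat_lit 0, nat_lit 0, nat_lit 1, nat_lit 0, nat_lit 3, nat_lit 2, nat_lit 3, nat_lit 2, nat_lit 2, nat_lit 1, nat_lit 2, nat_lit 3, nat_lit 0, nat_lit 3, nat_lit 2, nat_lit 3, nat_lit 2, nat_lit 2, nat_lit 1, nat_lit 0, nat_lit 3, nat_lit 0, nat_lit 3, nat_lit 2, nat_lit 3, nat_lit 0, nat_lit 0, nat_lit 0, nat_lit 0, nat_lit 1, nat_lit 1, nat_lit 1, nat_lit 1, nat_lit 2, nat_lit 3, nat_lit 2, nat_lit 1, nat_lit 2, nat_lit 1, nat_lit 0, nat_lit 0, nat_lit 3, nat_lit 0, nat_lit 3, nat_lit 2, nat_lit 3, nat_lit 0, nat_lit 0, nat_lit 0, nat_lit 0, nat_lit 1, nat_lit 1, nat_lit 1, nat_lit 1, nat_lit 2, nat_lit 3, nat_lit 2, nat_lit 1, nat_lit 2, nat_lit 1, nat_lit 0, nat_lit 0, nat_lit 3, nat_lit 0, nat_lit 3, nat_lit 2, nat_lit 3, nat_lit 0, nat_lit 0, nat_lit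 0, nat_lit 0, nat_lit 1, nat_lit 1, nat_lit 1, nat_lit 1, nat_lit 2, nat_lit 3, nat_lit 2, nat_lit 1, nat_lit 2, nat_lit 1, nat_lit 0, nat_lit 0, nat_lit 3, nat_lit 0, nat_lit 3, nat_lit 2, nat_lit 3, nat_lit 0, nat_lit 0, nat_lit 0, nat_lit 0, nat_lit 1, nat_lit 1, nat_lit 1, nat_lit 1, nat_lit 2, nat_lit 3, nat_lit 2, nat_lit 1, nat_lit 2, nat_lit 1, nat_lit 0, nat_lit 0, nat_lit 3, nat_lit 0, nat_lit 3, nat_lit 2, nat_lit 3, nat_lit 0, nat_lit 0, nat_lit 0, nat_lit 0, nat_lit 1, nat_lit 1, nat_lit 1, nat_lit 1, nat_lit 2, nat_lit 3, nat_lit 2, nat_lit 1, nat_lit 2, nat_lit 1, nat_lit 0, nat_lit 3, nat_lit 0, nat_lit 0, nat_lit 1, nat_lit 0, nat_lit 1, nat_lit 2, nat_lit 1, nat_lit 0, nat_lit 3, nat_lit 0, nat_lit 0, nat_lit 1, nat_lit 0, nat_lit 1, nat_lit 2, nat_lit 3, nat_lit 2, nat_lit 2, nat_lit 2, nat_lit 1, nat_lit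 0, nat_lit 1, nat_lit 0, nat_lit 3, nat_lit 3, nat_lit 0, nat_lit 3, nat_lit 0, nat_lit 3, nat_lit 2, nat_lit 3, nat_lit 0, nat_lit 0, nat_lit 0, nat_lit 0, nat_lit 1, nat_lit 1, nat_lit 1, nat_lit 1, nat_lit 2, nat_lit 3, nat_lit 2, nat_lit 1, nat_lit 2, nat_lit 1, nat_lit 0, nat_lit 1, nat_lit 1, nat_lit 2, nat_lit 3, nat_lit 2, nat_lit 3, nat_lit 0, nat_lit 0, nat_lit 0, nat_lit 1, nat_lit 0, nat_lit 3, nat_lit 2, nat_lit 3, nat_lit 2, nat_lit 2, nat_lit 1, nat_lit 2, nat_lit 3, nat_lit 0, nat_lit 3, nat_lit 2, nat_lit 3, nat_lit 2, nat_lit 2, nat_lit 1, nat_lit 0, nat_lit 3, nat_lit 0, nat_lit 3, nat_lit 2, nat_lit 3, nat_lit 0, nat_lit 0, nat_lit 0, nat_lit 0, nat_lit 1, nat_lit 1, nat_lit 1, nat_lit 1, nat_lit 2, nat_lit 3, nat_lit 2, nat_lit 1, nat_lit 2, nat_lit 1, nat_lit 0, nat_lit 3, nat_lit 0, nat_lit 0, nat_lit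 1, nat_lit 0, nat_lit 1, nat_lit 2, nat_lit 1, nat_lit 0, nat_lit 3, nat_lit 0, nat_lit 0, nat_lit 1, nat_lit 0, nat_lit 1, nat_lit 2, nat_lit 3, nat_lit 2, nat_lit 2, nat_lit 2, nat_lit 1, nat_lit 0, nat_lit 1, nat_lit 0, nat_lit 3, nat_lit 3, nat_lit 0, nat_lit 3, nat_lit 0, nat_lit 3, nat_lit 2, nat_lit 3, nat_lit 0, nat_lit 0, nat_lit 0, nat_lit 0, nat_lit 1, nat_lit 1, nat_lit 1, nat_lit 1, nat_lit 2, nat_lit 3, nat_lit 2, nat_lit 1, nat_lit 2, nat_lit 1, nat_lit 0, nat_lit 0, nat_lit 3, nat_lit 0, nat_lit 3, nat_lit 2, nat_lit 3, nat_lit 0, nat_lit 0, nat_lit 0, nat_lit 0, nat_lit 1, nat_lit 1, nat_lit 1, nat_lit 1, nat_lit 2, nat_lit 3, nat_lit 2, nat_lit 1, nat_lit 2, nat_lit 1, nat_lit 0, nat_lit 1, nat_lit 1, nat_lit 2, nat_lit 3, nat_lit 2, nat_lit 3, nat_lit 0, nat_lit 0, nat_lit 0, nat_lit 1, nat_lit 0, nat_lit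 3, nat_lit 2, nat_lit 3, nat_lit 2, nat_lit 2, nat_lit 1, nat_lit 2, nat_lit 3, nat_lit 0, nat_lit 3, nat_lit 2, nat_lit 3, nat_lit 2, nat_lit 2, nat_lit 1, nat_lit 0, nat_lit 3, nat_lit 0, nat_lit 3, nat_lit 2, nat_lit 3, nat_lit 0, nat_lit 0, nat_lit 0, nat_lit 0, nat_lit 1, nat_lit 1, nat_lit 1, nat_lit 1, nat_lit 2, nat_lit 3, nat_lit 2, nat_lit 1, nat_lit 2, nat_lit 1, nat_lit 0, nat_lit 0, nat_lit 3, nat_lit 0, nat_lit 3, nat_lit 2, nat_lit 3, nat_lit 0, nat_lit 0, nat_lit 0, nat_lit 0, nat_lit 1, nat_lit 1, nat_lit 1, nat_lit 1, nat_lit 2, nat_lit 3, nat_lit 2, nat_lit 1, nat_lit 2, nat_lit 1, nat_lit 0, nat_lit 0, nat_lit 3, nat_lit 0, nat_lit 3, nat_lit 2, nat_lit 3, nat_lit 0, nat_lit 0, nat_lit 0, nat_lit 0, nat_lit 1, nat_lit 1, nat_lit 1, nat_lit 1, nat_lit 2, nat_lit 3, nat_lit 2, nat_lit 1, nat_lit 2, nat_lit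 1, nat_lit 0, nat_lit 1, nat_lit 1, nat_lit 2, nat_lit 3, nat_lit 2, nat_lit 3, nat_lit 0, nat_lit 0, nat_lit 0, nat_lit 1, nat_lit 0, nat_lit 3, nat_lit 2, nat_lit 3, nat_lit 2, nat_lit 2, nat_lit 1, nat_lit 2, nat_lit 3, nat_lit 0, nat_lit 3, nat_lit 2, nat_lit 3, nat_lit 2, nat_lit 2, nat_lit 1, nat_lit 1, nat_lit 1, nat_lit 2, nat_lit 3, nat_lit 2, nat_lit 3, nat_lit 0, nat_lit 0, nat_lit 0, nat_lit 1, nat_lit 0, nat_lit 3, nat_lit 2, nat_lit 3, nat_lit 2, nat_lit 2, nat_lit 1, nat_lit 2, nat_lit 3, nat_lit 0, nat_lit 3, nat_lit 2, nat_lit 3, nat_lit 2, nat_lit 2, nat_lit 1, nat_lit 2, nat_lit 3, nat_lit 0, nat_lit 3, nat_lit 0, nat_lit 1, nat_lit 0, nat_lit 3, nat_lit 3, nat_lit 3, nat_lit 3, nat_lit 2, nat_lit 2, nat_lit 2, nat_lit 2, nat_lit 1, nat_lit 0, nat_lit 1, nat_lit 2, nat_lit 1, nat_lit 2, nat_lit 3, nat_lit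 0, nat_lit 0, nat_lit 1, nat_lit 0, nat_lit 1, nat_lit 2, nat_lit 1, nat_lit 0, nat_lit 3, nat_lit 0, nat_lit 0, nat_lit 1, nat_lit 0, nat_lit 1, nat_lit 2, nat_lit 3, nat_lit 2, nat_lit 2, nat_lit 2, nat_lit 1, nat_lit 0, nat_lit 1, nat_lit 0, nat_lit 3, nat_lit 3, nat_lit 3, nat_lit 0, nat_lit 0, nat_lit 1, nat_lit 0, nat_lit 1, nat_lit 2, nat_lit 1, nat_lit 0, nat_lit 3, nat_lit 0, nat_lit 0, nat_lit 1, nat_lit 0, nat_lit 1, nat_lit 2, nat_lit 3, nat_lit 2, nat_lit 2, nat_lit 2, nat_lit 1, nat_lit 0, nat_lit 1, nat_lit 0, nat_lit 3, nat_lit 3, nat_lit 2, nat_lit 3, nat_lit 0, nat_lit 3, nat_lit 0, nat_lit 1, nat_lit 0, nat_lit 3, nat_lit 3, nat_lit 3, nat_lit 3, nat_lit 2, nat_lit 2, nat_lit 2, nat_lit 2, nat_lit 1, nat_lit 0, nat_lit 1, nat_lit 2, nat_lit 1, nat_lit 2, nat_lit 2, nat_lit 3, nat_lit 0, nat_lit 3, nat_lit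 0, nat_lit 1, nat_lit 0, nat_lit 3, nat_lit 3, nat_lit 3, nat_lit 3, nat_lit 2, nat_lit 2, nat_lit 2, nat_lit 2, nat_lit 1, nat_lit 0, nat_lit 1, nat_lit 2, nat_lit 1, nat_lit 2, nat_lit 2, nat_lit 3, nat_lit 0, nat_lit 3, nat_lit 0, nat_lit 1, nat_lit 0, nat_lit 3, nat_lit 3, nat_lit 3, nat_lit 3, nat_lit 2, nat_lit 2, nat_lit 2, nat_lit 2, nat_lit 1, nat_lit 0, nat_lit 1, nat_lit 2, nat_lit 1, nat_lit 2, nat_lit 3, nat_lit 0, nat_lit 0, nat_lit 1, nat_lit 0, nat_lit 1, nat_lit 2, nat_lit 1, nat_lit 0, nat_lit 3, nat_lit 0, nat_lit 0, nat_lit 1, nat_lit 0, nat_lit 1, nat_lit 2, nat_lit 3, nat_lit 2, nat_lit 2, nat_lit 2, nat_lit 1, nat_lit 0, nat_lit 1, nat_lit 0, nat_lit 3, nat_lit 3, nat_lit 0, nat_lit 3, nat_lit 0, nat_lit 3, nat_lit 2, nat_lit 3, nat_lit 0, nat_lit 0, nat_lit 0, nat_lit 0, nat_lit 1, nat_lit 1, nat_lit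 1, nat_lit 1, nat_lit 2, nat_lit 3, nat_lit 2, nat_lit 1, nat_lit 2, nat_lit 1, nat_lit 0, nat_lit 1, nat_lit 1, nat_lit 2, nat_lit 3, nat_lit 2, nat_lit 3, nat_lit 0, nat_lit 0, nat_lit 0, nat_lit 1, nat_lit 0, nat_lit 3, nat_lit 2, nat_lit 3, nat_lit 2, nat_lit 2, nat_lit 1, nat_lit 2, nat_lit 3, nat_lit 0, nat_lit 3, nat_lit 2, nat_lit 3, nat_lit 2, nat_lit 2, nat_lit 1, nat_lit 0, nat_lit 3, nat_lit 0, nat_lit 3, nat_lit 2, nat_lit 3, nat_lit 0, nat_lit 0, nat_lit 0, nat_lit 0, nat_lit 1, nat_lit 1, nat_lit 1, nat_lit 1, nat_lit 2, nat_lit 3, nat_lit 2, nat_lit 1, nat_lit 2, nat_lit 1, nat_lit 0, nat_lit 3, nat_lit 0, nat_lit 0, nat_lit 1, nat_lit 0, nat_lit 1, nat_lit 2, nat_lit 1, nat_lit 0, nat_lit 3, nat_lit 0, nat_lit 0, nat_lit 1, nat_lit 0, nat_lit 1, nat_lit 2, nat_lit 3, nat_lit 2, nat_lit 2, nat_lit 2, nat_lit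 1, nat_lit 0, nat_lit 1, nat_lit 0, nat_lit 3, nat_lit 3, nat_lit 0, nat_lit 3, nat_lit 0, nat_lit 3, nat_lit 2, nat_lit 3, nat_lit 0, nat_lit 0, nat_lit 0, nat_lit 0, nat_lit 1, nat_lit 1, nat_lit 1, nat_lit 1, nat_lit 2, nat_lit 3, nat_lit 2, nat_lit 1, nat_lit 2, nat_lit 1, nat_lit 0, nat_lit 0, nat_lit 3, nat_lit 0, nat_lit 3, nat_lit 2, nat_lit 3, nat_lit 0, nat_lit 0, nat_lit 0, nat_lit 0, nat_lit 1, nat_lit 1, nat_lit 1, nat_lit 1, nat_lit 2, nat_lit 3, nat_lit 2, nat_lit 1, nat_lit 2, nat_lit 1, nat_lit 0, nat_lit 1, nat_lit 1, nat_lit 2, nat_lit 3, nat_lit 2, nat_lit 3, nat_lit 0, nat_lit 0, nat_lit 0, nat_lit 1, nat_lit 0, nat_lit 3, nat_lit 2, nat_lit 3, nat_lit 2, nat_lit 2, nat_lit 1, nat_lit 2, nat_lit 3, nat_lit 0, nat_lit 3, nat_lit 2, nat_lit 3, nat_lit 2, nat_lit 2, nat_lit 1, nat_lit 0, nat_lit 3, nat_lit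 0, nat_lit 3, nat_lit 2, nat_lit 3, nat_lit 0, nat_lit 0, nat_lit 0, nat_lit 0, nat_lit 1, nat_lit 1, nat_lit 1, nat_lit 1, nat_lit 2, nat_lit 3, nat_lit 2, nat_lit 1, nat_lit 2, nat_lit 1, nat_lit 0, nat_lit 0, nat_lit 3, nat_lit 0, nat_lit 3, nat_lit 2, nat_lit 3, nat_lit 0, nat_lit 0, nat_lit 0, nat_lit 0, nat_lit 1, nat_lit 1, nat_lit 1, nat_lit 1, nat_lit 2, nat_lit 3, nat_lit 2, nat_lit 1, nat_lit 2, nat_lit 1, nat_lit 0, nat_lit 0, nat_lit 3, nat_lit 0, nat_lit 3, nat_lit 2, nat_lit 3, nat_lit 0, nat_lit 0, nat_lit 0, nat_lit 0, nat_lit 1, nat_lit 1, nat_lit 1, nat_lit 1, nat_lit 2, nat_lit 3, nat_lit 2, nat_lit 1, nat_lit 2, nat_lit 1, nat_lit 0, nat_lit 3, nat_lit 0, nat_lit 0, nat_lit 1, nat_lit 0, nat_lit 1, nat_lit 2, nat_lit 1, nat_lit 0, nat_lit 3, nat_lit 0, nat_lit 0, nat_lit 1, nat_lit 0, nat_lit 1, nat_lit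 2, nat_lit 3, nat_lit 2, nat_lit 2, nat_lit 2, nat_lit 1, nat_lit 0, nat_lit 1, nat_lit 0, nat_lit 3, nat_lit 3, nat_lit 2, nat_lit 3, nat_lit 0, nat_lit 3, nat_lit 0, nat_lit 1, nat_lit 0, nat_lit 3, nat_lit 3, nat_lit 3, nat_lit 3, nat_lit 2, nat_lit 2, nat_lit 2, nat_lit 2, nat_lit 1, nat_lit 0, nat_lit 1, nat_lit 2, nat_lit 1, nat_lit 2, nat_lit 3, nat_lit 0, nat_lit 0, nat_lit 1, nat_lit 0, nat_lit 1, nat_lit 2, nat_lit 1, nat_lit 0, nat_lit 3, nat_lit 0, nat_lit 0, nat_lit 1, nat_lit 0, nat_lit 1, nat_lit 2, nat_lit 3, nat_lit 2, nat_lit 2, nat_lit 2, nat_lit 1, nat_lit 0, nat_lit 1, nat_lit 0, nat_lit 3, nat_lit 3, nat_lit 0, nat_lit 3, nat_lit 0, nat_lit 3, nat_lit 2, nat_lit 3, nat_lit 0, nat_lit 0, nat_lit 0, nat_lit 0, nat_lit 1, nat_lit 1, nat_lit 1, nat_lit 1, nat_lit 2, nat_lit 3, nat_lit 2, nat_lit 1, nat_lit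 2, nat_lit 1, nat_lit 0, nat_lit 0, nat_lit 3, nat_lit 0, nat_lit 3, nat_lit 2, nat_lit 3, nat_lit 0, nat_lit 0, nat_lit 0, nat_lit 0, nat_lit 1, nat_lit 1, nat_lit 1, nat_lit 1, nat_lit 2, nat_lit 3, nat_lit 2, nat_lit 1, nat_lit 2, nat_lit 1, nat_lit 0, nat_lit 3, nat_lit 0, nat_lit 0, nat_lit 1, nat_lit 0, nat_lit 1, nat_lit 2, nat_lit 1, nat_lit 0, nat_lit 3, nat_lit 0, nat_lit 0, nat_lit 1, nat_lit 0, nat_lit 1, nat_lit 2, nat_lit 3, nat_lit 2, nat_lit 2, nat_lit 2, nat_lit 1, nat_lit 0, nat_lit 1, nat_lit 0, nat_lit 3, nat_lit 3, nat_lit 0, nat_lit 3, nat_lit 0, nat_lit 3, nat_lit 2, nat_lit 3, nat_lit 0, nat_lit 0, nat_lit 0, nat_lit 0, nat_lit 1, nat_lit 1, nat_lit 1, nat_lit 1, nat_lit 2, nat_lit 3, nat_lit 2, nat_lit 1, nat_lit 2, nat_lit 1, nat_lit 0, nat_lit 1, nat_lit 1, nat_lit 2, nat_lit 3, nat_lit 2, nat_lit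 3, nat_lit 0, nat_lit 0, nat_lit 0, nat_lit 1, nat_lit 0, nat_lit 3, nat_lit 2, nat_lit 3, nat_lit 2, nat_lit 2, nat_lit 1, nat_lit 2, nat_lit 3, nat_lit 0, nat_lit 3, nat_lit 2, nat_lit 3, nat_lit 2, nat_lit 2]

/-- the image of the letter 0 under the outer automorphism -/
def sW0 : List Nat := [nat_lit 3, nat_lit 1, nat_lit 6, nat_lit 4, nat_lit 3, nat_lit 1, nat_lit 2, nat_lit 3, nat_lit 4, nat_lit 3, nat_lit 1, nat_lit 2, nat_lit 1, nat_lit 6, nat_lit 4, nat_lit 3, nat_lit 1, nat_lit 2, nat_lit 3, nat_lit 0, nat_lit 1, nat_lit 2, nat_lit 3, nat_lit 4, nat_lit 5, nat_lit 3, nat_lit 0, nat_lit 1, nat_lit 2, nat_lit 3, nat_lit 4, nat_lit 3, nat_lit 1, nat_lit 2, nat_lit 4, nat_lit 3, nat_lit 2, nat_lit 1, nat_lit 3, nat_lit 2, nat_lit 1, nat_lit 0, nat_lit 3, nat_lit 4, nat_lit 3, nat_lit 2, nat_lit 1, nat_lit 3, nat_lit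 2, nat_lit 3, nat_lit 4, nat_lit 3, nat_lit 0, nat_lit 1, nat_lit 2, nat_lit 3, nat_lit 1, nat_lit 2, nat_lit 3, nat_lit 4, nat_lit 2, nat_lit 3, nat_lit 2, nat_lit 3, nat_lit 4, nat_lit 3, nat_lit 2, nat_lit 1, nat_lit 3, nat_lit 2, nat_lit 1, nat_lit 0, nat_lit 3, nat_lit 4, nat_lit 3, nat_lit 2, nat_lit 1, nat_lit 3, nat_lit 2, nat_lit 3, nat_lit 4, nat_lit 3, nat_lit 0, nat_lit 1, nat_lit 2, nat_lit 3, nat_lit 1, nat_lit 2, nat_lit 3, nat_lit 4]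

/-- the image of the letter 1 under the outer automorphism -/
def sW1 : List Nat := [nat_lit 2, nat_lit 3, nat_lit 7, nat_lit 2, nat_lit 1, nat_lit 7, nat_lit 2, nat_lit 3, nat_lit 4, nat_lit 2, nat_lit 0, nat_lit 1, nat_lit 6, nat_lit 3, nat_lit 2, nat_lit 3, nat_lit 4, nat_lit 5, nat_lit 3, nat_lit 1, nat_lit 2, nat_lit 3, nat_lit 4, nat_lit 3, nat_lit 2, nat_lit 3, nat_lit 1, nat_lit 2, nat_lit 3, nat_lit 4, nat_lit 3, nat_lit 2, nat_lit 4, nat_lit 3, nat_lit 2, nat_lit 1, nat_lit 3, nat_lit 2, nat_lit 1, nat_lit 0, nat_lit 3, nat_lit 4, nat_lit 3, nat_lit 2, nat_lit 1, nat_lit 3, nat_lit 2, nat_lit 3, nat_lit 4, nat_lit 3, nat_lit 0, nat_lit 1, nat_lit 2, nat_lit 3, nat_lit 1, nat_lit 2, nat_lit 3, nat_lit 4, nat_lit 3, nat_lit 2, nat_lit 3, nat_lit 2, nat_lit 4, nat_lit 3, nat_lit 2, nat_lit 1, nat_lit 3, nat_lit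 2, nat_lit 1, nat_lit 0, nat_lit 3, nat_lit 4, nat_lit 3, nat_lit 2, nat_lit 1, nat_lit 3, nat_lit 2, nat_lit 3, nat_lit 4, nat_lit 3, nat_lit 0, nat_lit 1, nat_lit 2, nat_lit 3, nat_lit 1, nat_lit 2, nat_lit 3, nat_lit 4, nat_lit 0]

/-- the image of the letter 2 under the outer automorphism -/
def sW2 : List Nat := [nat_lit 5, nat_lit 4, nat_lit 2, nat_lit 3, nat_lit 1, nat_lit 2, nat_lit 3, nat_lit 7, nat_lit 4, nat_lit 0, nat_lit 1, nat_lit 6, nat_lit 4, nat_lit 1, nat_lit 2, nat_lit 3, nat_lit 2, nat_lit 3, nat_lit 1, nat_lit 2, nat_lit 3, nat_lit 4, nat_lit 5, nat_lit 3, nat_lit 0, nat_lit 1, nat_lit 2, nat_lit 3, nat_lit 4, nat_lit 3, nat_lit 1, nat_lit 2, nat_lit 3, nat_lit 0, nat_lit 1, nat_lit 0, nat_lit 4, nat_lit 3, nat_lit 2, nat_lit 1, nat_lit 3, nat_lit 2, nat_lit 1, nat_lit 0, nat_lit 3, nat_lit 4, nat_lit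 3, nat_lit 2, nat_lit 1, nat_lit 3, nat_lit 2, nat_lit 3, nat_lit 4, nat_lit 3, nat_lit 0, nat_lit 1, nat_lit 2, nat_lit 3, nat_lit 1, nat_lit 2, nat_lit 3, nat_lit 4, nat_lit 0, nat_lit 4, nat_lit 3, nat_lit 2, nat_lit 1, nat_lit 3, nat_lit 2, nat_lit 1, nat_lit 0, nat_lit 3, nat_lit 4, nat_lit 3, nat_lit 2, nat_lit 1, nat_lit 3, nat_lit 2, nat_lit 3, nat_lit 4, nat_lit 3, nat_lit 0, nat_lit 1, nat_lit 2, nat_lit 3, nat_lit 1, nat_lit 2, nat_lit 3, nat_lit 4, nat_lit 0, nat_lit 4, nat_lit 3, nat_lit 2, nat_lit 1, nat_lit 3, nat_lit 2, nat_lit 1, nat_lit 0, nat_lit 3, nat_lit 4, nat_lit 3, nat_lit 2, nat_lit 1, nat_lit 3, nat_lit 2, nat_lit 3, nat_lit 4, nat_lit 3, nat_lit 0, nat_lit 1, nat_lit 2, nat_lit 3, nat_lit 1, nat_lit 2, nat_lit 3, nat_lit 4, nat_lit 0]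

/-- the image of the letter 3 under the outer automorphism -/
def sW3 : List Nat := [nat_lit 6, nat_lit 4, nat_lit 2, nat_lit 1, nat_lit 6, nat_lit 3, nat_lit 2, nat_lit 3, nat_lit 4, nat_lit 2, nat_lit 0, nat_lit 1, nat_lit 6, nat_lit 5, nat_lit 4, nat_lit 2, nat_lit 3, nat_lit 1, nat_lit 2, nat_lit 3, nat_lit 1, nat_lit 2, nat_lit 3, nat_lit 4, nat_lit 1, nat_lit 2, nat_lit 3, nat_lit 2, nat_lit 3, nat_lit 1, nat_lit 2, nat_lit 3, nat_lit 4, nat_lit 5, nat_lit 4, nat_lit 3, nat_lit 2, nat_lit 1, nat_lit 3, nat_lit 2, nat_lit 1, nat_lit 0, nat_lit 3, nat_lit 4, nat_lit 3, nat_lit 2, nat_lit 1, nat_lit 3, nat_lit 2, nat_lit 3, nat_lit 4, nat_lit 3, nat_lit 0, nat_lit 1, nat_lit 2, nat_lit 3, nat_lit 1, nat_lit 2, nat_lit 3, nat_lit 4, nat_lit 0, nat_lit 4, nat_lit 3, nat_lit 2, nat_lit 1, nat_lit 3, nat_lit 2, nat_lit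 1, nat_lit 0, nat_lit 3, nat_lit 4, nat_lit 3, nat_lit 2, nat_lit 1, nat_lit 3, nat_lit 2, nat_lit 3, nat_lit 4, nat_lit 3, nat_lit 0, nat_lit 1, nat_lit 2, nat_lit 3, nat_lit 1, nat_lit 2, nat_lit 3, nat_lit 4, nat_lit 0]

/-- the image of the letter 4 under the outer automorphism -/
def sW4 : List Nat := [nat_lit 2, nat_lit 6, nat_lit 1, nat_lit 6, nat_lit 3, nat_lit 2, nat_lit 6, nat_lit 3, nat_lit 4, nat_lit 2, nat_lit 3, nat_lit 2, nat_lit 1, nat_lit 6, nat_lit 5, nat_lit 4, nat_lit 2, nat_lit 3, nat_lit 0, nat_lit 1, nat_lit 2, nat_lit 3, nat_lit 4, nat_lit 5, nat_lit 2, nat_lit 3, nat_lit 0, nat_lit 1, nat_lit 2, nat_lit 3, nat_lit 4, nat_lit 1, nat_lit 3, nat_lit 2, nat_lit 3]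

/-- the image of the letter 5 under the outer automorphism -/
def sW5 : List Nat := [nat_lit 1, nat_lit 7, nat_lit 4, nat_lit 3, nat_lit 1, nat_lit 6, nat_lit 4, nat_lit 1, nat_lit 2, nat_lit 3, nat_lit 6, nat_lit 2, nat_lit 1, nat_lit 6, nat_lit 3, nat_lit 4, nat_lit 2, nat_lit 3, nat_lit 2, nat_lit 3, nat_lit 4, nat_lit 1, nat_lit 2, nat_lit 3, nat_lit 2, nat_lit 3, nat_lit 4, nat_lit 1, nat_lit 2, nat_lit 3, nat_lit 2, nat_lit 1, nat_lit 4, nat_lit 3, nat_lit 2, nat_lit 1, nat_lit 3, nat_lit 2, nat_lit 1, nat_lit 0, nat_lit 3, nat_lit 4, nat_lit 3, nat_lit 2, nat_lit 1, nat_lit 3, nat_lit 2, nat_lit 3, nat_lit 4, nat_lit 3, nat_lit 0, nat_lit 1, nat_lit 2, nat_lit 3, nat_lit 1, nat_lit 2, nat_lit 3, nat_lit 4, nat_lit 5, nat_lit 4, nat_lit 3, nat_lit 2, nat_lit 1, nat_lit 3, nat_lit 2, nat_lit 1, nat_lit 0, nat_lit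 3, nat_lit 4, nat_lit 3, nat_lit 2, nat_lit 1, nat_lit 3, nat_lit 2, nat_lit 3, nat_lit 4, nat_lit 3, nat_lit 0, nat_lit 1, nat_lit 2, nat_lit 3, nat_lit 1, nat_lit 2, nat_lit 3, nat_lit 4, nat_lit 0, nat_lit 4, nat_lit 3, nat_lit 2, nat_lit 1, nat_lit 3, nat_lit 2, nat_lit 1, nat_lit 0, nat_lit 3, nat_lit 4, nat_lit 3, nat_lit 2, nat_lit 1, nat_lit 3, nat_lit 2, nat_lit 3, nat_lit 4, nat_lit 3, nat_lit 0, nat_lit 1, nat_lit 2, nat_lit 3, nat_lit 1, nat_lit 2, nat_lit 3, nat_lit 4, nat_lit 0]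

/-- the image of the letter 6 under the outer automorphism -/
def sW6 : List Nat := [nat_lit 3, nat_lit 4, nat_lit 7, nat_lit 4, nat_lit 3, nat_lit 1, nat_lit 2, nat_lit 3, nat_lit 6, nat_lit 4, nat_lit 2, nat_lit 1, nat_lit 6, nat_lit 3, nat_lit 0, nat_lit 1, nat_lit 2, nat_lit 3, nat_lit 4, nat_lit 2, nat_lit 3, nat_lit 1, nat_lit 2, nat_lit 3, nat_lit 4, nat_lit 5, nat_lit 1, nat_lit 2, nat_lit 3, nat_lit 4, nat_lit 3]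

/-- the image of the letter 7 under the outer automorphism -/
def sW7 : List Nat := [nat_lit 3, nat_lit 4, nat_lit 3, nat_lit 2, nat_lit 1, nat_lit 5, nat_lit 4, nat_lit 3, nat_lit 2, nat_lit 1, nat_lit 3, nat_lit 2, nat_lit 4, nat_lit 3, nat_lit 2, nat_lit 1, nat_lit 0, nat_lit 3, nat_lit 7, nat_lit 1, nat_lit 2, nat_lit 4, nat_lit 7, nat_lit 3, nat_lit 2, nat_lit 1, nat_lit 3, nat_lit 4, nat_lit 6, nat_lit 4, nat_lit 3]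

end Cfsg.Agent.Lib.helper17.OnOut
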