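import Cfsg.Agent.Lib.helper17.HeOut.Abs3

set_option autoImplicit false

/-! The count of the outer automorphisms from a rigid pair: an element `c` of order 11 which is
its own centraliser and generates a Sylow subgroup, and an element `w` of order 20 whose square
normalises `⟨c⟩` and has centraliser `⟨w⟩` (helper17). -/

namespace Cfsg.Agent.Lib.helper17.OnOut

open Cfsg.Agent.Lib.helper4 Cfsg.Agent.Lib.helper17.HeOut

theorem mod11_cases (k : ℕ) (h0 : 0 < k) (h1 : k < 11) : ∃ j : ℕ, 6 ^ j * k % 11 = 1 := by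
  interval_cases k
  · exact ⟨0, by norm_num⟩
  · exact ⟨1, by norm_num⟩
  · exact ⟨8, by norm_num⟩
  · exact ⟨2, by norm_num⟩
  · exact ⟨4, by norm_num⟩
  · exact ⟨9, by norm_num⟩
  · exact ⟨7, by norm_num⟩
  · exact ⟨3, by norm_num⟩
  · exact ⟨6, by norm_num⟩
  · exact ⟨5, by norm_num⟩

/-- after an inner automorphism, an automorphism fixes `c` -/
theorem out_step_eleven {G : Type*} [Group G] [Finite G] (c u : G)
    (hfac : (Nat.card G).factorization 11 = 1) (hc : orderOf c = 11)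
    (hu : u * c * u⁻¹ = c ^ 6) (α : MulAut G) :
    ∃ g : G, g * α c * g⁻¹ = c := by
  classical
  have : Fact (Nat.Prime 11) := ⟨by norm_num⟩
  have hcmod : ∀ n : ℕ, c ^ n = c ^ (n % 11) := by
    intro n
    rw [← hc, pow_mod_orderOf]
  have hαc : orderOf (α c) = 11 := by rw [MulEquiv.orderOf_eq, hc]
  obtain ⟨g, hg⟩ := conj_into_subgroup 11 (Subgroup.zpowers c) 1 hfac
    (by rw [Nat.card_zpowers, hc]; norm_num) (α c) hαc
  rw [mem_zpowers_iff_mem_range_orderOf, Finset.mem_image] at hg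
  obtain ⟨k, hk, hck⟩ := hg
  rw [Finset.mem_range, hc] at hk
  have hk0 : 0 < k := by
    rcases Nat.eq_zero_or_pos k with h | h
    · exfalso
      rw [h, pow_zero] at hck
      have : α c = 1 := by
        calc α c = g * (g⁻¹ * α c * g) * g⁻¹ := by group
          _ = 1 := by rw [← hck]; group
      rw [this, orderOf_one] at hαc
      norm_num at hαc
    · exact h
  obtain ⟨j, hj⟩ := mod11_cases k hk0 hk
  refine ⟨u ^ j * g⁻¹, ?_⟩
  have e : u ^ j * g⁻¹ * α c * (u ^ j * g⁻¹)⁻¹ = u ^ j * (g⁻¹ * α c * g) * (u ^ j)⁻¹ := by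
    group
  rw [e, ← hck, conj_pow_powr u c 6 hu j k, hcmod, hj, pow_one]

/-- an element of `⟨c⟩ u` is conjugate to `u` under `⟨c⟩` when `u` acts on `⟨c⟩` as the sixth
power -/
theorem conj_coset_eleven {G : Type*} [Group G] (c u : G) (hc : orderOf c = 11)
    (hu : u * c * u⁻¹ = c ^ 6) (j : ℕ) : ∃ i : ℕ, c ^ i * (c ^ j * u) * (c ^ i)⁻¹ = u := by
  have hc11 : c ^ 11 = 1 := by rw [← hc]; exact pow_orderOf_eq_one c
  -- `u c^i u⁻¹ = c^(6 i)`, so `c^i c^j u c^(-i) = c^(i + j) (u c^(-i) u⁻¹) u = c^(i + j - 6 i) u`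
  -- take `i = 9 j`: `i + j + 5 * 11 i - 6 i`, we use `i + j + 5 i = 10 j * ... `
  refine ⟨9 * j, ?_⟩
  have h1 : u * (c ^ (9 * j))⁻¹ * u⁻¹ = (c ^ (6 * (9 * j)))⁻¹ := by
    have := conj_pow_powr u c 6 hu 1 (9 * j)
    rw [pow_one, pow_one] at this
    calc u * (c ^ (9 * j))⁻¹ * u⁻¹ = (u * c ^ (9 * j) * u⁻¹)⁻¹ := by group
      _ = (c ^ (6 * (9 * j)))⁻¹ := by rw [this]
  have h2 : c ^ (9 * j) * c ^ j * (c ^ (6 * (9 * j)))⁻¹ = 1 := by
    have e : (c ^ (6 * (9 * j))) = c ^ (9 * j) * c ^ j * (c ^ 11) ^ (4 * j) := by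
      rw [← pow_mul, ← pow_add, ← pow_add]
      congr 1
      ring
    rw [e, hc11, one_pow, mul_one, mul_inv_cancel]
  calc c ^ (9 * j) * (c ^ j * u) * (c ^ (9 * j))⁻¹
      = c ^ (9 * j) * c ^ j * (u * (c ^ (9 * j))⁻¹ * u⁻¹) * u := by group
    _ = c ^ (9 * j) * c ^ j * (c ^ (6 * (9 * j)))⁻¹ * u := by rw [h1]
    _ = u := by rw [h2, one_mul]

theorem out_card_two_of_rigid {G : Type*} [Group G] [Finite G] (c w : G) (σ : MulAut G)
    (hfac : (Nat.card G).factorization 11 = 1)
    (hc : orderOf c = 11)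
    (hCc : ∀ x : G, x * c = c * x → x ∈ Subgroup.zpowers c)
    (hw20 : w ^ 20 = 1) (hw10 : w ^ 10 ≠ 1) (hw4 : w ^ 4 ≠ 1)
    (hwc : w ^ 2 * c * (w ^ 2)⁻¹ = c ^ 6)
    (hCw : ∀ x : G, x * w ^ 2 = w ^ 2 * x → x ∈ Subgroup.zpowers w)
    (hgen : Subgroup.closure {c, w} = ⊤)
    (hσc : σ c = c) (hσw : σ w = w ^ 11) :
    Nat.card (Cfsg.Out G) = 2 := by
  classical
  obtain ⟨u, hu⟩ : ∃ u : G, u = w ^ 2 := ⟨_, rfl⟩
  rw [← hu] at hwc hCw
  have hc11 : c ^ 11 = 1 := by rw [← hc]; exact pow_orderOf_eq_one c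
  have hcne : c ≠ 1 := by
    intro h
    rw [h, orderOf_one] at hc
    norm_num at hc
  -- the order of `w`
  have hord : orderOf w = 20 := by
    have hdvd : orderOf w ∣ 20 := orderOf_dvd_of_pow_eq_one hw20
    have hmem : orderOf w ∈ Nat.divisors 20 := Nat.mem_divisors.mpr ⟨hdvd, by norm_num⟩
    have hdiv : Nat.divisors 20 = {1, 2, 4, 5, 10, 20} := by decide
    rw [hdiv] at hmem
    simp only [Finset.mem_insert, Finset.mem_singleton] at hmem
    have h10 : ¬ orderOf w ∣ 10 := fun h => hw10 (orderOf_dvd_iff_pow_eq_one.mp h)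
    have h4 : ¬ orderOf w ∣ 4 := fun h => hw4 (orderOf_dvd_iff_pow_eq_one.mp h)
    rcases hmem with h | h | h | h | h | h
    · exact absurd (by rw [h]; norm_num) h10
    · exact absurd (by rw [h]; norm_num) h10
    · exact absurd (by rw [h]) h4
    · exact absurd (by rw [h]; norm_num) h10
    · exact absurd (by rw [h]) h10
    · exact h
  -- no power of `c` other than 1 commutes with `u`
  have hcu : ∀ j : ℕ, c ^ j * u = u * c ^ j → c ^ j = 1 := by
    intro j hj
    have h1 : u * c ^ j * u⁻¹ = c ^ (6 * j) := by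
      have := conj_pow_powr u c 6 hwc 1 j
      rw [pow_one, pow_one] at this
      exact this
    have h2 : u * c ^ j * u⁻¹ = c ^ j := by rw [← hj]; group
    rw [h2] at h1
    -- `c^j = c^(6 j)` gives `c^(5 j) = 1`, so `11 ∣ 5 j`, so `11 ∣ j`
    have h3 : c ^ (5 * j) = 1 := by
      have : c ^ (6 * j) = c ^ j * c ^ (5 * j) := by rw [← pow_add]; congr 1; ring
      rw [this] at h1
      exact (mul_eq_left.mp h1.symm)
    have h4 : 11 ∣ 5 * j := by rw [← hc]; exact orderOf_dvd_of_pow_eq_one h3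
    have h5 : 11 ∣ j := (Nat.Coprime.dvd_mul_left (by norm_num : Nat.Coprime 11 5)).mp h4
    obtain ⟨m, rfl⟩ := h5
    rw [pow_mul, hc11, one_pow]
  -- the given automorphism is not inner
  have hσinn : σ ∉ Cfsg.Inn G := by
    rintro ⟨g, hg⟩
    have hgc : g * c = c * g := by
      have : σ c = g * c * g⁻¹ := by rw [← hg, MulAut.conj_apply]
      rw [hσc] at this
      calc g * c = (g * c * g⁻¹) * g := by group
        _ = c * g := by rw [← this]
    obtain ⟨n, hn⟩ := (Subgroup.mem_zpowers_iff).mp (hCc g hgc)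
    -- `g` is a power of `c`
    have hgpow : ∃ j : ℕ, g = c ^ j := by
      have : g ∈ Subgroup.zpowers c := hCc g hgc
      rw [mem_zpowers_iff_mem_range_orderOf, Finset.mem_image] at this
      obtain ⟨j, -, hj⟩ := this
      exact ⟨j, hj.symm⟩
    obtain ⟨j, hj⟩ := hgpow
    have hσu : σ u = u := by
      rw [hu, map_pow, hσw, ← pow_mul]
      have : w ^ (11 * 2) = w ^ 20 * w ^ 2 := by rw [← pow_add]
      rw [this, hw20, one_mul]
    have hgu : g * u = u * g := by
      have : σ u = g * u * g⁻¹ := by rw [← hg, MulAut.conj_apply]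
      rw [hσu] at this
      calc g * u = (g * u * g⁻¹) * g := by group
        _ = u * g := by rw [← this]
    rw [hj] at hgu
    have hg1 : g = 1 := by rw [hj]; exact hcu j hgu
    have hσ1 : σ w = w := by
      rw [← hg, hg1, MulAut.conj_apply]
      group
    rw [hσw] at hσ1
    apply hw10
    have : w ^ 11 = w ^ 10 * w := by rw [← pow_succ]
    rw [this] at hσ1
    exact mul_eq_right.mp hσ1
  have key : ∀ α : MulAut G, α ∈ Cfsg.Inn G ∨ ∃ ι ∈ Cfsg.Inn G, α = ι * σ := by
    intro α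
    -- first make `α` fix `c`
    obtain ⟨g, hg⟩ := out_step_eleven c u hfac hc hwc α
    set β : MulAut G := MulAut.conj g * α with hβ
    have hβc : β c = c := by
      rw [hβ, MulAut.mul_apply, MulAut.conj_apply, hg]
    -- then `β u ∈ ⟨c⟩ u`
    have hβu : ∃ j : ℕ, β u = c ^ j * u := by
      have h1 : β u * c * (β u)⁻¹ = c ^ 6 := by
        have := congrArg β hwc
        rw [map_mul, map_mul, map_inv, map_pow, hβc] at this
        exact this
      have e1 : u⁻¹ * c ^ 6 * u = c := by rw [← hwc]; group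
      have h2 : (β u * u⁻¹) * c ^ 6 * (β u * u⁻¹)⁻¹ = c ^ 6 := by
        calc (β u * u⁻¹) * c ^ 6 * (β u * u⁻¹)⁻¹ = β u * (u⁻¹ * c ^ 6 * u) * (β u)⁻¹ := by group
          _ = c ^ 6 := by rw [e1, h1]
      have h3 : (β u * u⁻¹) * c ^ 6 = c ^ 6 * (β u * u⁻¹) := by
        calc (β u * u⁻¹) * c ^ 6 = ((β u * u⁻¹) * c ^ 6 * (β u * u⁻¹)⁻¹) * (β u * u⁻¹) := by group
          _ = c ^ 6 * (β u * u⁻¹) := by rw [h2]
      have h4 : (β u * u⁻¹) * c = c * (β u * u⁻¹) := by
        have e2 : c = (c ^ 6) ^ 2 := by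
          rw [← pow_mul]
          have : c ^ (6 * 2) = c ^ 11 * c := by rw [← pow_succ]
          rw [this, hc11, one_mul]
        have hcomm : Commute (β u * u⁻¹) (c ^ 6) := h3
        have := (hcomm.pow_right 2).eq
        rw [← e2] at this
        exact this
      have h5 := hCc _ h4
      rw [mem_zpowers_iff_mem_range_orderOf, Finset.mem_image] at h5
      obtain ⟨j, -, hj⟩ := h5
      refine ⟨j, ?_⟩
      rw [hj]
      group
    obtain ⟨j, hj⟩ := hβu
    obtain ⟨i, hi⟩ := conj_coset_eleven c u hc hwc j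
    set γ : MulAut G := MulAut.conj (c ^ i) * β with hγ
    have hγc : γ c = c := by
      rw [hγ, MulAut.mul_apply, MulAut.conj_apply, hβc, (Commute.pow_self c i).eq, mul_assoc,
        mul_inv_cancel, mul_one]
    have hγu : γ u = u := by
      rw [hγ, MulAut.mul_apply, MulAut.conj_apply, hj, hi]
    -- the image of `w`
    have hγw : γ w = w ∨ γ w = w ^ 11 := by
      have h1 : γ w * u = u * γ w := by
        have : γ (w * u) = γ (u * w) := by
          congr 1
          rw [hu, ← pow_succ', ← pow_succ]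
        rw [map_mul, map_mul, hγu] at this
        exact this
      have h2 := hCw _ h1
      rw [mem_zpowers_iff_mem_range_orderOf, Finset.mem_image] at h2
      obtain ⟨k, hk, hkw⟩ := h2
      rw [Finset.mem_range, hord] at hk
      have h3 : (γ w) ^ 2 = w ^ 2 := by
        rw [← map_pow, ← hu, hγu]
      rw [← hkw, ← pow_mul, pow_eq_pow_iff_modEq, hord] at h3
      have h4 : k = 1 ∨ k = 11 := by
        unfold Nat.ModEq at h3
        omega
      rcases h4 with h | h
      · left; rw [← hkw, h, pow_one]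
      · right; rw [← hkw, h]
    have hα : α = (MulAut.conj (c ^ i * g))⁻¹ * γ := by
      rw [eq_inv_mul_iff_mul_eq, map_mul, mul_assoc, ← hβ, ← hγ]
    rcases hγw with h | h
    · left
      have hγ1 : γ = 1 := by
        apply aut_eq_of_gen c w hgen
        · rw [hγc, MulAut.one_apply]
        · rw [h, MulAut.one_apply]
      rw [hα, hγ1, mul_one]
      exact Subgroup.inv_mem _ ⟨_, rfl⟩
    · right
      have hγσ : γ = σ := by
        apply aut_eq_of_gen c w hgen
        · rw [hγc, hσc]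
        · rw [h, hσw]
      exact ⟨(MulAut.conj (c ^ i * g))⁻¹, Subgroup.inv_mem _ ⟨_, rfl⟩, by rw [hα, hγσ]⟩
  rw [Nat.card_eq_two_iff]
  refine ⟨((1 : MulAut G) : Cfsg.Out G), ((σ : MulAut G) : Cfsg.Out G), ?_, ?_⟩
  · intro h
    rw [QuotientGroup.eq, inv_one, one_mul] at h
    exact hσinn h
  · apply Set.eq_univ_of_forall
    intro q
    obtain ⟨α, rfl⟩ := QuotientGroup.mk_surjective q
    rcases key α with h | ⟨ι, hι, h⟩
    · left
      symm
      rw [QuotientGroup.eq, inv_one, one_mul]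
      exact h
    · right
      rw [Set.mem_singleton_iff]
      symm
      rw [QuotientGroup.eq, h]
      have : σ⁻¹ * (ι * σ) = σ⁻¹ * ι * σ := by group
      rw [this]
      exact (Cfsg.innNormal G).conj_mem' ι hι σ

end Cfsg.Agent.Lib.helper17.OnOut
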