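import Cfsg.Agent.Lib.helper17.OnOut.CentThm
import Cfsg.Agent.Lib.helper17.OnOut.ElData
import Cfsg.Agent.Lib.helper17.OnOut.OnAbs

set_option autoImplicit false

/-! The two elements `cE` (of order 11) and `wE` (of order 20) of the presented O'Nan group and the
relations between them (helper17). -/

namespace Cfsg.Agent.Lib.helper17.OnOut

open Cfsg.Spor Cfsg.Agent.Lib.Helper12.TC Cfsg.Agent.Lib.Helper12.TCG
  Cfsg.Agent.Lib.Helper12.TCG.ONPres Cfsg.Agent.Lib.Helper12.TCG.ONx122760
  Cfsg.Agent.Lib.Helper12.Ord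

/-- the word of the element of order 20 -/
def wL : List ℕ := hL ++ w1L ++ hinvL

/-- the conjugating element -/
noncomputable def hE : ON := wprod v hL

/-- the element of order 20 -/
noncomputable def wE : ON := wprod v wL

theorem k1 : eqB apON (hL ++ hinvL) [] = true := by decide +kernel
theorem k2 : eqB apON (w1L ++ w1L) uwL = true := by decide +kernel
theorem k3 : eqB apON (List.replicate 20 w1L).flatten [] = true := by decide +kernel
theorem k4 : neB apON (List.replicate 10 w1L).flatten = true := by decide +kernel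
theorem k5 : neB apON (List.replicate 4 w1L).flatten = true := by decide +kernel
theorem k6 : eqB apON (List.replicate 11 cwL).flatten [] = true := by decide +kernel
theorem k7 : neB apON cwL = true := by decide +kernel
theorem k8 : eqB apON (hL ++ uwL ++ hinvL ++ cwL)
    ((List.replicate 6 cwL).flatten ++ (hL ++ uwL ++ hinvL)) = true := by decide +kernel

theorem hinv_eq : wprod v hinvL = hE⁻¹ := by
  have h := eq_of_eqB semON _ _ k1
  rw [wprod_append, wprod_nil] at h
  exact eq_inv_of_mul_eq_one_right h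

theorem wE_eq : wE = hE * w1E * hE⁻¹ := by
  rw [wE, wL, wprod_append, wprod_append, hinv_eq]
  rfl

theorem w1_sq : w1E ^ 2 = u1E := by
  have h := eq_of_eqB semON _ _ k2
  rw [wprod_append] at h
  rw [pow_two]
  exact h

theorem w1_20 : w1E ^ 20 = 1 := by
  rw [w1E, ← wprod_replicate]
  exact (eq_of_eqB semON _ _ k3).trans (wprod_nil v)

theorem w1_10 : w1E ^ 10 ≠ 1 := by
  rw [w1E, ← wprod_replicate]
  exact ne_one_of_neB semON _ k4

theorem w1_4 : w1E ^ 4 ≠ 1 := by
  rw [w1E, ← wprod_replicate]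
  exact ne_one_of_neB semON _ k5

theorem cE_11 : cE ^ 11 = 1 := by
  rw [cE, ← wprod_replicate]
  exact (eq_of_eqB semON _ _ k6).trans (wprod_nil v)

theorem cE_ne : cE ≠ 1 := ne_one_of_neB semON _ k7

theorem cE_order : orderOf cE = 11 := by
  have : Fact (Nat.Prime 11) := ⟨by norm_num⟩
  exact orderOf_eq_prime cE_11 cE_ne

theorem wE_pow (k : ℕ) : wE ^ k = hE * w1E ^ k * hE⁻¹ := by
  rw [wE_eq, conj_pow]

theorem wE_zpow (k : ℤ) : wE ^ k = hE * w1E ^ k * hE⁻¹ := by
  rw [wE_eq, conj_zpow]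

theorem wE_20 : wE ^ 20 = 1 := by
  rw [wE_pow, w1_20]
  group

theorem wE_10 : wE ^ 10 ≠ 1 := by
  rw [wE_pow]
  intro h
  exact w1_10 (conj_eq_one_iff.mp h)

theorem wE_4 : wE ^ 4 ≠ 1 := by
  rw [wE_pow]
  intro h
  exact w1_4 (conj_eq_one_iff.mp h)

theorem wE_sq : wE ^ 2 = hE * u1E * hE⁻¹ := by
  rw [wE_pow, w1_sq]

theorem wE_conj : wE ^ 2 * cE * (wE ^ 2)⁻¹ = cE ^ 6 := by
  have h := eq_of_eqB semON _ _ k8
  simp only [wprod_append, wprod_replicate, hinv_eq] at h
  rw [wE_sq]
  exact mul_inv_eq_of_eq_mul h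

/-- the centraliser of the square of `wE` consists of the powers of `wE` -/
theorem cent_wE (x : ON) (hx : x * wE ^ 2 = wE ^ 2 * x) : x ∈ Subgroup.zpowers wE := by
  have hy : (hE⁻¹ * x * hE) * u1E = u1E * (hE⁻¹ * x * hE) := by
    rw [wE_sq] at hx
    calc hE⁻¹ * x * hE * u1E = hE⁻¹ * (x * (hE * u1E * hE⁻¹)) * hE := by group
      _ = hE⁻¹ * (hE * u1E * hE⁻¹ * x) * hE := by rw [hx]
      _ = u1E * (hE⁻¹ * x * hE) := by group
  obtain ⟨k, hk⟩ := Subgroup.mem_zpowers_iff.mp (cent_u1E _ hy)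
  refine Subgroup.mem_zpowers_iff.mpr ⟨k, ?_⟩
  rw [wE_zpow, hk]
  group

theorem card_factor : (Nat.card ON).factorization 11 = 1 := by
  rw [card_ON]
  exact HeOut.factorization_of_eq 460815505920 11 1 41892318720 (by norm_num) (by norm_num)
    (by norm_num)

end Cfsg.Agent.Lib.helper17.OnOut
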