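import Cfsg.Agent.Lib.helper17.OnOut.Elems

set_option autoImplicit false

/-! The elements `cE` and `wE` generate the presented O'Nan group (helper17). -/

namespace Cfsg.Agent.Lib.helper17.OnOut

open Cfsg.Spor Cfsg.Agent.Lib.Helper12.TC Cfsg.Agent.Lib.Helper12.TCG
  Cfsg.Agent.Lib.Helper12.TCG.ONPres Cfsg.Agent.Lib.Helper12.TCG.ONx122760
  Cfsg.Agent.Lib.Helper12.Ord

/-- the words of `cE`, `wE` and their inverses -/
def sub2 (s : ℕ) : List ℕ := [cwL, wL, cinvL, winvL].getD s []

/-- the four elements as letters -/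
noncomputable def v2 (s : ℕ) : ON := wprod v (sub2 s)

/-- the action of the four elements -/
noncomputable def ap2 (s p : ℕ) : ℕ := evi apON (sub2 s) p

theorem sem2 : Sem rho v2 ap2 := sem_sub semON sub2

theorem ci_chk : eqB apON (cinvL ++ cwL) [] = true := by decide +kernel
theorem wi_chk : eqB apON (winvL ++ wL) [] = true := by decide +kernel

theorem v2_mem (s : ℕ) : v2 s ∈ Subgroup.closure ({cE, wE} : Set ON) := by
  have hc : cE ∈ Subgroup.closure ({cE, wE} : Set ON) := Subgroup.subset_closure (by simp)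
  have hw : wE ∈ Subgroup.closure ({cE, wE} : Set ON) := Subgroup.subset_closure (by simp)
  rcases s with _ | _ | _ | _ | s
  · exact hc
  · exact hw
  · have h := eq_of_eqB semON _ _ ci_chk
    rw [wprod_append, wprod_nil] at h
    have e : v2 2 = cE⁻¹ := eq_inv_of_mul_eq_one_left h
    rw [e]
    exact Subgroup.inv_mem _ hc
  · have h := eq_of_eqB semON _ _ wi_chk
    rw [wprod_append, wprod_nil] at h
    have e : v2 3 = wE⁻¹ := eq_inv_of_mul_eq_one_left h
    rw [e]
    exact Subgroup.inv_mem _ hw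
  · have e : v2 (s + 4) = 1 := rfl
    rw [e]
    exact Subgroup.one_mem _

theorem wprod_v2_mem (w : List ℕ) : wprod v2 w ∈ Subgroup.closure ({cE, wE} : Set ON) := by
  induction w with
  | nil => exact Subgroup.one_mem _
  | cons s w ih => rw [wprod_cons]; exact Subgroup.mul_mem _ (v2_mem s) ih

/-- the test of a generator at a base point -/
noncomputable def genQ (x : ℕ) (w : List ℕ) (b : ℕ) : Bool := Nat.beq (evi ap2 w b) (apON x b)

theorem gen_of_chk (x : ℕ) (w : List ℕ) (h1 : genQ x w 0 = true) (h2 : genQ x w 1 = true)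
    (h3 : genQ x w 116381 = true) : v x ∈ Subgroup.closure ({cE, wE} : Set ON) := by
  have e : v x = wprod v2 w := by
    apply eq_of_base
    · apply Fin.ext
      rw [semON x, sem_evw sem2, ← evi_eq]
      exact (Nat.eq_of_beq_eq_true h1).symm
    · apply Fin.ext
      rw [semON x, sem_evw sem2, ← evi_eq]
      exact (Nat.eq_of_beq_eq_true h2).symm
    · apply Fin.ext
      rw [semON x, sem_evw sem2, ← evi_eq]
      exact (Nat.eq_of_beq_eq_true h3).symm
  rw [e]
  exact wprod_v2_mem w

theorem g0_0 : genQ 0 gW0 0 = true := by decide +kernel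
theorem g0_1 : genQ 0 gW0 1 = true := by decide +kernel
theorem g0_2 : genQ 0 gW0 116381 = true := by decide +kernel
theorem g1_0 : genQ 1 gW1 0 = true := by decide +kernel
theorem g1_1 : genQ 1 gW1 1 = true := by decide +kernel
theorem g1_2 : genQ 1 gW1 116381 = true := by decide +kernel
theorem g2_0 : genQ 2 gW2 0 = true := by decide +kernel
theorem g2_1 : genQ 2 gW2 1 = true := by decide +kernel
theorem g2_2 : genQ 2 gW2 116381 = true := by decide +kernel
theorem g3_0 : genQ 3 gW3 0 = true := by decide +kernel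
theorem g3_1 : genQ 3 gW3 1 = true := by decide +kernel
theorem g3_2 : genQ 3 gW3 116381 = true := by decide +kernel
theorem g4_0 : genQ 4 gW4 0 = true := by decide +kernel
theorem g4_1 : genQ 4 gW4 1 = true := by decide +kernel
theorem g4_2 : genQ 4 gW4 116381 = true := by decide +kernel
theorem g5_0 : genQ 5 gW5 0 = true := by decide +kernel
theorem g5_1 : genQ 5 gW5 1 = true := by decide +kernel
theorem g5_2 : genQ 5 gW5 116381 = true := by decide +kernel
theorem g6_0 : genQ 6 gW6 0 = true := by decide +kernel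
theorem g6_1 : genQ 6 gW6 1 = true := by decide +kernel
theorem g6_2 : genQ 6 gW6 116381 = true := by decide +kernel

theorem gens_mem : ∀ x < 8, v x ∈ Subgroup.closure ({cE, wE} : Set ON) := by
  intro x hx
  interval_cases x
  · exact gen_of_chk 0 gW0 g0_0 g0_1 g0_2
  · exact gen_of_chk 1 gW1 g1_0 g1_1 g1_2
  · exact gen_of_chk 2 gW2 g2_0 g2_1 g2_2
  · exact gen_of_chk 3 gW3 g3_0 g3_1 g3_2
  · exact gen_of_chk 4 gW4 g4_0 g4_1 g4_2
  · exact gen_of_chk 5 gW5 g5_0 g5_1 g5_2
  · exact gen_of_chk 6 gW6 g6_0 g6_1 g6_2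
  · have e : v 7 = (v 6)⁻¹ := rfl
    rw [e]
    exact Subgroup.inv_mem _ (gen_of_chk 6 gW6 g6_0 g6_1 g6_2)

theorem closure_cw : Subgroup.closure ({cE, wE} : Set ON) = ⊤ := by
  rw [eq_top_iff]
  intro γ _
  have h := hgen γ
  refine (Subgroup.closure_le _).mpr ?_ h
  rintro y ⟨x, hx, rfl⟩
  exact gens_mem x hx

end Cfsg.Agent.Lib.helper17.OnOut
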