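import Cfsg.Agent.Lib.helper17.OnOut.Elems

set_option autoImplicit false

/-! The outer automorphism of the presented O'Nan group: it fixes `cE` and maps `wE` to its 11th
power (helper17). -/

namespace Cfsg.Agent.Lib.helper17.OnOut

open Cfsg.Spor Cfsg.Agent.Lib.Helper12.TC Cfsg.Agent.Lib.Helper12.TCG
  Cfsg.Agent.Lib.Helper12.TCG.ONPres Cfsg.Agent.Lib.Helper12.TCG.ONx122760
  Cfsg.Agent.Lib.Helper12.Ord

/-- the universal property of the presented group, for any group as the target (after `hlift` of
helper12) -/
theorem hliftG {K : Type*} [Group K] (f : ℕ → K) (h7 : f 7 = (f 6)⁻¹)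
    (hw : ∀ b ∈ baseL, wprod f b = 1) :
    ∃ ρ : ON →* K, ∀ x < 8, ρ (v x) = f x := by
  let φ : FreeGroup ON.Gen →* K := FreeGroup.lift (fun y => f (idx y))
  have hφ : ∀ y, φ (FreeGroup.of y) = f (idx y) := fun y => FreeGroup.lift_apply_of
  have hvf : ∀ i < 8, vOf (fun y => φ (FreeGroup.of y)) i = f i := by
    intro i hi
    interval_cases i
    · exact hφ _
    · exact hφ _
    · exact hφ _
    · exact hφ _
    · exact hφ _
    · exact hφ _
    · exact hφ _
    · show (φ (FreeGroup.of ON.Gen.g))⁻¹ = f 7
      rw [hφ, h7]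
      rfl
  have hwv : ∀ l : List ℕ, (∀ s ∈ l, s < 8) →
      wprod (vOf (fun y => φ (FreeGroup.of y))) l = wprod f l := by
    intro l
    induction l with
    | nil => intro _; rfl
    | cons s l ih =>
      intro hl
      rw [wprod_cons, wprod_cons, ih (fun t ht => hl t (List.mem_cons_of_mem _ ht)),
        hvf s (hl s List.mem_cons_self)]
  have hw' : ∀ b ∈ baseL, wprod (vOf (fun y => φ (FreeGroup.of y))) b = 1 := by
    intro b hb
    rw [hwv b (fun s hs => lettersK_lt ONPres.hlet hb hs)]
    exact hw b hb
  have hsq : ∀ y ∈ coxNodes ON.edges, φ (FreeGroup.of y) * φ (FreeGroup.of y) = 1 := by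
    intro y hy
    obtain ⟨i, hi, rfl⟩ := nodes_cases y hy
    have h1 := hw' [i, i] (by
      interval_cases i <;> decide)
    rw [wprod_cons, wprod_cons, wprod_nil, mul_one, vOf_gen φ (by omega)] at h1
    exact h1
  have hrel : ∀ r ∈ rels, φ r = 1 := by
    intro r hr
    rcases hr with hr | hr
    · refine cox_hom_of_words' φ hsq (fun b hb => ?_) r hr
      have hl : ∀ s ∈ b, s < 6 := by
        intro s hs
        have : lettersK 6 (coxWords ON.edges gen 6) = true := by decide
        exact lettersK_lt this hb hs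
      rw [← wprod_vOf_of_lt φ b hl]
      exact hw' b (List.mem_append_left _ hb)
    · exact (hextra φ hsq).mpr (fun b hb =>
        hw' b (List.mem_append_right _ (List.mem_append_left _ hb))) r hr
  refine ⟨PresentedGroup.toGroup hrel, ?_⟩
  intro x hx
  have hof : ∀ y, PresentedGroup.toGroup hrel (PresentedGroup.mk rels (FreeGroup.of y)) = f (idx y) :=
    fun y => PresentedGroup.toGroup.of hrel
  interval_cases x
  · exact hof _
  · exact hof _
  · exact hof _
  · exact hof _
  · exact hof _
  · exact hof _
  · exact hof _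
  · show PresentedGroup.toGroup hrel ((PresentedGroup.mk rels (FreeGroup.of ON.Gen.g))⁻¹) = f 7
    rw [map_inv, hof, h7]
    rfl

/-- the images of the letters under the outer automorphism, as words -/
def simg (s : ℕ) : List ℕ := [sW0, sW1, sW2, sW3, sW4, sW5, sW6, sW7].getD s []

/-- the images of the letters -/
noncomputable def v3 (s : ℕ) : ON := wprod v (simg s)

/-- the action of the images of the letters -/
noncomputable def ap3 (s p : ℕ) : ℕ := evi apON (simg s) p

theorem sem3 : Sem rho v3 ap3 := sem_sub semON simg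

theorem rel_chk : allListK baseL (fun b => eqB ap3 b []) = true := by decide +kernel

theorem s7_chk : eqB apON (sW7 ++ sW6) [] = true := by decide +kernel

theorem sc_chk : eqB apON (cwL.flatMap simg) cwL = true := by decide +kernel

theorem sw_chk : eqB apON (wL.flatMap simg) (List.replicate 11 wL).flatten = true := by
  decide +kernel

theorem v3_7 : v3 7 = (v3 6)⁻¹ := by
  have h := eq_of_eqB semON _ _ s7_chk
  rw [wprod_append, wprod_nil] at h
  exact eq_inv_of_mul_eq_one_left h

theorem exists_sigma : ∃ φ : ON →* ON, ∀ x < 8, φ (v x) = v3 x :=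
  hliftG v3 v3_7 (fun b hb =>
    (eq_of_eqB sem3 b [] ((allListK_iff _ _).mp rel_chk b hb)).trans (wprod_nil v3))

/-- the endomorphism -/
noncomputable def sigmaHom : ON →* ON := exists_sigma.choose

theorem sigmaHom_v (x : ℕ) (hx : x < 8) : sigmaHom (v x) = v3 x :=
  exists_sigma.choose_spec x hx

theorem sigmaHom_word (w : List ℕ) (hl : ∀ s ∈ w, s < 8) :
    sigmaHom (wprod v w) = wprod v (w.flatMap simg) := by
  rw [← wprod_flatMap]
  induction w with
  | nil => rw [wprod_nil, map_one]; rfl
  | cons s w ih =>
    rw [wprod_cons, map_mul, sigmaHom_v s (hl s List.mem_cons_self),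
      ih (fun t ht => hl t (List.mem_cons_of_mem _ ht)), wprod_cons]
    rfl

theorem sigmaHom_cE : sigmaHom cE = cE := by
  rw [cE, sigmaHom_word cwL (by decide)]
  exact eq_of_eqB semON _ _ sc_chk

theorem sigmaHom_wE : sigmaHom wE = wE ^ 11 := by
  rw [wE, sigmaHom_word wL (by decide), ← wprod_replicate]
  exact eq_of_eqB semON _ _ sw_chk

theorem sigmaHom_injective : Function.Injective sigmaHom := by
  have := ONSimple.isSimpleGroup
  rw [← MonoidHom.ker_eq_bot_iff]
  rcases (MonoidHom.normal_ker sigmaHom).eq_bot_or_eq_top with h | h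
  · exact h
  · exfalso
    have h0 : cE ∈ sigmaHom.ker := by rw [h]; exact Subgroup.mem_top _
    rw [MonoidHom.mem_ker, sigmaHom_cE] at h0
    exact cE_ne h0

/-- the outer automorphism -/
noncomputable def sigma : MulAut ON :=
  MulEquiv.ofBijective sigmaHom
    ⟨sigmaHom_injective, Finite.injective_iff_surjective.mp sigmaHom_injective⟩

theorem sigma_cE : sigma cE = cE := sigmaHom_cE

theorem sigma_wE : sigma wE = wE ^ 11 := sigmaHom_wE

end Cfsg.Agent.Lib.helper17.OnOut
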