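import Cfsg.Agent.Lib.helper17.OnOut.Gen
import Cfsg.Agent.Lib.helper17.OnOut.Sigma

set_option autoImplicit false

/-! The outer automorphism group of the presented O'Nan group has order 2 (helper17). -/

namespace Cfsg.Agent.Lib.helper17.OnOut

open Cfsg.Spor

theorem out_on : Nat.card (Cfsg.Out Cfsg.Spor.ON) = 2 :=
  out_card_two_of_rigid cE wE sigma card_factor cE_order cent_cE wE_20 wE_10 wE_4 wE_conj cent_wE
    closure_cw sigma_cE sigma_wE

end Cfsg.Agent.Lib.helper17.OnOut
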