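import Cfsg.Agent.Lib.helper17.HeOut.Core2

set_option autoImplicit false

/-! Kernel-evaluated Schreier walks in a permutation group given by tables, and their meaning
(helper17). -/

namespace Cfsg.Agent.Lib.helper17.OnOut

open Cfsg.Agent.Lib.Helper12.TC

/-- entry of a table with 17 bits per point, given in blocks of 512 points by the function `sel`; the
point should be given as a numeral -/
def lkT (sel : ℕ → ℕ) (p : ℕ) : ℕ :=
  forceN (Nat.shiftRight p 9) fun j =>
    Nat.land (Nat.shiftRight (sel j) (Nat.mul 17 (Nat.land p 511))) 131071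

/-- entry of a table with 4 bits per point, given in blocks of 4096 points by the function `sel`; the
point should be given as a numeral -/
def lkS (sel : ℕ → ℕ) (p : ℕ) : ℕ :=
  forceN (Nat.shiftRight p 12) fun j =>
    Nat.land (Nat.shiftRight (sel j) (Nat.mul 4 (Nat.land p 4095))) 15

/-- the action of a word on a point, the head letter acting last; each value is computed before the
next letter is applied -/
def evw (ap : ℕ → ℕ → ℕ) (w : List ℕ) (p : ℕ) : ℕ :=
  @List.rec ℕ (fun _ => ℕ) p (fun s _ ih => forceN ih fun x => ap s x) w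

theorem evw_nil (ap : ℕ → ℕ → ℕ) (p : ℕ) : evw ap [] p = p := rfl

theorem evw_cons (ap : ℕ → ℕ → ℕ) (s : ℕ) (w : List ℕ) (p : ℕ) :
    evw ap (s :: w) p = ap s (evw ap w p) := by
  show forceN (evw ap w p) (fun x => ap s x) = _
  rw [forceN_eq]

theorem evw_append (ap : ℕ → ℕ → ℕ) (w u : List ℕ) (p : ℕ) :
    evw ap (w ++ u) p = evw ap w (evw ap u p) := by
  induction w with
  | nil => rfl
  | cons s w ih => rw [List.cons_append, evw_cons, evw_cons, ih]

/-- the action of a word on a point, the head letter acting first, each value computed before the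
next step -/
def evr (ap : ℕ → ℕ → ℕ) (w : List ℕ) : ℕ → ℕ :=
  @List.rec ℕ (fun _ => ℕ → ℕ) (fun p => p) (fun s _ ih p => forceN (ap s p) ih) w

theorem evr_nil (ap : ℕ → ℕ → ℕ) (p : ℕ) : evr ap [] p = p := rfl

theorem evr_cons (ap : ℕ → ℕ → ℕ) (s : ℕ) (w : List ℕ) (p : ℕ) :
    evr ap (s :: w) p = evr ap w (ap s p) := by
  show forceN (ap s p) (evr ap w) = _
  rw [forceN_eq]

theorem evr_eq (ap : ℕ → ℕ → ℕ) (w : List ℕ) (p : ℕ) : evr ap w p = evw ap w.reverse p := by
  induction w generalizing p with
  | nil => rfl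
  | cons s w ih => rw [evr_cons, ih, List.reverse_cons, evw_append, evw_cons, evw_nil]

section Sem

variable {G : Type*} [Group G] {n : ℕ} (ρ : G →* Equiv.Perm (Fin n)) (v : ℕ → G)
  (ap : ℕ → ℕ → ℕ)

/-- the letters act as the function `ap` says -/
def Sem : Prop := ∀ s : ℕ, ∀ p : Fin n, ((ρ (v s) p : Fin n) : ℕ) = ap s p.1

variable {ρ v ap}

theorem sem_evw (hs : Sem ρ v ap) (w : List ℕ) (p : Fin n) :
    ((ρ (wprod v w) p : Fin n) : ℕ) = evw ap w p.1 := by
  induction w with
  | nil => rw [wprod_nil, map_one]; rfl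
  | cons s w ih =>
    rw [wprod_cons, map_mul, Equiv.Perm.mul_apply, hs s, ih, evw_cons]

theorem sem_evr (hs : Sem ρ v ap) (w : List ℕ) (p : Fin n) :
    ((ρ (wprod v w.reverse) p : Fin n) : ℕ) = evr ap w p.1 := by
  rw [evr_eq, sem_evw hs]

/-- the value of the image of a point, given as a number below `n` -/
theorem sem_evw_lt (hs : Sem ρ v ap) (w : List ℕ) (p : ℕ) (hp : p < n) : evw ap w p < n := by
  have := sem_evw hs w ⟨p, hp⟩
  rw [← this]
  exact (ρ (wprod v w) ⟨p, hp⟩).2

end Sem

/-! ### walks -/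

/-- the choice between two values, as the kernel evaluates it fastest -/
theorem brec_eq_cond {α : Sort*} (f t : α) (b : Bool) :
    @Bool.rec (fun _ => α) f t b = cond b t f := by
  cases b <;> rfl

/-- walk from `cur` to `root` along the Schreier vector `sv`, with letters below `L` only, carrying
two points along; the walk fails (`false`) if it runs out of fuel or meets a bad letter -/
def walk2 (ap : ℕ → ℕ → ℕ) (sv : ℕ → ℕ) (L root : ℕ) (k : ℕ → ℕ → Bool) (fuel : ℕ) : ℕ → ℕ → ℕ → Bool :=
  @Nat.rec (fun _ => ℕ → ℕ → ℕ → Bool) (fun _ _ _ => false)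
    (fun _ ih cur y1 y2 =>
      @Bool.rec (fun _ => Bool)
        (forceN (sv cur) fun s =>
          @Bool.rec (fun _ => Bool) false
            (forceN (ap s cur) fun c' => forceN (ap s y1) fun y1' => forceN (ap s y2) fun y2' =>
              ih c' y1' y2')
            (Nat.ble (Nat.succ s) L))
        (k y1 y2)
        (Nat.beq cur root))
    fuel

theorem walk2_succ (ap : ℕ → ℕ → ℕ) (sv : ℕ → ℕ) (L root : ℕ) (k : ℕ → ℕ → Bool) (fuel cur y1 y2 : ℕ) :
    walk2 ap sv L root k (fuel + 1) cur y1 y2 =
      cond (Nat.beq cur root) (k y1 y2)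
        (cond (Nat.blt (sv cur) L)
          (walk2 ap sv L root k fuel (ap (sv cur) cur) (ap (sv cur) y1)
            (ap (sv cur) y2)) false) := by
  show @Bool.rec (fun _ => Bool)
        (forceN (sv cur) fun s =>
          @Bool.rec (fun _ => Bool) false
            (forceN (ap s cur) fun c' => forceN (ap s y1) fun y1' => forceN (ap s y2) fun y2' =>
              walk2 ap sv L root k fuel c' y1' y2')
            (Nat.ble (Nat.succ s) L))
        (k y1 y2)
        (Nat.beq cur root) = _
  simp only [forceN_eq, brec_eq_cond]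
  rfl

/-- the same walk carrying one point -/
def walk1 (ap : ℕ → ℕ → ℕ) (sv : ℕ → ℕ) (L root : ℕ) (k : ℕ → Bool) (fuel : ℕ) : ℕ → ℕ → Bool :=
  @Nat.rec (fun _ => ℕ → ℕ → Bool) (fun _ _ => false)
    (fun _ ih cur y1 =>
      @Bool.rec (fun _ => Bool)
        (forceN (sv cur) fun s =>
          @Bool.rec (fun _ => Bool) false
            (forceN (ap s cur) fun c' => forceN (ap s y1) fun y1' => ih c' y1')
            (Nat.ble (Nat.succ s) L))
        (k y1)
        (Nat.beq cur root))
    fuel

theorem walk1_succ (ap : ℕ → ℕ → ℕ) (sv : ℕ → ℕ) (L root : ℕ) (k : ℕ → Bool) (fuel cur y1 : ℕ) :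
    walk1 ap sv L root k (fuel + 1) cur y1 =
      cond (Nat.beq cur root) (k y1)
        (cond (Nat.blt (sv cur) L)
          (walk1 ap sv L root k fuel (ap (sv cur) cur) (ap (sv cur) y1)) false) := by
  show @Bool.rec (fun _ => Bool)
        (forceN (sv cur) fun s =>
          @Bool.rec (fun _ => Bool) false
            (forceN (ap s cur) fun c' => forceN (ap s y1) fun y1' =>
              walk1 ap sv L root k fuel c' y1')
            (Nat.ble (Nat.succ s) L))
        (k y1)
        (Nat.beq cur root) = _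
  simp only [forceN_eq, brec_eq_cond]
  rfl

/-- the same walk carrying nothing -/
def walk0 (ap : ℕ → ℕ → ℕ) (sv : ℕ → ℕ) (L root : ℕ) (fuel : ℕ) : ℕ → Bool :=
  @Nat.rec (fun _ => ℕ → Bool) (fun _ => false)
    (fun _ ih cur =>
      @Bool.rec (fun _ => Bool)
        (forceN (sv cur) fun s =>
          @Bool.rec (fun _ => Bool) false (forceN (ap s cur) fun c' => ih c')
            (Nat.ble (Nat.succ s) L))
        true
        (Nat.beq cur root))
    fuel

theorem walk0_succ (ap : ℕ → ℕ → ℕ) (sv : ℕ → ℕ) (L root : ℕ) (fuel cur : ℕ) :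
    walk0 ap sv L root (fuel + 1) cur =
      cond (Nat.beq cur root) true
        (cond (Nat.blt (sv cur) L) (walk0 ap sv L root fuel (ap (sv cur) cur)) false) := by
  show @Bool.rec (fun _ => Bool)
        (forceN (sv cur) fun s =>
          @Bool.rec (fun _ => Bool) false (forceN (ap s cur) fun c' => walk0 ap sv L root fuel c')
            (Nat.ble (Nat.succ s) L))
        true
        (Nat.beq cur root) = _
  simp only [forceN_eq, brec_eq_cond]
  rfl

section Sound

variable {G : Type*} [Group G] {n : ℕ} {ρ : G →* Equiv.Perm (Fin n)} {v : ℕ → G}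
  {ap : ℕ → ℕ → ℕ}

theorem walk2_sound (hs : Sem ρ v ap) (S : Subgroup G) (sv : ℕ → ℕ) (L : ℕ) (hS : ∀ s < L, v s ∈ S)
    (root : Fin n) (k : ℕ → ℕ → Bool) :
    ∀ (fuel : ℕ) (cur y1 y2 : Fin n), walk2 ap sv L root.1 k fuel cur.1 y1.1 y2.1 = true →
      ∃ t ∈ S, ρ t root = cur ∧ k ((ρ t)⁻¹ y1).1 ((ρ t)⁻¹ y2).1 = true := by
  intro fuel
  induction fuel with
  | zero => intro cur y1 y2 h; exact absurd h (by simp [walk2])
  | succ fuel ih =>
    intro cur y1 y2 h
    rw [walk2_succ] at h
    cases hb : Nat.beq cur.1 root.1 with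
    | true =>
      rw [hb, cond_true] at h
      have e : cur = root := Fin.ext (Nat.eq_of_beq_eq_true hb)
      refine ⟨1, S.one_mem, ?_, ?_⟩
      · rw [map_one, e]; rfl
      · rw [map_one, inv_one]; exact h
    | false =>
      rw [hb, cond_false] at h
      cases hl : Nat.blt (sv cur.1) L with
      | false => rw [hl, cond_false] at h; exact absurd h (by simp)
      | true =>
        rw [hl, cond_true] at h
        have hsL : sv cur.1 < L := by rw [← Nat.blt_eq]; exact hl
        rw [← hs (sv cur.1) cur, ← hs (sv cur.1) y1, ← hs (sv cur.1) y2] at h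
        obtain ⟨t', ht', h1, h2⟩ := ih _ _ _ h
        refine ⟨(v (sv cur.1))⁻¹ * t', S.mul_mem (S.inv_mem (hS _ hsL)) ht', ?_, ?_⟩
        · rw [map_mul, map_inv, Equiv.Perm.mul_apply, h1]
          exact Equiv.Perm.inv_eq_iff_eq.mpr rfl
        · rw [map_mul, map_inv, mul_inv_rev, inv_inv, Equiv.Perm.mul_apply, Equiv.Perm.mul_apply]
          exact h2

theorem walk1_sound (hs : Sem ρ v ap) (S : Subgroup G) (sv : ℕ → ℕ) (L : ℕ) (hS : ∀ s < L, v s ∈ S)
    (root : Fin n) (k : ℕ → Bool) :
    ∀ (fuel : ℕ) (cur y1 : Fin n), walk1 ap sv L root.1 k fuel cur.1 y1.1 = true →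
      ∃ t ∈ S, ρ t root = cur ∧ k ((ρ t)⁻¹ y1).1 = true := by
  intro fuel
  induction fuel with
  | zero => intro cur y1 h; exact absurd h (by simp [walk1])
  | succ fuel ih =>
    intro cur y1 h
    rw [walk1_succ] at h
    cases hb : Nat.beq cur.1 root.1 with
    | true =>
      rw [hb, cond_true] at h
      have e : cur = root := Fin.ext (Nat.eq_of_beq_eq_true hb)
      refine ⟨1, S.one_mem, ?_, ?_⟩
      · rw [map_one, e]; rfl
      · rw [map_one, inv_one]; exact h
    | false =>
      rw [hb, cond_false] at h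
      cases hl : Nat.blt (sv cur.1) L with
      | false => rw [hl, cond_false] at h; exact absurd h (by simp)
      | true =>
        rw [hl, cond_true] at h
        have hsL : sv cur.1 < L := by rw [← Nat.blt_eq]; exact hl
        rw [← hs (sv cur.1) cur, ← hs (sv cur.1) y1] at h
        obtain ⟨t', ht', h1, h2⟩ := ih _ _ h
        refine ⟨(v (sv cur.1))⁻¹ * t', S.mul_mem (S.inv_mem (hS _ hsL)) ht', ?_, ?_⟩
        · rw [map_mul, map_inv, Equiv.Perm.mul_apply, h1]
          exact Equiv.Perm.inv_eq_iff_eq.mpr rfl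
        · rw [map_mul, map_inv, mul_inv_rev, inv_inv, Equiv.Perm.mul_apply]
          exact h2

theorem walk0_sound (hs : Sem ρ v ap) (S : Subgroup G) (sv : ℕ → ℕ) (L : ℕ) (hS : ∀ s < L, v s ∈ S)
    (root : Fin n) :
    ∀ (fuel : ℕ) (cur : Fin n), walk0 ap sv L root.1 fuel cur.1 = true →
      ∃ t ∈ S, ρ t root = cur := by
  intro fuel
  induction fuel with
  | zero => intro cur h; exact absurd h (by simp [walk0])
  | succ fuel ih =>
    intro cur h
    rw [walk0_succ] at h
    cases hb : Nat.beq cur.1 root.1 with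
    | true =>
      have e : cur = root := Fin.ext (Nat.eq_of_beq_eq_true hb)
      exact ⟨1, S.one_mem, by rw [map_one, e]; rfl⟩
    | false =>
      rw [hb, cond_false] at h
      cases hl : Nat.blt (sv cur.1) L with
      | false => rw [hl, cond_false] at h; exact absurd h (by simp)
      | true =>
        rw [hl, cond_true] at h
        have hsL : sv cur.1 < L := by rw [← Nat.blt_eq]; exact hl
        rw [← hs (sv cur.1) cur] at h
        obtain ⟨t', ht', h1⟩ := ih _ h
        refine ⟨(v (sv cur.1))⁻¹ * t', S.mul_mem (S.inv_mem (hS _ hsL)) ht', ?_⟩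
        rw [map_mul, map_inv, Equiv.Perm.mul_apply, h1]
        exact Equiv.Perm.inv_eq_iff_eq.mpr rfl

end Sound

end Cfsg.Agent.Lib.helper17.OnOut
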